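import Cfsg.Agent.Lib.Classical.Quad.Eichler
import Cfsg.Agent.Lib.Classical.Quad.Hyperbolic

/-!
# The stabiliser of a singular point in `Ω` of a quadratic space `F × F × U`

Owner: helper23. Part of the proof of the smallest degree of a non-linear representation of an
orthogonal group: the Eichler maps at `(1, 0, 0)`, the copy of `Ω(U)`, and scaling elements.
-/

set_option autoImplicit false
set_option maxHeartbeats 200000

namespace CfsgLib.OrthDeg

open Module CfsgLib.Classical.Quad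
open QuadraticMap (polar polarBilin)
open scoped commutatorElement

variable {F : Type*} [Field F] {U : Type*} [AddCommGroup U] [Module F U]
  (Q : QuadraticForm F U)

/-- `Ω` of the orthogonal sum of a hyperbolic plane and `U`. -/
abbrev Om : Subgroup (OQ (hyp Q)) := commutator (OQ (hyp Q))

variable {Q}

/-- An isometry as a linear map. -/
abbrev ev (g : OQ (hyp Q)) : (F × F × U) ≃ₗ[F] F × F × U := g.1

/-- An element of `Ω` as a linear map. -/
abbrev app (g : Om Q) : (F × F × U) ≃ₗ[F] F × F × U := ev (g : OQ (hyp Q))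

theorem hypExtend_apply (h : OQ Q) (z : F × F × U) :
    (ev (hypExtend Q h)) z = (z.1, z.2.1, (h : U ≃ₗ[F] U) z.2.2) := rfl

/-- The isometries of `U`, extended. -/
def extHom : OQ Q →* OQ (hyp Q) where
  toFun := hypExtend Q
  map_one' := Subtype.ext (LinearEquiv.ext fun z => rfl)
  map_mul' _ _ := Subtype.ext (LinearEquiv.ext fun z => rfl)

theorem extHom_apply (h : OQ Q) : extHom h = hypExtend Q h := rfl

theorem extHom_mem {h : OQ Q} (hh : h ∈ commutator (OQ Q)) : extHom h ∈ Om Q := by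
  have : (commutator (OQ Q)).map extHom ≤ commutator (OQ (hyp Q)) := by
    rw [commutator_def, Subgroup.map_commutator, commutator_def]
    exact Subgroup.commutator_mono le_top le_top
  exact this ⟨h, hh, rfl⟩

/-- The copy of `Ω(U)`. -/
def lev : commutator (OQ Q) →* Om Q where
  toFun h := ⟨extHom (h : OQ Q), extHom_mem h.2⟩
  map_one' := Subtype.ext (map_one extHom)
  map_mul' _ _ := Subtype.ext (map_mul extHom _ _)

theorem lev_apply (h : commutator (OQ Q)) (z : F × F × U) :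
    app (lev h) z = (z.1, z.2.1, ((h : OQ Q) : U ≃ₗ[F] U) z.2.2) := rfl

theorem app_mul (g h : Om Q) (z : F × F × U) : app (g * h) z = app g (app h z) := rfl

/-- The dilation of the hyperbolic plane. -/
def dil (μ : Fˣ) : OQ (hyp Q) :=
  ⟨(LinearEquiv.smulOfUnit μ).prodCongr
      ((LinearEquiv.smulOfUnit μ⁻¹).prodCongr (LinearEquiv.refl F U)), fun z _ => by
    show hyp Q ((μ : F) * z.1, ((μ⁻¹ : Fˣ) : F) * z.2.1, z.2.2) = hyp Q z
    rw [hyp_apply, hyp_apply, Units.val_inv_eq_inv_val]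
    field_simp⟩

theorem dil_apply (μ : Fˣ) (z : F × F × U) :
    (ev (dil (Q := Q) μ)) z = ((μ : F) * z.1, (μ : F)⁻¹ * z.2.1, z.2.2) := by
  show ((μ : F) * z.1, ((μ⁻¹ : Fˣ) : F) * z.2.1, z.2.2) = _
  rw [Units.val_inv_eq_inv_val]

variable [FiniteDimensional F U] (hQ : (polarBilin Q).Nondegenerate)
include hQ

omit [FiniteDimensional F U] hQ in
theorem polar_hv₀_mid (a : U) : polar (hyp Q) (hv₀ F U) ((0, 0, a) : F × F × U) = 0 := by
  simp [polar_hyp]

/-- The Eichler map at `(1, 0, 0)` of a vector of `U`, in the isometry group. -/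
noncomputable def xo (a : U) : OQ (hyp Q) :=
  eich (hyp_nondegenerate hQ) (hv₀_singular Q) (polar_hv₀_mid a)

theorem xo_apply (a : U) (z : F × F × U) :
    (ev (xo hQ a)) z =
      (z.1 + (polar Q z.2.2 a - Q a * z.2.1), z.2.1, z.2.2 + (-z.2.1) • a) := by
  rw [xo, eich_apply]
  refine Prod.ext ?_ (Prod.ext ?_ ?_) <;> simp [polar_hyp, hyp_apply]

theorem conj_xo (g : OQ (hyp Q)) (μ : F) (a b : U)
    (he : (ev (g)) (hv₀ F U) = μ • hv₀ F U)
    (ha : (ev (g)) ((0, 0, a) : F × F × U) = (0, 0, b)) :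
    g * xo hQ a * g⁻¹ = xo hQ (μ • b) := by
  rw [xo, eich_conj, eich_congr _ he ha, eich_smul_left _ (hv₀_singular Q) (polar_hv₀_mid b) μ, xo]
  exact eich_congr _ rfl (by simp)

variable [Finite F]

omit hQ in
theorem five_le : 3 ≤ finrank F U → 5 ≤ finrank F (F × F × U) := fun h => by simp; omega

variable (h3 : 3 ≤ finrank F U)
include h3

theorem xo_mem (a : U) : xo hQ a ∈ Om Q :=
  eich_mem_commutator (hyp_nondegenerate hQ) (five_le h3) _ _

/-- The Eichler map at `(1, 0, 0)` of a vector of `U`. -/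
noncomputable def xel (a : U) : Om Q := ⟨xo hQ a, xo_mem hQ h3 a⟩

theorem app_xel (a : U) (z : F × F × U) :
    app (xel hQ h3 a) z =
      (z.1 + (polar Q z.2.2 a - Q a * z.2.1), z.2.1, z.2.2 + (-z.2.1) • a) := xo_apply hQ a z

theorem xel_add (a b : U) : xel hQ h3 (a + b) = xel hQ h3 a * xel hQ h3 b := by
  refine Subtype.ext ?_
  show xo hQ (a + b) = xo hQ a * xo hQ b
  rw [xo, xo, xo, eich_mul]
  exact eich_congr _ rfl (by simp)

theorem xel_zero : xel hQ h3 0 = 1 :=
  mul_left_cancel (a := xel hQ h3 0) (by rw [← xel_add, add_zero, mul_one])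

theorem xel_injective : Function.Injective (xel hQ h3) := fun a b h => by
  have h' := congrArg (fun g : Om Q => (app g ((0 : F), (1 : F), (0 : U))).2.2) h
  simpa [app_xel] using h'

theorem lev_xel (h : commutator (OQ Q)) (a : U) :
    lev h * xel hQ h3 a = xel hQ h3 (((h : OQ Q) : U ≃ₗ[F] U) a) * lev h := by
  rw [← mul_inv_eq_iff_eq_mul]
  refine Subtype.ext ?_
  show extHom (h : OQ Q) * xo hQ a * (extHom (h : OQ Q))⁻¹ = _
  rw [conj_xo hQ _ 1 a (((h : OQ Q) : U ≃ₗ[F] U) a) _ (by rw [extHom_apply, hypExtend_apply]),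
    one_smul]
  · rfl
  · simp [extHom_apply, hypExtend_apply]

/-- Singular vectors of `U` give hyperbolic pairs, along which scaling elements of `Ω` exist. -/
theorem exists_scaling {p p' : U} (hp : Q p = 0) (hp' : Q p' = 0) (hpp : polar Q p p' = 1)
    (μ : Fˣ) : ∃ (K : Om Q) (h : OQ Q),
      ∀ a, K * xel hQ h3 a = xel hQ h3 ((μ : F) • (h : U ≃ₗ[F] U) a) * K := by
  obtain ⟨s, hs1, hs2⟩ := exists_map_pair hQ (p := (((0, 0, p) : F × F × U), (0, 0, p')))
    ⟨by simp [hyp_apply, hp], by simp [hyp_apply, hp'], by simp [polar_hyp, hpp]⟩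
  set g : OQ (hyp Q) := s * (dil μ)⁻¹ * s⁻¹ with hg
  have hfix : ∀ v : F × F × U, polar (hyp Q) v ((0, 0, p) : F × F × U) = 0 →
      polar (hyp Q) v ((0, 0, p') : F × F × U) = 0 → (ev (g)) v = v := by
    intro v h1 h2
    obtain ⟨y, rfl⟩ := (ev (s)).surjective v
    have hy1 : polar (hyp Q) y (hv₀ F U) = 0 := by rw [← OQ.map_polar s, hs1]; exact h1
    have hy2 : polar (hyp Q) y (hw₀ F U) = 0 := by rw [← OQ.map_polar s, hs2]; exact h2
    simp [polar_hyp] at hy1 hy2
    have hy : ev (dil (Q := Q) μ) y = y := by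
      rw [dil_apply, hy1, hy2]
      obtain ⟨y1, y2, y3⟩ := y
      simp at hy1 hy2 ⊢
      simp [hy1, hy2]
    show (ev (s)) ((ev (dil μ)).symm
      ((ev (s)).symm ((ev (s)) y))) = _
    rw [LinearEquiv.symm_apply_apply]
    congr 1
    rw [LinearEquiv.symm_apply_eq, hy]
  obtain ⟨h, hh⟩ := exists_extend_eq hQ g
    (hfix (hv₀ F U) (by simp [polar_hyp]) (by simp [polar_hyp]))
    (hfix (hw₀ F U) (by simp [polar_hyp]) (by simp [polar_hyp]))
  have hK : dil (Q := Q) μ * extHom h = ⁅dil (Q := Q) μ, s⁆ := by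
    rw [extHom_apply, hh, hg, commutatorElement_def]; group
  refine ⟨⟨⁅dil μ, s⁆,
    Subgroup.commutator_mem_commutator (Subgroup.mem_top _) (Subgroup.mem_top _)⟩, h, fun a => ?_⟩
  rw [← mul_inv_eq_iff_eq_mul]
  refine Subtype.ext ?_
  show ⁅dil μ, s⁆ * xo hQ a * ⁅dil μ, s⁆⁻¹ = _
  rw [← hK, conj_xo hQ _ (μ : F) a ((h : U ≃ₗ[F] U) a)]
  · rfl
  · show (ev (dil (Q := Q) μ)) ((ev (hypExtend Q h)) (hv₀ F U)) = _
    rw [hypExtend_apply, dil_apply]
    simp
  · show (ev (dil (Q := Q) μ)) ((ev (hypExtend Q h)) (0, 0, a)) = _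
    rw [hypExtend_apply, dil_apply]
    simp

/-- A subgroup normalised by `Ω` containing the Eichler maps at one point is everything. -/
theorem eq_top_of_xel_mem (H : Subgroup (Om Q)) [H.Normal] (hx : ∀ a, xel hQ h3 a ∈ H) :
    H = ⊤ := by
  have hn := five_le (F := F) h3
  have hH := hyp_nondegenerate hQ
  have hE := eichGroup_eq_commutator hH hn
  have hle : eichGroup hH ≤ H.map (Om Q).subtype := by
    refine (Subgroup.closure_le _).2 ?_
    rintro _ ⟨w, a, hw, ha, -, rfl⟩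
    by_cases hw0 : w = 0
    · subst hw0
      rw [eich_zero_left]
      exact one_mem _
    obtain ⟨s, hs, e⟩ := exists_move_singular hH hn (hv₀_singular Q)
      (by simp [Prod.ext_iff]) hw hw0
    rw [hE] at hs
    obtain ⟨b, hb⟩ := (ev (s)).surjective a
    have hb2 : b.2.1 = 0 := by
      have h : polar (hyp Q) (ev s (hv₀ F U)) (ev s b) = 0 :=
        (congrArg₂ (fun u v => polar (hyp Q) u v) e hb).trans ha
      have h' : polar (hyp Q) (hv₀ F U) b = 0 := (OQ.map_polar s _ _).symm.trans h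
      simpa [polar_hyp] using h'
    let g₀ : Om Q := ⟨s, hs⟩
    have hmem : g₀ * xel hQ h3 b.2.2 * g₀⁻¹ ∈ H :=
      Subgroup.Normal.conj_mem inferInstance (xel hQ h3 b.2.2) (hx b.2.2) g₀
    refine Subgroup.mem_map.2 ⟨g₀ * xel hQ h3 b.2.2 * g₀⁻¹, hmem, ?_⟩
    show s * xo hQ b.2.2 * s⁻¹ = eich hH hw ha
    subst hb
    subst e
    have hb' : ((0, 0, b.2.2) : F × F × U) + b.1 • hv₀ F U = b := by
      obtain ⟨b1, b2, b3⟩ := b
      simp only at hb2
      subst hb2
      simp
    have hpb : polar (hyp Q) (hv₀ F U) b = 0 := by simp [polar_hyp, hb2]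
    have e1 : xo hQ b.2.2 = eich hH (hv₀_singular Q) hpb := by
      rw [xo, ← eich_add_smul hH (hv₀_singular Q) (polar_hv₀_mid b.2.2) b.1]
      exact eich_congr hH rfl hb'
    rw [e1, eich_conj hH]
  rw [eq_top_iff]
  rintro g -
  obtain ⟨g', hg', e⟩ := hle (show (g : OQ (hyp Q)) ∈ eichGroup hH by rw [hE]; exact g.2)
  rwa [Subtype.ext e] at hg'

end CfsgLib.OrthDeg
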