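import Cfsg.Agent.Lib.Geo.OrthMinDeg.Pairs

/-!
# The divisibility from a long root element

Owner: helper23. If only singular weights occur, each once, the character at a long root element is
the degree minus a power of `q`, so the central character gives a divisibility.
-/

set_option autoImplicit false

namespace CfsgLib.OrthDeg

open Module CfsgLib.Classical.Quad CfsgLib.SLMinDeg
open QuadraticMap (polar polarBilin)

variable {F : Type*} [Field F] [Fintype F] [DecidableEq F]

/-- An additive character summed over the zeros of a form with a hyperbolic plane. -/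
theorem sum_zero_hyp {W : Type*} [AddCommGroup W] [Module F W] [Fintype W]
    (R : QuadraticForm F W) :
    ∑ z : F × F × W, (if hyp R z = 0 then chi0 F z.2.1 else 0) =
      (Fintype.card F : ℂ) * (zc R 0 : ℂ) - (Fintype.card W : ℂ) := by
  classical
  have hin : ∀ (b : F) (w : W), ∑ a : F, (if hyp R (a, b, w) = 0 then chi0 F b else 0) =
      if b = 0 then (if R w = 0 then (Fintype.card F : ℂ) else 0) else chi0 F b := by
    intro b w
    by_cases hb : b = 0
    · subst hb
      simp only [hyp_apply, mul_zero, zero_add, AddChar.map_zero_eq_one, if_true]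
      split_ifs <;> simp
    · rw [if_neg hb, Finset.sum_eq_single (-R w / b) (fun a _ ha => if_neg fun h => ha (by
        rw [hyp_apply] at h
        field_simp
        linear_combination h)) (by simp), if_pos]
      rw [hyp_apply, div_mul_cancel₀ _ hb, neg_add_cancel]
  rw [Fintype.sum_prod_type, Finset.sum_comm, Fintype.sum_prod_type]
  simp only [hin]
  have h0 : ∀ b : F, b ≠ 0 → ∑ _w : W, chi0 F b = (Fintype.card W : ℂ) * chi0 F b := fun b _ => by
    simp
  rw [← Finset.add_sum_erase _ _ (Finset.mem_univ (0 : F))]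
  simp only [if_true]
  rw [Finset.sum_congr rfl fun b hb => (Finset.sum_congr rfl fun w _ =>
      if_neg (Finset.ne_of_mem_erase hb)).trans (h0 b (Finset.ne_of_mem_erase hb)),
    ← Finset.mul_sum]
  have hchar : ∑ b ∈ (Finset.univ : Finset F).erase 0, chi0 F b = -1 := by
    have h := sum_chi0_comp (F := F) (LinearMap.id : F →ₗ[F] F) (by
      intro h
      exact one_ne_zero (LinearMap.congr_fun h (1 : F)))
    simp only [LinearMap.id_coe, id_eq] at h
    rw [← Finset.add_sum_erase _ _ (Finset.mem_univ (0 : F)), AddChar.map_zero_eq_one] at h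
    linear_combination h
  rw [hchar, Finset.sum_ite, Finset.sum_const, Finset.sum_const_zero, add_zero, nsmul_eq_mul,
    zc, Nat.card_eq_fintype_card, Fintype.card_subtype]
  ring

variable {A : Type*} [AddCommGroup A] [Module F A] [FiniteDimensional F A] [Fintype A]
  [DecidableEq A] {Q : QuadraticForm F A} (hQ : (polarBilin Q).Nondegenerate)
  (hA : 1 ≤ finrank F A)
  {V : Type*} [AddCommGroup V] [Module ℂ V] [FiniteDimensional ℂ V]
  (ρ : Representation ℂ (Om (q2 Q)) V)

include hQ hA

/-- The character at a long root element. -/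
theorem character_root
    (hpure : ∀ w : U2 F A, w ≠ 0 →
      mult (q2_nondeg hQ) (three_le_U2 hQ hA) ρ w = if q2 Q w = 0 then 1 else 0) :
    ρ.character (xel (q2_nondeg hQ) (three_le_U2 hQ hA) (vP F A)) =
      (finrank ℂ V : ℂ) - (Fintype.card F ^ (finrank F A + 3) : ℕ) := by
  classical
  set hn := q2_nondeg hQ
  set h3 := three_le_U2 hQ hA
  have hpsi : ∀ w : U2 F A, psi (q2 Q) w (vP F A) = chi0 F w.2.1 := fun w => by
    simp [psi, polar_hyp]
  have key : ∀ f : U2 F A → ℂ, f 0 = 1 → ∑ w, f w * (mult hn h3 ρ w : ℂ) =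
      (mult hn h3 ρ 0 : ℂ) + ((∑ w, if q2 Q w = 0 then f w else 0) - 1) := by
    intro f hf
    rw [← Finset.add_sum_erase _ _ (Finset.mem_univ (0 : U2 F A)),
      ← Finset.add_sum_erase _ _ (Finset.mem_univ (0 : U2 F A)), hf, one_mul,
      if_pos (QuadraticMap.map_zero _), add_sub_cancel_left]
    congr 1
    refine Finset.sum_congr rfl fun w hw => ?_
    rw [hpure w (Finset.ne_of_mem_erase hw)]
    split_ifs <;> simp
  have h1 := key (fun w => psi (q2 Q) w (vP F A)) (by rw [psi_zero_left])
  have h2 := key (fun _ => (1 : ℂ)) rfl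
  rw [← character_xel] at h1
  simp only [one_mul] at h2
  rw [← Nat.cast_sum, ← finrank_eq_sum] at h2
  simp only [hpsi] at h1
  rw [sum_zero_hyp] at h1
  rw [Finset.sum_boole, ← Fintype.card_subtype, ← Nat.card_eq_fintype_card] at h2
  change _ = _ + ((zc (q2 Q) 0 : ℂ) - 1) at h2
  rw [zc_hyp (hyp Q) 0] at h2
  have hq : 1 ≤ Nat.card F := Nat.card_pos
  push_cast [Nat.cast_sub hq] at h2
  simp only [Nat.card_eq_fintype_card] at h2
  rw [h1, h2, Fintype.card_prod, Fintype.card_prod, Module.card_eq_pow_finrank (K := F) (V := A)]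
  push_cast
  ring

/-- The degree divides a product read off from the class of a long root element. -/
theorem dvd_of_pure [ρ.IsIrreducible]
    (hpure : ∀ w : U2 F A, w ≠ 0 →
      mult (q2_nondeg hQ) (three_le_U2 hQ hA) ρ w = if q2 Q w = 0 then 1 else 0) :
    finrank ℂ V * (Fintype.card F ^ 2 - 1) ∣
      (zc (hyp (q2 Q)) 0 - 1) * (zc (q2 Q) 0 - 1) * Fintype.card F ^ (finrank F A + 3) := by
  set x := xel (q2_nondeg hQ) (three_le_U2 hQ hA) (vP F A) with hx
  set K := (CfsgLib.CharIntegral.classFinset x).card with hK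
  have hint := CfsgLib.CharIntegral.isIntegral_central ρ x
  rw [hx, character_root hQ hA ρ hpure, ← hx, ← CfsgLib.CharIntegral.card_classFinset, ← hK,
    mul_sub, sub_div, mul_div_assoc (K : ℂ) (finrank ℂ V : ℂ),
    div_self (CfsgLib.CharIntegral.finrank_cast_ne_zero ρ), mul_one, ← Nat.cast_mul] at hint
  have hint' : IsIntegral ℤ
      (((K * Fintype.card F ^ (finrank F A + 3) : ℕ) : ℂ) / (finrank ℂ V : ℂ)) := by
    have h := (isIntegral_algebraMap (R := ℤ) (A := ℂ) (x := (K : ℤ))).sub hint
    simpa using h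
  have hd := CfsgLib.CharIntegral.dvd_of_isIntegral_div
    (CfsgLib.CharIntegral.finrank_pos_of_irreducible ρ).ne' hint'
  have hm := card_class_mul hQ hA
  rw [← hx, ← hK] at hm
  have hm' : K * (Fintype.card F ^ 2 - 1) = (zc (hyp (q2 Q)) 0 - 1) * (zc (q2 Q) 0 - 1) := by
    refine Nat.eq_of_mul_eq_mul_left (Fintype.card_pos (α := F)) ?_
    rw [← mul_assoc, mul_comm (Fintype.card F) K, mul_assoc, hm]
    ring
  rw [← hm', mul_assoc K, mul_comm (Fintype.card F ^ 2 - 1), ← mul_assoc]
  exact Nat.mul_dvd_mul_right hd _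

end CfsgLib.OrthDeg
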