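import Cfsg.Agent.Lib.Geo.OrthMinDeg.Trace

/-!
# Stabilisers of weights with a one-dimensional weight space

Owner: helper23. A long root element fixing a weight of multiplicity one acts trivially on its
weight space, by a scaling argument or because it is a commutator in the stabiliser.
-/

set_option autoImplicit false

namespace CfsgLib.OrthDeg

open Module CfsgLib.Classical.Quad
open QuadraticMap (polar polarBilin)
open scoped commutatorElement

section General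

variable {F : Type*} [Field F] {U : Type*} [AddCommGroup U] [Module F U]
  {Q : QuadraticForm F U}

/-- The elements of `Ω(U)` fixing a weight. -/
def fixer (Q : QuadraticForm F U) (w : U) : Subgroup (commutator (OQ Q)) where
  carrier := {h | ((h : OQ Q) : U ≃ₗ[F] U) w = w}
  mul_mem' := fun {a b} ha hb => by
    show ((a : OQ Q) : U ≃ₗ[F] U) (((b : OQ Q) : U ≃ₗ[F] U) w) = w
    rw [hb, ha]
  one_mem' := rfl
  inv_mem' := fun {a} ha => by
    show ((a : OQ Q) : U ≃ₗ[F] U).symm w = w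
    rw [LinearEquiv.symm_apply_eq, ha]

theorem mem_fixer {w : U} {h : commutator (OQ Q)} :
    h ∈ fixer Q w ↔ ((h : OQ Q) : U ≃ₗ[F] U) w = w := Iff.rfl

variable [Finite F] [FiniteDimensional F U] [Fintype U]
  (hQ : (polarBilin Q).Nondegenerate) (h3 : 3 ≤ finrank F U)
  {V : Type*} [AddCommGroup V] [Module ℂ V]
  (ρ : Representation ℂ (Om Q) V) {w : U}

include hQ h3

theorem exists_nu (hm : mult hQ h3 ρ w = 1) :
    ∃ ν : fixer Q w →* ℂˣ, ∀ (h : fixer Q w) (v : V), v ∈ LinearMap.range (E hQ h3 ρ w) →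
      ρ (lev (h : commutator (OQ Q))) v = (ν h : ℂ) • v := by
  obtain ⟨v₀, hv₀⟩ := finrank_eq_one_iff'.1 hm
  have hmem : ∀ (h : fixer Q w) (v : V), v ∈ LinearMap.range (E hQ h3 ρ w) →
      ρ (lev (h : commutator (OQ Q))) v ∈ LinearMap.range (E hQ h3 ρ w) := by
    rintro h v ⟨u, rfl⟩
    have := LinearMap.congr_fun (lev_mul_E hQ h3 ρ (h : commutator (OQ Q)) w) u
    rw [mem_fixer.1 h.2] at this
    exact ⟨_, this.symm⟩
  have hc : ∀ h : fixer Q w, ∃ c : ℂ, ρ (lev (h : commutator (OQ Q))) v₀.1 = c • v₀.1 := fun h => by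
    obtain ⟨c, hc⟩ := hv₀.2 ⟨_, hmem h v₀.1 v₀.2⟩
    exact ⟨c, (congrArg Subtype.val hc).symm⟩
  choose c hc using hc
  have hv0 : (v₀ : V) ≠ 0 := fun h => hv₀.1 (Subtype.ext h)
  let φ : fixer Q w →* ℂ :=
    { toFun := c
      map_one' := smul_left_injective ℂ hv0 (by
        show _ • (v₀ : V) = _ • (v₀ : V)
        rw [one_smul, ← hc, OneMemClass.coe_one, map_one, map_one, Module.End.one_apply])
      map_mul' := fun a b => smul_left_injective ℂ hv0 (by
        show _ • (v₀ : V) = _ • (v₀ : V)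
        rw [← hc, Subgroup.coe_mul, map_mul, map_mul, Module.End.mul_apply, hc, map_smul, hc,
          smul_smul, mul_comm]) }
  refine ⟨φ.toHomUnits, fun h v hv => ?_⟩
  obtain ⟨d, hd⟩ := hv₀.2 ⟨v, hv⟩
  have hd' : d • (v₀ : V) = v := congrArg Subtype.val hd
  rw [← hd', map_smul, hc, MonoidHom.coe_toHomUnits, smul_comm]
  rfl

/-- The trace of an element fixing the weight space vectors. -/
theorem trace_eq_mult {h : commutator (OQ Q)} [FiniteDimensional ℂ V]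
    (hfix : ∀ v ∈ LinearMap.range (E hQ h3 ρ w), ρ (lev h) v = v) :
    LinearMap.trace ℂ V (ρ (lev h) * E hQ h3 ρ w) = mult hQ h3 ρ w := by
  have : ρ (lev h) * E hQ h3 ρ w = E hQ h3 ρ w :=
    LinearMap.ext fun v => hfix _ (LinearMap.mem_range_self _ v)
  rw [this, trace_E]

/-- A commutator in the fixer acts trivially. -/
theorem fix_of_commutator (hm : mult hQ h3 ρ w = 1) {a b : commutator (OQ Q)}
    (ha : a ∈ fixer Q w) (hb : b ∈ fixer Q w) :
    ∀ v ∈ LinearMap.range (E hQ h3 ρ w), ρ (lev ⁅a, b⁆) v = v := by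
  obtain ⟨ν, hν⟩ := exists_nu hQ h3 ρ hm
  intro v hv
  have := hν ⁅(⟨a, ha⟩ : fixer Q w), (⟨b, hb⟩ : fixer Q w)⁆ v hv
  rw [map_commutatorElement,
    (commutatorElement_eq_one_iff_commute).2 (Commute.all (ν _) (ν _)), Units.val_one, one_smul] at this
  exact this

/-- Conjugation by a fixer does not change the scalar. -/
theorem fix_of_conj (hm : mult hQ h3 ρ w = 1) {a h x : commutator (OQ Q)}
    (ha : a ∈ fixer Q w) (hh : h ∈ fixer Q w) (hx : h * a * h⁻¹ = x * a) :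
    ∀ v ∈ LinearMap.range (E hQ h3 ρ w), ρ (lev x) v = v := by
  have : x = ⁅h, a⁆ := by rw [commutatorElement_def, hx, mul_inv_cancel_right]
  rw [this]
  exact fix_of_commutator hQ h3 ρ hm hh ha

end General

variable {F : Type*} [Field F] [Fintype F] {A : Type*} [AddCommGroup A] [Module F A]
  [FiniteDimensional F A] [Fintype A] {Q : QuadraticForm F A}
  (hQ : (polarBilin Q).Nondegenerate) (hA : 1 ≤ finrank F A)
  {V : Type*} [AddCommGroup V] [Module ℂ V] [FiniteDimensional ℂ V]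
  (ρ : Representation ℂ (Om (q2 Q)) V)

include hQ hA

theorem tel_add (ξ η : F) : tel hQ hA (ξ + η) = tel hQ hA ξ * tel hQ hA η := by
  refine Subtype.ext (Subtype.ext (LinearEquiv.ext fun z => ?_))
  show _ = ((tel hQ hA ξ : OQ (q2 Q)) : U2 F A ≃ₗ[F] U2 F A)
    (((tel hQ hA η : OQ (q2 Q)) : U2 F A ≃ₗ[F] U2 F A) z)
  rw [tel_apply, tel_apply, tel_apply]
  refine Prod.ext ?_ (Prod.ext ?_ (Prod.ext ?_ ?_)) <;> simp <;> ring

omit hA [Fintype A] in
/-- The square dilation of the second plane. -/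
theorem exists_dilR (μ : Fˣ) : ∃ h : commutator (OQ (q2 Q)),
    ∀ z, ((h : OQ (q2 Q)) : U2 F A ≃ₗ[F] U2 F A) z =
      (z.1, z.2.1, ((μ : F) * μ * z.2.2.1, ((μ : F) * μ)⁻¹ * z.2.2.2.1, z.2.2.2.2)) := by
  let f : (F × F × A) →ₗ[F] F × F × A :=
    { toFun := fun z => (z.2.1, z.1, z.2.2)
      map_add' := fun _ _ => rfl
      map_smul' := fun _ _ => rfl }
  let s : OQ (hyp Q) := ofPreserves (hyp_nondegenerate hQ) f fun z => by
    show z.2.1 * z.1 + Q z.2.2 = z.1 * z.2.1 + Q z.2.2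
    ring
  have hs : s⁻¹ = s := inv_eq_of_mul_eq_one_right (Subtype.ext (LinearEquiv.ext fun z => rfl))
  have hd : (dil (Q := Q) μ)⁻¹ = dil μ⁻¹ := inv_eq_of_mul_eq_one_right
    (Subtype.ext (LinearEquiv.ext fun z => by
      show ev (dil (Q := Q) μ) (ev (dil (Q := Q) μ⁻¹) z) = z
      rw [dil_apply, dil_apply, Units.val_inv_eq_inv_val]
      simp))
  refine ⟨⟨extHom ⁅dil μ, s⁆, extHom_mem (Subgroup.commutator_mem_commutator
    (Subgroup.mem_top _) (Subgroup.mem_top _))⟩, fun z => ?_⟩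
  show ev (extHom ⁅dil μ, s⁆) z = _
  rw [extHom_apply, hypExtend_apply]
  refine Prod.ext rfl (Prod.ext rfl ?_)
  show ev ⁅dil (Q := Q) μ, s⁆ z.2.2 = _
  rw [commutatorElement_def, hs, hd]
  show ev (dil (Q := Q) μ) (f (ev (dil (Q := Q) μ⁻¹) (f z.2.2))) = _
  rw [dil_apply, dil_apply, Units.val_inv_eq_inv_val]
  refine Prod.ext ?_ (Prod.ext ?_ rfl) <;> simp [f] <;> ring

/-- A scaling element fixes any weight orthogonal to both singular vectors. -/
theorem fix_tel_of_card (hq : ∃ μ : Fˣ, (μ : F) * μ ≠ 1) {w : U2 F A}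
    (hm : mult (q2_nondeg hQ) (three_le_U2 hQ hA) ρ w = 1) (h1 : w.2.1 = 0)
    (h2 : w.2.2.2.1 = 0) (ξ : F) :
    ∀ v ∈ LinearMap.range (E (q2_nondeg hQ) (three_le_U2 hQ hA) ρ w),
      ρ (lev (tel hQ hA ξ)) v = v := by
  obtain ⟨μ, hμ⟩ := hq
  obtain ⟨d, hd⟩ := exists_dilR hQ μ
  obtain ⟨w1, w2, w3, w4, w5⟩ := w
  simp only at h1 h2
  subst h1 h2
  set m : F := (μ : F) * μ with hmdef
  have hm0 : m ≠ 0 := mul_ne_zero (Units.ne_zero _) (Units.ne_zero _)
  -- an element scaling the long root elements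
  obtain ⟨h, hh, hconj⟩ : ∃ h : commutator (OQ (q2 Q)),
      h ∈ fixer (q2 Q) (w1, 0, (w3, 0, w5)) ∧
      ∀ η, h * tel hQ hA η * h⁻¹ = tel hQ hA (m * η) := by
    have hdT : ∀ η, d * tel hQ hA η = tel hQ hA (m * η) * d := fun η => by
      refine Subtype.ext (Subtype.ext (LinearEquiv.ext fun z => ?_))
      show ((d : OQ (q2 Q)) : U2 F A ≃ₗ[F] U2 F A)
          (((tel hQ hA η : OQ (q2 Q)) : U2 F A ≃ₗ[F] U2 F A) z) =
        ((tel hQ hA (m * η) : OQ (q2 Q)) : U2 F A ≃ₗ[F] U2 F A)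
          (((d : OQ (q2 Q)) : U2 F A ≃ₗ[F] U2 F A) z)
      rw [hd, tel_apply, tel_apply, hd]
      refine Prod.ext ?_ (Prod.ext ?_ (Prod.ext ?_ (Prod.ext ?_ ?_))) <;>
        simp <;> field_simp <;> ring
    by_cases hw1 : w1 = 0
    · obtain ⟨f, hf⟩ : ∃ f : commutator (OQ (q2 Q)),
          ∀ z, ((f : OQ (q2 Q)) : U2 F A ≃ₗ[F] U2 F A) z =
            (m * z.1, m⁻¹ * z.2.1, z.2.2) := by
        let g : (U2 F A) →ₗ[F] U2 F A :=
          { toFun := fun z => (z.2.2.1, z.2.2.2.1, (z.1, z.2.1, z.2.2.2.2))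
            map_add' := fun _ _ => rfl
            map_smul' := fun _ _ => rfl }
        let s : OQ (q2 Q) := ofPreserves (q2_nondeg hQ) g fun z => by
          show z.2.2.1 * z.2.2.2.1 + (z.1 * z.2.1 + Q z.2.2.2.2) =
            z.1 * z.2.1 + (z.2.2.1 * z.2.2.2.1 + Q z.2.2.2.2)
          ring
        have hs : s⁻¹ = s :=
          inv_eq_of_mul_eq_one_right (Subtype.ext (LinearEquiv.ext fun z => rfl))
        refine ⟨⟨s * (d : OQ (q2 Q)) * s⁻¹,
          Subgroup.Normal.conj_mem inferInstance _ d.2 s⟩, fun z => ?_⟩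
        show ((s * (d : OQ (q2 Q)) * s⁻¹ : OQ (q2 Q)) : U2 F A ≃ₗ[F] U2 F A) z = _
        rw [hs]
        show g (((d : OQ (q2 Q)) : U2 F A ≃ₗ[F] U2 F A) (g z)) = _
        rw [hd]
        rfl
      refine ⟨f, mem_fixer.2 (by rw [hf, hw1]; simp), fun η => ?_⟩
      rw [mul_inv_eq_iff_eq_mul]
      refine Subtype.ext (Subtype.ext (LinearEquiv.ext fun z => ?_))
      show ((f : OQ (q2 Q)) : U2 F A ≃ₗ[F] U2 F A)
          (((tel hQ hA η : OQ (q2 Q)) : U2 F A ≃ₗ[F] U2 F A) z) =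
        ((tel hQ hA (m * η) : OQ (q2 Q)) : U2 F A ≃ₗ[F] U2 F A)
          (((f : OQ (q2 Q)) : U2 F A ≃ₗ[F] U2 F A) z)
      rw [hf, tel_apply, tel_apply, hf]
      refine Prod.ext ?_ (Prod.ext ?_ (Prod.ext ?_ ?_)) <;> simp <;> field_simp <;> ring
    · set t : F := w3 / w1 with ht
      have hR : q2 Q (vR F A) = 0 := by simp [hyp_apply]
      have hp : polar (q2 Q) (vR F A) (t • vP' F A) = 0 := by simp [polar_hyp]
      set g := eU hQ hA hR hp with hg
      have hgapp : ∀ z, ((g : OQ (q2 Q)) : U2 F A ≃ₗ[F] U2 F A) z =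
          (z.1, z.2.1 - t * z.2.2.2.1, (z.2.2.1 + t * z.1, z.2.2.2)) := fun z => by
        show (eich (q2_nondeg hQ) hR hp : U2 F A ≃ₗ[F] U2 F A) z = _
        rw [eich_apply]
        refine Prod.ext ?_ (Prod.ext ?_ (Prod.ext ?_ ?_)) <;>
          simp [polar_hyp, hyp_apply] <;> ring
      have hgT : ∀ η, g * tel hQ hA η = tel hQ hA η * g := fun η => by
        refine Subtype.ext (Subtype.ext (LinearEquiv.ext fun z => ?_))
        show ((g : OQ (q2 Q)) : U2 F A ≃ₗ[F] U2 F A)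
            (((tel hQ hA η : OQ (q2 Q)) : U2 F A ≃ₗ[F] U2 F A) z) =
          ((tel hQ hA η : OQ (q2 Q)) : U2 F A ≃ₗ[F] U2 F A)
            (((g : OQ (q2 Q)) : U2 F A ≃ₗ[F] U2 F A) z)
        rw [hgapp, tel_apply, tel_apply, hgapp]
        refine Prod.ext ?_ (Prod.ext ?_ (Prod.ext ?_ ?_)) <;> simp <;> ring
      have hfix : ((g : OQ (q2 Q)) : U2 F A ≃ₗ[F] U2 F A) (w1, 0, (0, 0, w5)) =
          (w1, 0, (w3, 0, w5)) := by
        rw [hgapp]
        simp [ht, div_mul_cancel₀ _ hw1]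
      refine ⟨g * d * g⁻¹, mem_fixer.2 ?_, fun η => ?_⟩
      · show ((g : OQ (q2 Q)) : U2 F A ≃ₗ[F] U2 F A) (((d : OQ (q2 Q)) : U2 F A ≃ₗ[F] U2 F A)
          (((g : OQ (q2 Q)) : U2 F A ≃ₗ[F] U2 F A).symm (w1, 0, (w3, 0, w5)))) = _
        rw [← hfix, LinearEquiv.symm_apply_apply, hd]
        simp
      · calc g * d * g⁻¹ * tel hQ hA η * (g * d * g⁻¹)⁻¹
            = g * (d * (g⁻¹ * tel hQ hA η * g) * d⁻¹) * g⁻¹ := by group
          _ = tel hQ hA (m * η) := by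
            rw [mul_assoc g⁻¹, ← hgT, inv_mul_cancel_left, hdT, mul_inv_cancel_right, hgT,
              mul_inv_cancel_right]
  intro v hv
  have hm1 : m - 1 ≠ 0 := sub_ne_zero.2 hμ
  have hfx : ∀ η, tel hQ hA η ∈ fixer (q2 Q) (w1, 0, (w3, 0, w5)) := fun η => by
    rw [mem_fixer, tel_apply]
    simp
  refine fix_of_conj (q2_nondeg hQ) (three_le_U2 hQ hA) ρ hm (hfx (ξ / (m - 1))) hh ?_ v hv
  rw [hconj, ← tel_add]
  congr 1
  field_simp
  ring

/-- A commutator of Eichler maps fixes a weight orthogonal to its ingredients. -/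
theorem fix_tel_of_pair {w : U2 F A} (hm : mult (q2_nondeg hQ) (three_le_U2 hQ hA) ρ w = 1)
    (h1 : w.2.1 = 0) (h2 : w.2.2.2.1 = 0) (ξ : F) {x y : A} (hx : polar Q w.2.2.2.2 x = 0)
    (hy : polar Q w.2.2.2.2 y = 0) (hxy : polar Q x y = -ξ) :
    ∀ v ∈ LinearMap.range (E (q2_nondeg hQ) (three_le_U2 hQ hA) ρ w),
      ρ (lev (tel hQ hA ξ)) v = v := by
  set gx : U2 F A := (0, 0, (0, 0, x)) with hgx
  set gy : U2 F A := (0, 0, (0, 0, y)) with hgy
  have hR : q2 Q (vR F A) = 0 := by simp [hyp_apply]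
  have hP : polar (q2 Q) (vP F A) gx = 0 := by simp [hgx, polar_hyp]
  have hR' : polar (q2 Q) (vR F A) gy = 0 := by simp [hgy, polar_hyp]
  set a := eU hQ hA q2_vP hP
  set b := eU hQ hA hR hR'
  have ha : a ∈ fixer (q2 Q) w := by
    rw [mem_fixer]
    show (eich (q2_nondeg hQ) q2_vP hP : U2 F A ≃ₗ[F] U2 F A) w = w
    rw [eich_apply]
    simp [hgx, polar_hyp, h1, h2, hx]
  have hb : b ∈ fixer (q2 Q) w := by
    rw [mem_fixer]
    show (eich (q2_nondeg hQ) hR hR' : U2 F A ≃ₗ[F] U2 F A) w = w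
    rw [eich_apply]
    simp [hgy, polar_hyp, h1, h2, hy]
  have hab : ⁅a, b⁆ = tel hQ hA ξ := by
    rw [commutatorElement_def, mul_inv_eq_iff_eq_mul, mul_inv_eq_iff_eq_mul]
    refine Subtype.ext (Subtype.ext (LinearEquiv.ext fun z => ?_))
    show (eich (q2_nondeg hQ) q2_vP hP : U2 F A ≃ₗ[F] U2 F A)
        ((eich (q2_nondeg hQ) hR hR' : U2 F A ≃ₗ[F] U2 F A) z) =
      ((tel hQ hA ξ : OQ (q2 Q)) : U2 F A ≃ₗ[F] U2 F A)
        ((eich (q2_nondeg hQ) hR hR' : U2 F A ≃ₗ[F] U2 F A)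
          ((eich (q2_nondeg hQ) q2_vP hP : U2 F A ≃ₗ[F] U2 F A) z))
    rw [tel_apply]
    simp only [eich_apply]
    refine Prod.ext ?_ (Prod.ext ?_ (Prod.ext ?_ (Prod.ext ?_ ?_))) <;>
      simp [hgx, hgy, polar_hyp, hyp_apply, polar_add_left', polar_smul_left', polar_self',
        QuadraticMap.polar_comm (⇑Q) y x, hxy]
    all_goals first | ring | module
  rw [← hab]
  exact fix_of_commutator (q2_nondeg hQ) (three_le_U2 hQ hA) ρ hm ha hb

end CfsgLib.OrthDeg
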