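import Mathlib.Algebra.Ring.Int.Units
import Mathlib.RingTheory.Coprime.Lemmas
import Mathlib.Data.Int.ModEq
import Mathlib.Tactic

/-!
# Arithmetic for the minus type

Owner: helper23.
-/

set_option autoImplicit false

namespace CfsgLib.OrthDeg

/-- The bound for minus type, from dimension eight on. -/
def Bm (q : ℕ) : ℕ → ℕ
  | 0 => q ^ 5 + q
  | j + 1 => Bm q j + (q ^ (2 * j + 7) + q ^ (j + 3) - q ^ (j + 4))

theorem Bm_eq {q : ℕ} (hq : 1 ≤ q) (j : ℕ) :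
    (Bm q j : ℤ) * ((q : ℤ) ^ 2 - 1) =
      ((q : ℤ) ^ (j + 4) + 1) * ((q : ℤ) ^ (j + 3) - q) := by
  induction j with
  | zero => simp [Bm]; ring
  | succ j ih =>
    have hle : q ^ (j + 4) ≤ q ^ (2 * j + 7) + q ^ (j + 3) :=
      le_add_right (Nat.pow_le_pow_right hq (by omega))
    rw [Bm, Nat.cast_add, add_mul, ih]
    push_cast [Nat.cast_sub hle]
    ring

/-- The degree one below the bound. -/
theorem not_dvd_minus {q d k j : ℕ} (hq : 2 ≤ q) (hd : d + 1 = Bm q j) :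
    ¬ d * (q ^ 2 - 1) ∣ ((q ^ (2 * j + 7) + q ^ (j + 3) - q ^ (j + 4)) - 1) *
      ((q ^ (2 * j + 5) + q ^ (j + 2) - q ^ (j + 3)) - 1) * q ^ k := by
  intro h
  have hpow : ∀ i, 1 ≤ q ^ i := fun i => Nat.one_le_pow _ _ (by omega)
  have h1 : q ^ (j + 4) + 1 ≤ q ^ (2 * j + 7) + q ^ (j + 3) :=
    Nat.add_le_add (Nat.pow_le_pow_right (by omega) (by omega)) (hpow _)
  have h2 : q ^ (j + 3) + 1 ≤ q ^ (2 * j + 5) + q ^ (j + 2) :=
    Nat.add_le_add (Nat.pow_le_pow_right (by omega) (by omega)) (hpow _)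
  have hz := Int.natCast_dvd_natCast.2 h
  push_cast [Nat.cast_sub (hpow 2), Nat.cast_sub (show 1 ≤ q ^ (2 * j + 7) + q ^ (j + 3) -
    q ^ (j + 4) by omega), Nat.cast_sub (show q ^ (j + 4) ≤ q ^ (2 * j + 7) + q ^ (j + 3) by omega),
    Nat.cast_sub (show 1 ≤ q ^ (2 * j + 5) + q ^ (j + 2) - q ^ (j + 3) by omega),
    Nat.cast_sub (show q ^ (j + 3) ≤ q ^ (2 * j + 5) + q ^ (j + 2) by omega)] at hz
  have hB := Bm_eq (show 1 ≤ q by omega) j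
  rw [← hd] at hB
  push_cast at hB
  set Q : ℤ := (q : ℤ)
  set e : ℤ := Q ^ (j + 4) - Q ^ 2 - Q + 1 with he
  have hfac : (d : ℤ) * (Q ^ 2 - 1) = (Q ^ (j + 3) + 1) * e := by
    linear_combination hB
  have hQ2 : (2 : ℤ) ≤ Q := by simp only [Q]; exact_mod_cast hq
  have hY : Q ^ (j + 3) + 1 ≠ 0 := by
    have : (0 : ℤ) ≤ Q ^ (j + 3) := by positivity
    omega
  rw [hfac, show (Q ^ (2 * j + 7) + Q ^ (j + 3) - Q ^ (j + 4) - 1) *
      (Q ^ (2 * j + 5) + Q ^ (j + 2) - Q ^ (j + 3) - 1) * Q ^ k =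
      (Q ^ (j + 3) + 1) * ((Q ^ (j + 4) + 1) * (Q ^ (j + 3) - 1) * (Q ^ (j + 2) - 1) * Q ^ k) by
    ring] at hz
  have he1 := (mul_dvd_mul_iff_left hY).1 hz
  have hcop : IsCoprime e Q := ⟨1, -Q ^ (j + 3) + Q + 1, by rw [he]; ring⟩
  have he2 := (hcop.pow_right (n := k)).dvd_of_dvd_mul_right he1
  have he3 : e ∣ (Q ^ (j + 4) + 1) * (Q ^ (j + 3) - 1) * (Q ^ (j + 2) - 1) * Q ^ 3 :=
    he2.mul_right _
  have he4 : e ∣ (Q ^ (j + 4) + 1) * (Q ^ (j + 4) - Q) * (Q ^ (j + 4) - Q ^ 2) := by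
    convert he3 using 1
    ring
  have hmod : Q ^ (j + 4) ≡ Q ^ 2 + Q - 1 [ZMOD e] :=
    Int.modEq_iff_dvd.2 ⟨-1, by rw [he]; ring⟩
  have he5 := ((((hmod.add_right 1).mul (hmod.sub_right Q))).mul (hmod.sub_right (Q ^ 2))).dvd_iff.1 he4
  have he6 : e ∣ (Q ^ 2 - 1) ^ 2 * Q := he5.trans (dvd_of_eq (by ring))
  have he7 := hcop.dvd_of_dvd_mul_right he6
  have hQ4 : (4 : ℤ) ≤ Q ^ 2 := by nlinarith
  have hpos : 0 < (Q ^ 2 - 1) ^ 2 := pow_pos (by linarith) 2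
  have hle := Int.le_of_dvd hpos he7
  have : Q ^ 4 ≤ Q ^ (j + 4) := pow_le_pow_right₀ (by omega) (by omega)
  have hsq : (Q ^ 2 - 1) ^ 2 = Q ^ 4 - 2 * Q ^ 2 + 1 := by ring
  nlinarith

/-- The degree two below the bound in dimension eight. -/
theorem not_dvd_minus_eight {q d k : ℕ} (hq : 3 ≤ q) (hq2 : Odd q ∨ 4 ∣ q)
    (hd : d + 2 = q ^ 5 + q) :
    ¬ d * (q ^ 2 - 1) ∣ ((q ^ 7 + q ^ 3 - q ^ 4) - 1) * ((q ^ 5 + q ^ 2 - q ^ 3) - 1) * q ^ k := by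
  intro h
  have hpow : ∀ i, 1 ≤ q ^ i := fun i => Nat.one_le_pow _ _ (by omega)
  have h1 : q ^ 4 + 1 ≤ q ^ 7 + q ^ 3 :=
    Nat.add_le_add (Nat.pow_le_pow_right (by omega) (by omega)) (hpow _)
  have h2 : q ^ 3 + 1 ≤ q ^ 5 + q ^ 2 :=
    Nat.add_le_add (Nat.pow_le_pow_right (by omega) (by omega)) (hpow _)
  have hz := Int.natCast_dvd_natCast.2 h
  push_cast [Nat.cast_sub (hpow 2), Nat.cast_sub (show 1 ≤ q ^ 7 + q ^ 3 - q ^ 4 by omega),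
    Nat.cast_sub (show q ^ 4 ≤ q ^ 7 + q ^ 3 by omega),
    Nat.cast_sub (show 1 ≤ q ^ 5 + q ^ 2 - q ^ 3 by omega),
    Nat.cast_sub (show q ^ 3 ≤ q ^ 5 + q ^ 2 by omega)] at hz
  have hd' : (d : ℤ) + 2 = (q : ℤ) ^ 5 + q := by exact_mod_cast hd
  set Q : ℤ := (q : ℤ)
  have hQ : (3 : ℤ) ≤ Q := by simp only [Q]; exact_mod_cast hq
  set t : ℤ := Q ^ 3 + Q ^ 2 + Q + 1 with ht
  set e : ℤ := Q * t + 2 with he
  have hde : (d : ℤ) = (Q - 1) * e := by rw [he, ht]; linear_combination hd'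
  have hQ2 : Q ^ 2 - 1 ≠ 0 := by nlinarith
  rw [show (Q ^ 7 + Q ^ 3 - Q ^ 4 - 1) * (Q ^ 5 + Q ^ 2 - Q ^ 3 - 1) * Q ^ k =
    ((Q ^ 4 + 1) * (Q ^ 6 - 1) * Q ^ k) * (Q ^ 2 - 1) by ring] at hz
  have h3 := (mul_dvd_mul_iff_right hQ2).1 hz
  have h4 : (d : ℤ) ∣ 2 * (Q - 1) ^ 2 * Q ^ k := by
    have h5 : (d : ℤ) ∣ ((Q ^ 4 + 1) * (Q ^ 6 - 1) * Q ^ k) * Q := Dvd.dvd.mul_right h3 _
    have h6 : (d : ℤ) ∣ (d : ℤ) * (((Q ^ 6 - 1) + 2 * Q) * Q ^ k) := dvd_mul_right _ _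
    have h7 := dvd_sub h5 h6
    rw [← dvd_neg]
    refine h7.trans (dvd_of_eq ?_)
    linear_combination (-((Q ^ 6 - 1) * Q ^ k) - 2 * Q * Q ^ k) * hd'
  rw [hde, show 2 * (Q - 1) ^ 2 * Q ^ k = (Q - 1) * (2 * (Q - 1) * Q ^ k) by ring] at h4
  have h8 := (mul_dvd_mul_iff_left (by linarith : Q - 1 ≠ 0)).1 h4
  have ht0 : Q + 1 ≤ t := by rw [ht]; nlinarith
  have hbig : 2 * (Q - 1) < Q * t := by nlinarith
  rcases hq2 with hodd | h4q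
  · obtain ⟨s, hs⟩ := hodd
    have h2 : IsCoprime (2 : ℤ) Q := ⟨-(s : ℤ), 1, by
      simp only [Q, hs]
      push_cast
      ring⟩
    have hcop : IsCoprime e Q := by
      rw [he, add_comm]
      exact h2.add_mul_left_left t
    have h9 := hcop.pow_right.dvd_of_dvd_mul_right h8
    have := Int.le_of_dvd (by linarith) h9
    linarith
  · obtain ⟨s, hs⟩ := h4q
    have hsQ : Q = 4 * (s : ℤ) := by simp only [Q, hs]; push_cast; ring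
    set e' : ℤ := 1 + 2 * (s : ℤ) * t with he'
    have hee : e = 2 * e' := by rw [he, he', hsQ]; ring
    have hc : IsCoprime e' (2 * (s : ℤ)) := ⟨1, -t, by rw [he']; ring⟩
    have hcop : IsCoprime e' Q := by
      have h := hc.mul_right hc
      rw [show 2 * (s : ℤ) * (2 * (s : ℤ)) = Q * (s : ℤ) by rw [hsQ]; ring] at h
      exact h.of_mul_right_left
    rw [hee, show 2 * (Q - 1) * Q ^ k = 2 * ((Q - 1) * Q ^ k) by ring] at h8
    have h9 := hcop.pow_right.dvd_of_dvd_mul_right ((mul_dvd_mul_iff_left two_ne_zero).1 h8)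
    have := Int.le_of_dvd (by linarith) h9
    nlinarith

end CfsgLib.OrthDeg
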