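import Cfsg.Agent.Lib.Geo.OrthMinDeg.MinusTwoRep
import Cfsg.Agent.Lib.Geo.OrthMinDeg.MinusArith
import Cfsg.Agent.Lib.Geo.SLMin.Fixed

/-!
# The smallest degree for spaces of minus type

Owner: helper23.
-/

set_option autoImplicit false

namespace CfsgLib.OrthDeg

open Module CfsgLib.Classical CfsgLib.Classical.Quad CfsgLib.SLMinDeg
open QuadraticMap (polar polarBilin)

variable {F : Type*} [Field F] [Fintype F] {a b : F}
  (hab : ∀ z₁ z₂ : F, z₁ ^ 2 + a * z₁ * z₂ + b * z₂ ^ 2 = 0 → z₁ = 0 ∧ z₂ = 0)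

include hab

theorem zc_minus_zero (k : ℕ) :
    zc (qMinus k F a b) 0 = Fintype.card F ^ (2 * k + 1) + Fintype.card F ^ k -
      Fintype.card F ^ (k + 1) := by
  have h := card_zero_minus (F := F) rfl k hab
  rw [zc, coe_qMinus]
  have hle : Fintype.card F ^ (k + 1) ≤ Fintype.card F ^ (2 * k + 1) + Fintype.card F ^ k :=
    le_add_right (Nat.pow_le_pow_right Fintype.card_pos (by omega))
  zify [hle]
  exact h

theorem minus_aniso {v : (Fin 0 ⊕ Fin 0) ⊕ Fin 2 → F} (h : qMinus 0 F a b v = 0) : v = 0 := by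
  rw [coe_qMinus] at h
  simp [Cfsg.quadFormMinus] at h
  obtain ⟨h0, h1⟩ := hab _ _ h
  funext x
  rcases x with (i | i) | u
  · exact i.elim0
  · exact i.elim0
  · fin_cases u
    · exact h0
    · exact h1

theorem minus_surj (c : F) : ∃ v, qMinus 0 F a b v = c := by
  by_cases hc : c = 0
  · exact ⟨0, by rw [hc, QuadraticMap.map_zero]⟩
  · exact exists_apply_eq (qMinus_nondeg hab 0) (by simp) hc

theorem minus_gap {c : F} (hc : c ≠ 0) (k : ℕ) :
    zc (qMinus k F a b) 0 + 1 ≤ zc (qMinus k F a b) c := by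
  induction k with
  | zero =>
    rw [zc_minus_zero hab]
    obtain ⟨v, hv⟩ := minus_surj hab c
    have hv0 : v ≠ 0 := fun h => hc (by rw [← hv, h, QuadraticMap.map_zero])
    have hQ := qMinus_nondeg hab (F := F) 0
    obtain ⟨w, hw⟩ : ∃ w, polar (qMinus 0 F a b) v w ≠ 0 := by
      by_contra h
      push Not at h
      exact hv0 (hQ.1 v h)
    have hw0 : qMinus 0 F a b w ≠ 0 := fun h => hw (by
      rw [minus_aniso hab h, QuadraticMap.polar_zero_right])
    have hne : (Quad.refl hw0 : ((Fin 0 ⊕ Fin 0) ⊕ Fin 2 → F) ≃ₗ[F] _) v ≠ v := fun h => by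
      rw [refl_apply, sub_eq_self, smul_eq_zero] at h
      rcases h with h | h
      · exact mul_ne_zero (inv_ne_zero hw0) hw h
      · exact hw0 (by rw [h, QuadraticMap.map_zero])
    have : Nontrivial {u // qMinus 0 F a b u = c} :=
      ⟨⟨v, hv⟩, ⟨_, by rw [OQ.map_apply]; exact hv⟩, fun h => hne (congrArg Subtype.val h).symm⟩
    have := Finite.one_lt_card (α := {u // qMinus 0 F a b u = c})
    rw [zc]
    simp
    omega
  | succ k ih =>
    rw [zc_congr (minusSplit k F) (minusSplit_preserves k a b) 0,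
      zc_congr (minusSplit k F) (minusSplit_preserves k a b) c, zc_hyp, zc_hyp]
    have hq : 1 < Nat.card F := Finite.one_lt_card
    have := Nat.mul_le_mul_left (Nat.card F) ih
    rw [mul_add, mul_one] at this
    omega

theorem zc_minus_two_one (hF : Fintype.card F = 2) :
    zc (qMinus 2 F a b) 1 = 36 := by
  classical
  have h := zc_minus_zero hab 2
  rw [hF] at h
  norm_num at h
  have hcard : Fintype.card ((Fin 2 ⊕ Fin 2) ⊕ Fin 2 → F) = 64 := by simp [hF]
  have h2 := Finset.card_filter_add_card_filter_not (s := Finset.univ)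
    fun v : (Fin 2 ⊕ Fin 2) ⊕ Fin 2 → F => qMinus 2 F a b v = 0
  rw [Finset.card_univ, hcard] at h2
  rw [zc, Nat.card_eq_fintype_card, Fintype.card_subtype] at h ⊢
  have h3 : (Finset.univ.filter fun v : (Fin 2 ⊕ Fin 2) ⊕ Fin 2 → F => ¬ qMinus 2 F a b v = 0) =
      Finset.univ.filter fun v => qMinus 2 F a b v = 1 := by
    refine Finset.filter_congr fun v _ => ⟨eq_one_of_two hF, fun h1 => by rw [h1]; exact one_ne_zero⟩
  rw [h3] at h2
  omega

/-- The weak bound in dimension six. -/
theorem minDeg_minus_six :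
    MinDeg (commutator (OQ (qMinus 2 F a b))) (zc (qMinus 1 F a b) 0 - 1) := by
  classical
  let Q := qMinus 0 F a b
  let eU := minusSplit 0 F
  have heU : ∀ v, hyp Q (eU v) = qMinus 1 F a b v := minusSplit_preserves 0 a b
  let eV := (minusSplit 1 F).trans (hypCongr eU)
  have heV : ∀ v, hyp (hyp Q) (eV v) = qMinus 2 F a b v := fun v =>
    (hypCongr_preserves _ heU _).trans (minusSplit_preserves 1 a b v)
  have h := minDeg_base (qMinus_nondeg hab 0) (fun v => minus_aniso hab) (minus_surj hab)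
    (by simp) fun c hc => by
      have := minus_gap hab hc 1
      rw [← zc_congr eU heU, ← zc_congr eU heU]
      omega
  rw [← zc_congr eU heU] at h
  exact h.of_equiv (omegaCongr eV heV).symm

/-- The bound in dimension eight. -/
theorem minDeg_minus_eight :
    MinDeg (commutator (OQ (qMinus 3 F a b))) (Bm (Fintype.card F) 0) := by
  classical
  set q := Fintype.card F with hqdef
  have hq : 2 ≤ q := Fintype.one_lt_card
  let Q := qMinus 0 F a b
  have hQ : (polarBilin Q).Nondegenerate := qMinus_nondeg hab 0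
  let eU := (minusSplit 1 F).trans (hypCongr (minusSplit 0 F))
  have heU : ∀ v, q2 Q (eU v) = qMinus 2 F a b v := fun v =>
    (hypCongr_preserves _ (fun u => minusSplit_preserves 0 a b u) _).trans
      (minusSplit_preserves 1 a b v)
  let eV := (minusSplit 2 F).trans (hypCongr eU)
  have heV : ∀ v, hyp (q2 Q) (eV v) = qMinus 3 F a b v := fun v =>
    (hypCongr_preserves _ heU _).trans (minusSplit_preserves 2 a b v)
  refine (MinDeg.of_irreducible fun n ρ hρ hnt => ?_).of_equiv (omegaCongr eV heV).symm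
  haveI := hρ
  have hdim : finrank F ((Fin 0 ⊕ Fin 0) ⊕ Fin 2 → F) = 2 := by simp
  have hU0 : zc (q2 Q) 0 = q ^ 5 + q ^ 2 - q ^ 3 := by
    rw [← zc_congr eU heU, zc_minus_zero hab]
  have hV0 : zc (hyp (q2 Q)) 0 = q ^ 7 + q ^ 3 - q ^ 4 := by
    rw [← zc_congr eV heV, zc_minus_zero hab]
  have h6 : zc (qMinus 1 F a b) 0 = q ^ 3 + q - q ^ 2 := by
    rw [zc_minus_zero hab, pow_one]
  have hcls : ∀ c : F, c ≠ 0 → zc (q2 Q) 0 + 1 ≤ (cls (q2 Q) c).card := fun c hc => by
    refine le_trans ?_ (zc_le_card_cls (q2 Q) hc)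
    rw [← zc_congr eU heU, ← zc_congr eU heU]
    exact minus_gap hab hc 2
  have hp : ∀ i j, i ≤ j → q ^ i ≤ q ^ j := fun i j h => Nat.pow_le_pow_right (by omega) h
  have h23 : q ^ 3 + q ^ 2 ≤ q ^ 5 := by
    have : 2 * q ^ 4 ≤ q ^ 5 := by rw [pow_succ' q 4]; exact Nat.mul_le_mul_right _ hq
    have := hp 3 4 (by omega)
    have := hp 2 4 (by omega)
    omega
  have h12 : q ^ 2 + 1 ≤ q ^ 3 + q := by
    have := hp 2 3 (by omega)
    omega
  have hbig : q ^ 3 + q + 3 ≤ q ^ 5 + q ^ 2 := by
    have : 2 * q ^ 4 ≤ q ^ 5 := by rw [pow_succ' q 4]; exact Nat.mul_le_mul_right _ hq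
    have := hp 3 4 (by omega)
    have := hp 2 4 (by omega)
    have := hp 1 2 (by omega)
    have : 4 ≤ q ^ 2 := le_trans (by norm_num) (Nat.pow_le_pow_left hq 2)
    rw [pow_one] at *
    omega
  have hbig2 : 2 * q ^ 3 + q + 2 ≤ q ^ 5 + 2 * q ^ 2 := by
    have : 4 * q ^ 3 ≤ q ^ 5 := by
      rw [pow_succ' q 4, pow_succ' q 3, ← mul_assoc]
      exact Nat.mul_le_mul_right _ (Nat.mul_le_mul hq hq)
    have := hp 1 3 (by omega)
    have : 2 ≤ q ^ 3 := le_trans hq (Nat.le_self_pow (by omega) _)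
    rw [pow_one] at *
    omega
  by_contra hlt
  push Not at hlt
  rw [show Bm q 0 = q ^ 5 + q from rfl] at hlt
  have hd : finrank ℂ (Fin n → ℂ) = n := finrank_fin_fun ℂ
  have hpair : ∀ v, (Q v = 0 ∨ (cls (q2 Q) (Q v)).card < q ^ 5 + q) →
      (∃ μ : Fˣ, (μ : F) * μ ≠ 1) ∨
        ∃ x y, polar Q v x = 0 ∧ polar Q v y = 0 ∧ polar Q x y = 1 := by
    intro v hv
    by_cases hq4 : 4 ≤ q
    · obtain ⟨r, hr⟩ := SLMinDeg.exists_sq_ne_one (F := F) hq4
      exact Or.inl ⟨r, fun h => hr (Units.ext (by simpa using h))⟩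
    right
    by_cases hv0 : Q v = 0
    · rw [minus_aniso hab hv0]
      haveI : Nontrivial ((Fin 0 ⊕ Fin 0) ⊕ Fin 2 → F) :=
        Module.nontrivial_of_finrank_pos (R := F) (by rw [hdim]; norm_num)
      exact exists_pair_zero hQ
    have hlt' := hv.resolve_left hv0
    have h3 : q = 3 := by
      by_contra h
      have hF : Fintype.card F = 2 := by omega
      have h36 := zc_le_card_cls (q2 Q) hv0
      rw [eq_one_of_two hF hv0, ← zc_congr eU heU, zc_minus_two_one hab hF] at h36
      rw [eq_one_of_two hF hv0, hqdef, hF] at hlt'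
      norm_num at hlt'
      omega
    have h2F : (2 : F) ≠ 0 := fun h2 => by
      obtain ⟨p, hp'⟩ := CharP.exists F
      obtain ⟨m, hpr, hm⟩ := FiniteField.card F p
      have hp2 : p = 2 := (Nat.prime_dvd_prime_iff_eq hpr Nat.prime_two).1
        ((CharP.cast_eq_zero_iff F p 2).1 (by exact_mod_cast h2))
      have : 2 ∣ q := by rw [hqdef, hm, hp2]; exact dvd_pow_self 2 m.pos.ne'
      omega
    let P := LinearMap.BilinForm.orthogonal (polarBilin Q) (F ∙ v)
    have hP : 1 ≤ finrank F P := by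
      rw [LinearMap.BilinForm.finrank_orthogonal hQ,
        finrank_span_singleton (fun h => hv0 (by rw [h, QuadraticMap.map_zero])), hdim]
    obtain ⟨x, hxP, hx0⟩ := (Submodule.ne_bot_iff P).1 (fun h => by
      rw [h, finrank_bot] at hP; omega)
    exact exists_pair_of_odd hQ h2F (hxP v (Submodule.mem_span_singleton_self v))
      fun h => hx0 (minus_aniso hab h)
  obtain ⟨hpure, hC, hc, hdim', hdvd⟩ := below_bound hQ (by rw [hdim]; norm_num) ρ hnt
    (zc (qMinus 1 F a b) 0 - 1) (q ^ 5 + q)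
    ((minDeg_minus_six hab).of_equiv (omegaCongr eU heU)) (by omega)
    (fun c hc => by have := hcls c hc; omega) (fun c hc => by have := hcls c hc; omega)
    hpair (by omega)
  rw [hd, hV0, hU0] at hdvd
  rw [hd] at hdim'
  by_cases h1 : n + 1 = q ^ 5 + q
  · exact not_dvd_minus (j := 0) hq (by rw [h1]; rfl) hdvd
  have h2 : n + 2 = q ^ 5 + q := by omega
  by_cases hq3 : 3 ≤ q
  · refine not_dvd_minus_eight hq3 ?_ h2 hdvd
    obtain ⟨p, hp'⟩ := CharP.exists F
    obtain ⟨m, hpr, hm⟩ := FiniteField.card F p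
    rcases hpr.eq_two_or_odd' with rfl | hpodd
    · right
      have hm1 : 2 ≤ (m : ℕ) := by
        by_contra h
        have : (m : ℕ) = 1 := by have := m.pos; omega
        rw [this, pow_one] at hm
        omega
      rw [hqdef, hm]
      exact pow_dvd_pow 2 hm1
    · exact Or.inl (by rw [hqdef, hm]; exact hpodd.pow)
  have hF : Fintype.card F = 2 := by omega
  refine false_of_minus_two hQ (by rw [hdim]; norm_num) ρ hF (fun v => minus_aniso hab) hdim (minus_surj hab) hC ?_
  have h28 : zc (q2 Q) 0 = 28 := by rw [hU0, hqdef, hF]; norm_num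
  have hn : n = 32 := by rw [hqdef, hF] at h2; norm_num at h2; omega
  omega

/-- The bound for every minus type space. -/
theorem minDeg_minus : ∀ j, MinDeg (commutator (OQ (qMinus (j + 3) F a b))) (Bm (Fintype.card F) j)
  | 0 => minDeg_minus_eight hab
  | j + 1 => by
    classical
    have ih := minDeg_minus j
    set q := Fintype.card F with hqdef
    have hq : 2 ≤ q := Fintype.one_lt_card
    let A := (Fin (j + 1) ⊕ Fin (j + 1)) ⊕ Fin 2 → F
    let Q : QuadraticForm F A := qMinus (j + 1) F a b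
    have hQ : (polarBilin Q).Nondegenerate := qMinus_nondeg hab _
    have hA : finrank F A = 2 * j + 4 := by simp [A]; ring
    let eU := (minusSplit (j + 2) F).trans (hypCongr (minusSplit (j + 1) F))
    have heU : ∀ v, q2 Q (eU v) = qMinus (j + 3) F a b v := fun v =>
      (hypCongr_preserves _ (fun u => minusSplit_preserves (j + 1) a b u) _).trans
        (minusSplit_preserves (j + 2) a b v)
    let eV := (minusSplit (j + 3) F).trans (hypCongr eU)
    have heV : ∀ v, hyp (q2 Q) (eV v) = qMinus (j + 4) F a b v := fun v =>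
      (hypCongr_preserves _ heU _).trans (minusSplit_preserves (j + 3) a b v)
    refine (MinDeg.of_irreducible fun n ρ hρ hnt => ?_).of_equiv (omegaCongr eV heV).symm
    haveI := hρ
    have hU0 : zc (q2 Q) 0 = q ^ (2 * j + 7) + q ^ (j + 3) - q ^ (j + 4) := by
      rw [← zc_congr eU heU, zc_minus_zero hab, show 2 * (j + 3) + 1 = 2 * j + 7 by ring]
    have hV0 : zc (hyp (q2 Q)) 0 = q ^ (2 * j + 9) + q ^ (j + 4) - q ^ (j + 5) := by
      rw [← zc_congr eV heV, zc_minus_zero hab, show 2 * (j + 4) + 1 = 2 * j + 9 by ring]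
    have hcls : ∀ c : F, c ≠ 0 → zc (q2 Q) 0 + 1 ≤ (cls (q2 Q) c).card := fun c hc => by
      refine le_trans ?_ (zc_le_card_cls (q2 Q) hc)
      rw [← zc_congr eU heU, ← zc_congr eU heU]
      exact minus_gap hab hc (j + 3)
    have hp : ∀ i k, i ≤ k → q ^ i ≤ q ^ k := fun i k h => Nat.pow_le_pow_right (by omega) h
    have hBle : ∀ i, Bm q i + 2 ≤ q ^ (2 * i + 7) + q ^ (i + 3) - q ^ (i + 4) := by
      intro i
      induction i with
      | zero =>
        simp only [Bm, mul_zero, zero_add]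
        have : 4 * q ^ 5 ≤ q ^ 7 := by
          rw [pow_succ' q 6, pow_succ' q 5, ← mul_assoc]
          exact Nat.mul_le_mul_right _ (Nat.mul_le_mul hq hq)
        have := hp 4 5 (by omega)
        have := hp 1 5 (by omega)
        have : 2 ≤ q ^ 5 := le_trans hq (Nat.le_self_pow (by omega) _)
        rw [pow_one] at *
        omega
      | succ i ih =>
        rw [Bm]
        have h1 := hp (i + 3) (2 * i + 7) (by omega)
        have h2 : 4 * q ^ (2 * i + 7) ≤ q ^ (2 * i + 9) := by
          rw [pow_succ' q (2 * i + 8), pow_succ' q (2 * i + 7), ← mul_assoc]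
          exact Nat.mul_le_mul_right _ (Nat.mul_le_mul hq hq)
        have h3 := hp (i + 5) (2 * i + 7) (by omega)
        have h4 := hp (i + 3) (i + 4) (by omega)
        have h5 := hp (i + 4) (2 * i + 7) (by omega)
        rw [show 2 * (i + 1) + 7 = 2 * i + 9 by ring, show i + 1 + 3 = i + 4 by ring,
          show i + 1 + 4 = i + 5 by ring]
        omega
    have hb := hBle j
    rw [← hU0] at hb
    have hT : Bm q (j + 1) = Bm q j + zc (q2 Q) 0 := by rw [Bm, hU0]
    by_contra hlt
    push Not at hlt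
    have hd : finrank ℂ (Fin n → ℂ) = n := finrank_fin_fun ℂ
    obtain ⟨-, -, hc, hdim, hdvd⟩ := below_bound hQ (by omega) ρ hnt (Bm q j) (Bm q (j + 1))
      (ih.of_equiv (omegaCongr eU heU)) (by omega)
      (fun c hc => by have := hcls c hc; omega) (fun c hc => by have := hcls c hc; omega)
      (fun v _ => Or.inr (exists_pair_perp hQ (by omega) v)) (by omega)
    rw [hd, hV0, hU0] at hdvd
    rw [hd] at hdim
    exact not_dvd_minus (j := j + 1) hq (show n + 1 = Bm q (j + 1) by omega) hdvd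

end CfsgLib.OrthDeg
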