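import Cfsg.Agent.Lib.Geo.OrthMinDeg.PlusMinus

/-!
# The base for minus type: two hyperbolic planes and an anisotropic space

Owner: helper23. The weights of one value are one orbit, which is enough for a weak bound in
dimension six, over any field.
-/

set_option autoImplicit false

namespace CfsgLib.OrthDeg

open Module CfsgLib.Classical.Quad
open QuadraticMap (polar polarBilin)
open scoped commutatorElement

variable {F : Type*} [Field F] {A : Type*} [AddCommGroup A] [Module F A] [FiniteDimensional F A]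
  {Q : QuadraticForm F A} (hQ : (polarBilin Q).Nondegenerate) (haniso : ∀ a, Q a = 0 → a = 0)

include hQ haniso

theorem exists_polar_ne {a : A} (ha : a ≠ 0) : ∃ b, polar Q a b ≠ 0 := by
  by_contra h
  push Not at h
  exact ha (eq_zero_of_polar hQ h)

/-- Eichler maps of an anisotropic complement are commutators. -/
theorem xo_mem_aniso (a : A) : xo hQ a ∈ commutator (OQ (hyp Q)) := by
  by_cases ha : a = 0
  · subst ha
    have h : xo hQ (0 : A) = 1 := Subtype.ext (LinearEquiv.ext fun z => by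
      show ev (xo hQ (0 : A)) z = z
      rw [xo_apply]
      simp)
    rw [h]
    exact one_mem _
  have hQa : Q a ≠ 0 := fun h => ha (haniso a h)
  obtain ⟨b, hb⟩ := exists_polar_ne hQ haniso ha
  have hb' : polar Q b a ≠ 0 := by rwa [QuadraticMap.polar_comm]
  set c : A := (-(Q a) / polar Q b a) • b with hc
  have hval : (refl hQa : A ≃ₗ[F] A) c = c + a := by
    rw [refl_apply, hc, polar_smul_left', div_mul_cancel₀ _ hb', mul_neg, inv_mul_cancel₀ hQa,
      neg_smul, one_smul, sub_neg_eq_add]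
  have he : xo hQ a = ⁅extHom (Q := Q) (refl hQa), xo hQ c⁆ := by
    rw [commutatorElement_def, conj_xo hQ _ 1 c (c + a) (by simp [extHom_apply, hypExtend_apply])
      (by rw [extHom_apply, hypExtend_apply, hval]), one_smul, eq_mul_inv_iff_mul_eq,
      xo, xo, xo, eich_mul]
    exact eich_congr _ rfl (by simp [add_comm])
  rw [he]
  exact Subgroup.commutator_mem_commutator (Subgroup.mem_top _) (Subgroup.mem_top _)

omit haniso in
/-- The exchange of the two vectors of the plane. -/
noncomputable def flipPlane : OQ (hyp Q) :=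
  ofPreserves (hyp_nondegenerate hQ)
    { toFun := fun z => (z.2.1, z.1, z.2.2)
      map_add' := fun _ _ => rfl
      map_smul' := fun _ _ => rfl } fun z => by
    show z.2.1 * z.1 + Q z.2.2 = z.1 * z.2.1 + Q z.2.2
    ring

/-- The Eichler map at the second vector. -/
theorem exists_yel (a : A) : ∃ g : commutator (OQ (hyp Q)), ∀ z : F × F × A,
    ((g : OQ (hyp Q)) : (F × F × A) ≃ₗ[F] F × F × A) z =
      (z.1, z.2.1 + (polar Q z.2.2 a - Q a * z.1), z.2.2 + (-z.1) • a) := by
  set s := flipPlane hQ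
  have hs : s⁻¹ = s := inv_eq_of_mul_eq_one_right (Subtype.ext (LinearEquiv.ext fun z => rfl))
  refine ⟨⟨s * xo hQ a * s⁻¹,
    Subgroup.Normal.conj_mem inferInstance _ (xo_mem_aniso hQ haniso a) s⟩, fun z => ?_⟩
  show ev (s * xo hQ a * s⁻¹) z = _
  rw [hs]
  show ev s (ev (xo hQ a) (ev s z)) = _
  rw [xo_apply]
  rfl

variable [Finite F] [Fintype A] [Fintype (F × F × A)]
  (h3 : 3 ≤ finrank F (F × F × A))
  {V : Type*} [AddCommGroup V] [Module ℂ V] [FiniteDimensional ℂ V]
  (ρ : Representation ℂ (Om (hyp Q)) V)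

include h3

/-- Moving along the first vector. -/
theorem mult_move_x (a : A) (z : F × F × A) :
    mult (hyp_nondegenerate hQ) h3 ρ
      (z.1 + (polar Q z.2.2 a - Q a * z.2.1), z.2.1, z.2.2 + (-z.2.1) • a) =
    mult (hyp_nondegenerate hQ) h3 ρ z := by
  have h := mult_lev (hyp_nondegenerate hQ) h3 ρ ⟨xo hQ a, xo_mem_aniso hQ haniso a⟩ z
  rwa [show ((⟨xo hQ a, xo_mem_aniso hQ haniso a⟩ : commutator (OQ (hyp Q))) : OQ (hyp Q)).1 z =
    (z.1 + (polar Q z.2.2 a - Q a * z.2.1), z.2.1, z.2.2 + (-z.2.1) • a) from xo_apply hQ a z] at h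

/-- Moving along the second vector. -/
theorem mult_move_y (a : A) (z : F × F × A) :
    mult (hyp_nondegenerate hQ) h3 ρ
      (z.1, z.2.1 + (polar Q z.2.2 a - Q a * z.1), z.2.2 + (-z.1) • a) =
    mult (hyp_nondegenerate hQ) h3 ρ z := by
  obtain ⟨g, hg⟩ := exists_yel hQ haniso a
  have h := mult_lev (hyp_nondegenerate hQ) h3 ρ g z
  rwa [hg] at h

theorem mult_clear_x {z : F × F × A} (hb : z.2.1 ≠ 0) :
    mult (hyp_nondegenerate hQ) h3 ρ z =
      mult (hyp_nondegenerate hQ) h3 ρ (hyp Q z / z.2.1, z.2.1, 0) := by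
  rw [← mult_move_x hQ haniso h3 ρ (z.2.1⁻¹ • z.2.2) z]
  congr 1
  refine Prod.ext ?_ (Prod.ext rfl ?_)
  · rw [polar_smul_right', polar_self', apply_smul, hyp_apply]
    field_simp
    ring
  · show z.2.2 + (-z.2.1) • z.2.1⁻¹ • z.2.2 = 0
    rw [smul_smul, neg_mul, mul_inv_cancel₀ hb, neg_smul, one_smul, add_neg_cancel]

theorem mult_clear_y {z : F × F × A} (ha : z.1 ≠ 0) :
    mult (hyp_nondegenerate hQ) h3 ρ z =
      mult (hyp_nondegenerate hQ) h3 ρ (z.1, hyp Q z / z.1, 0) := by
  rw [← mult_move_y hQ haniso h3 ρ (z.1⁻¹ • z.2.2) z]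
  congr 1
  refine Prod.ext rfl (Prod.ext ?_ ?_)
  · rw [polar_smul_right', polar_self', apply_smul, hyp_apply]
    field_simp
    ring
  · show z.2.2 + (-z.1) • z.1⁻¹ • z.2.2 = 0
    rw [smul_smul, neg_mul, mul_inv_cancel₀ ha, neg_smul, one_smul, add_neg_cancel]

variable (hsurj : ∀ c : F, ∃ a, Q a = c)
include hsurj

/-- All non-zero weights with one value have the same multiplicity. -/
theorem mult_eq_aniso {z z' : F × F × A} (hz : z ≠ 0) (hz' : z' ≠ 0) (h : hyp Q z = hyp Q z') :
    mult (hyp_nondegenerate hQ) h3 ρ z = mult (hyp_nondegenerate hQ) h3 ρ z' := by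
  classical
  set m := mult (hyp_nondegenerate hQ) h3 ρ
  -- every vector is joined to a normal form with non-zero second coordinate
  have hlink : ∀ (x y : F) (a : A), y ≠ 0 → Q a * y + x = 0 → x ≠ 0 →
      m ((x : F), (0 : F), (0 : A)) = m (0, y, 0) := fun x y a hy hxy hx => by
    have h1 := mult_move_x hQ haniso h3 ρ a ((0 : F), y, (0 : A))
    have h2 := mult_clear_y hQ haniso h3 ρ
      (z := ((0 : F) + (polar Q (0 : A) a - Q a * y), y, (0 : A) + (-y) • a)) (by
        simp only [zero_add, QuadraticMap.polar_zero_left, zero_sub]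
        intro h
        exact hx (by linear_combination hxy + h))
    rw [h1] at h2
    refine Eq.trans ?_ h2.symm
    congr 1
    refine Prod.ext ?_ (Prod.ext ?_ rfl)
    · simp only [zero_add, QuadraticMap.polar_zero_left, zero_sub]
      linear_combination hxy
    · simp only [hyp_apply, zero_add, QuadraticMap.polar_zero_left, zero_sub, apply_smul]
      ring
  have hsing : ∀ x y : F, x ≠ 0 → y ≠ 0 → m ((x : F), (0 : F), (0 : A)) = m (0, y, 0) := by
    intro x y hx hy
    obtain ⟨a, ha⟩ := hsurj (-x / y)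
    exact hlink x y a hy (by rw [ha, div_mul_cancel₀ _ hy]; ring) hx
  have hnon : ∀ v y y' : F, v ≠ 0 → y ≠ 0 → y' ≠ 0 →
      m (v / y, y, (0 : A)) = m (v / y', y', 0) := by
    intro v y y' hv hy hy'
    obtain ⟨a, ha⟩ := hsurj ((v / y - v / y') / y)
    have hx : v / y + (polar Q (0 : A) a - Q a * y) = v / y' := by
      rw [QuadraticMap.polar_zero_left, ha, div_mul_cancel₀ _ hy]
      ring
    have h1 := mult_move_x hQ haniso h3 ρ a (v / y, y, (0 : A))
    have h2 := mult_clear_y hQ haniso h3 ρ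
      (z := (v / y + (polar Q (0 : A) a - Q a * y), y, (0 : A) + (-y) • a))
      (by rw [hx]; exact div_ne_zero hv hy')
    rw [h1] at h2
    refine h2.trans ?_
    congr 1
    refine Prod.ext hx (Prod.ext ?_ rfl)
    have hval : hyp Q (v / y + (polar Q (0 : A) a - Q a * y), y, (0 : A) + (-y) • a) = v := by
      rw [hyp_apply, QuadraticMap.polar_zero_left, zero_add, apply_smul]
      field_simp
      ring
    rw [hval, hx]
    field_simp
  have hrep : ∀ w : F × F × A, w ≠ 0 →
      m w = if hyp Q w = 0 then m (0, 1, 0) else m (hyp Q w, 1, 0) := by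
    suffices ∀ w : F × F × A, (w.1 ≠ 0 ∨ w.2.1 ≠ 0) →
        m w = if hyp Q w = 0 then m (0, 1, 0) else m (hyp Q w, 1, 0) by
      intro w hw
      by_cases hab : w.1 ≠ 0 ∨ w.2.1 ≠ 0
      · exact this w hab
      push Not at hab
      have hc : w.2.2 ≠ 0 := fun hc => hw (Prod.ext hab.1 (Prod.ext hab.2 hc))
      obtain ⟨a, ha⟩ := exists_polar_ne hQ haniso hc
      have h1 := mult_move_x hQ haniso h3 ρ a w
      have h2 := this (w.1 + (polar Q w.2.2 a - Q a * w.2.1), w.2.1, w.2.2 + (-w.2.1) • a)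
        (Or.inl (by rw [hab.1, hab.2]; simpa using ha))
      have hval : hyp Q (w.1 + (polar Q w.2.2 a - Q a * w.2.1), w.2.1, w.2.2 + (-w.2.1) • a) =
          hyp Q w := by
        simp [hyp_apply, hab.2]
      rw [hval] at h2
      exact h1.symm.trans h2
    intro w hw
    by_cases hb : w.2.1 ≠ 0
    · rw [show m w = _ from mult_clear_x hQ haniso h3 ρ hb]
      split_ifs with h0
      · rw [h0, zero_div]
        exact (hsing 1 _ one_ne_zero hb).symm.trans (hsing 1 1 one_ne_zero one_ne_zero)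
      · rw [← div_one (hyp Q w)]
        simpa using hnon _ _ 1 h0 hb one_ne_zero
    push Not at hb
    have ha : w.1 ≠ 0 := hw.resolve_right (by simpa using hb)
    rw [show m w = _ from mult_clear_y hQ haniso h3 ρ ha]
    split_ifs with h0
    · rw [h0, zero_div]
      exact hsing _ 1 ha one_ne_zero
    · have := hnon _ _ 1 h0 (div_ne_zero h0 ha) one_ne_zero
      rw [div_one, div_div_cancel₀ h0] at this
      exact this
  rw [hrep z hz, hrep z' hz', h]

omit h3 ρ in
/-- The weak bound in dimension six. -/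
theorem minDeg_base [DecidableEq F] [DecidableEq A] (h3 : 3 ≤ finrank F (F × F × A))
    (hN : ∀ v : F, v ≠ 0 → zc (hyp Q) 0 ≤ zc (hyp Q) v) :
    MinDeg (Om (hyp Q)) (zc (hyp Q) 0 - 1) := by
  classical
  intro V _ _ _ ρ hρ
  obtain ⟨g, hg⟩ := hρ
  obtain ⟨u, hu0, hu⟩ : ∃ u : F × F × A, u ≠ 0 ∧ mult (hyp_nondegenerate hQ) h3 ρ u ≠ 0 := by
    by_contra hcon
    push Not at hcon
    exact hg (eq_one_of_mult (hyp_nondegenerate hQ) h3 ρ hcon g)
  have hsub : zc (hyp Q) 0 - 1 ≤
      (Finset.univ.filter fun w : F × F × A => w ≠ 0 ∧ hyp Q w = hyp Q u).card := by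
    have h : zc (hyp Q) 0 - 1 ≤ zc (hyp Q) (hyp Q u) - 1 := by
      by_cases h0 : hyp Q u = 0
      · rw [h0]
      · have := hN _ h0
        omega
    refine h.trans ?_
    rw [zc, Nat.card_eq_fintype_card, Fintype.card_subtype]
    refine le_trans (Finset.pred_card_le_card_erase (a := (0 : F × F × A)))
      (Finset.card_le_card fun w hw => ?_)
    simp only [Finset.mem_erase, Finset.mem_filter, Finset.mem_univ, true_and] at hw ⊢
    exact hw
  refine hsub.trans ?_
  rw [finrank_eq_sum (hyp_nondegenerate hQ) h3 ρ, Finset.card_eq_sum_ones]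
  refine le_trans (Finset.sum_le_sum fun w hw => ?_)
    (Finset.sum_le_univ_sum_of_nonneg fun _ => Nat.zero_le _)
  rw [Finset.mem_filter] at hw
  rw [mult_eq_aniso hQ haniso h3 ρ hsurj hw.2.1 hu0 hw.2.2]
  omega

end CfsgLib.OrthDeg
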