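import Cfsg.Agent.Lib.Geo.OrthMinDeg.MinusBase
import Cfsg.Agent.Lib.Classical.Quad.CommutatorIndex

/-!
# The exceptional degree for minus type of dimension eight over two elements

Owner: helper23. Six-dimensional minus space over two elements is the sum of three anisotropic
planes; the product of the three rotations is real in the large group and a commutator of elements
commuting with it, so it acts trivially on a five-dimensional space, which is impossible.
-/

set_option autoImplicit false

namespace CfsgLib.OrthDeg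

open Module CfsgLib.Classical.Quad
open QuadraticMap (polar polarBilin)
open scoped commutatorElement

variable {F : Type*} [Field F] [Fintype F] {A : Type*} [AddCommGroup A] [Module F A]
  [FiniteDimensional F A] {Q : QuadraticForm F A}

theorem eq_one_of_two (hF : Fintype.card F = 2) {x : F} (hx : x ≠ 0) : x = 1 := by
  classical
  by_contra h
  have h3 := Finset.card_le_univ ({0, 1, x} : Finset F)
  rw [hF, Finset.card_insert_of_notMem (by simp [eq_comm, hx]),
    Finset.card_insert_of_notMem (by simp [Ne.symm h]), Finset.card_singleton] at h3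
  omega

theorem two_eq_zero_of_two (hF : Fintype.card F = 2) : (2 : F) = 0 := by
  by_contra h
  have h1 := eq_one_of_two hF h
  exact one_ne_zero (by linear_combination h1 : (1 : F) = 0)

/-- The anisotropic plane over two elements. -/
theorem exists_plane_two (hF : Fintype.card F = 2) (haniso : ∀ a, Q a = 0 → a = 0)
    (hdim : finrank F A = 2) :
    ∃ c d : A, c ≠ d ∧ Q c = 1 ∧ Q d = 1 ∧ polar Q c d = 1 ∧
      ∀ x : A, x = 0 ∨ x = c ∨ x = d ∨ x = c + d := by
  classical
  haveI : Finite A := Module.finite_of_finite F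
  haveI := Fintype.ofFinite A
  have hcard : Fintype.card A = 4 := by rw [card_eq_pow_finrank (K := F), hdim, hF]; norm_num
  have hone : ∀ a : A, a ≠ 0 → Q a = 1 := fun a ha =>
    eq_one_of_two hF fun h => ha (haniso a h)
  obtain ⟨c, hc⟩ := Fintype.exists_ne_of_one_lt_card (show 1 < Fintype.card A by omega) (0 : A)
  obtain ⟨d, hd⟩ : ∃ d : A, d ∉ ({0, c} : Finset A) := by
    by_contra h
    push Not at h
    have := Finset.card_le_card (fun x (_ : x ∈ (Finset.univ : Finset A)) => h x)
    rw [Finset.card_univ, hcard, Finset.card_insert_of_notMem (by simp [Ne.symm hc]),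
      Finset.card_singleton] at this
    omega
  simp only [Finset.mem_insert, Finset.mem_singleton, not_or] at hd
  obtain ⟨hd0, hdc⟩ := hd
  have h2 := two_eq_zero_of_two hF
  have hneg : ∀ x : A, -x = x := fun x => by
    rw [neg_eq_iff_add_eq_zero, ← two_smul F x, h2, zero_smul]
  have hs : c + d ≠ 0 := fun h => hdc (by rw [eq_neg_of_add_eq_zero_right h, hneg])
  refine ⟨c, d, Ne.symm hdc, hone c hc, hone d hd0, ?_, ?_⟩
  · have h := apply_add (Q := Q) c d
    rw [hone _ hs, hone c hc, hone d hd0] at h
    linear_combination -h - h2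
  · intro x
    have h1 : c + d ∉ ({0, c, d} : Finset A) := by simp [hs, hd0, hc]
    have h3 : Finset.univ = insert (c + d) ({0, c, d} : Finset A) := by
      refine (Finset.eq_univ_of_card _ ?_).symm
      rw [hcard, Finset.card_insert_of_notMem h1, Finset.card_insert_of_notMem
        (by simp [Ne.symm hc, Ne.symm hd0]), Finset.card_insert_of_notMem (by simp [Ne.symm hdc]),
        Finset.card_singleton]
    have := h3 ▸ Finset.mem_univ x
    simp only [Finset.mem_insert, Finset.mem_singleton] at this
    tauto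

variable (hQ : (polarBilin Q).Nondegenerate)

/-- The rotation of the plane, with a reflection inverting it. -/
theorem exists_rotation {c d : A} (h2 : (2 : F) = 0) (hc : Q c = 1) (hd : Q d = 1) (hcd : polar Q c d = 1)
    (hall : ∀ x : A, x = 0 ∨ x = c ∨ x = d ∨ x = c + d) :
    ∃ R σ : OQ Q, R ∈ commutator (OQ Q) ∧ R * R * R = 1 ∧ σ * σ = 1 ∧ σ * R = R * R * σ ∧
      (∃ hc' : Q c ≠ 0, σ = refl hc') ∧
      ∀ x : A, (R : A ≃ₗ[F] A) x = x → x = 0 := by
  have hc' : Q c ≠ 0 := by rw [hc]; exact one_ne_zero
  have hd' : Q d ≠ 0 := by rw [hd]; exact one_ne_zero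
  have hdc : polar Q d c = 1 := by rw [QuadraticMap.polar_comm]; exact hcd
  have he' : Q (c + d) ≠ 0 := by
    rw [apply_add, hc, hd, hcd, show (1 : F) + 1 + 1 = 1 by linear_combination h2]
    exact one_ne_zero
  have hneg : ∀ x : A, -x = x := fun x => by
    rw [neg_eq_iff_add_eq_zero, ← two_smul F x, h2, zero_smul]
  set σ := refl hc'
  set τ := refl hd'
  have hσc : (σ : A ≃ₗ[F] A) c = c := by
    rw [refl_apply, polar_self', h2, zero_mul, mul_zero, zero_smul, sub_zero]
  have hσd : (σ : A ≃ₗ[F] A) d = c + d := by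
    rw [refl_apply, hdc, hc, inv_one, one_mul, one_smul, sub_eq_add_neg, hneg, add_comm]
  have hτd : (τ : A ≃ₗ[F] A) d = d := by
    rw [refl_apply, polar_self', h2, zero_mul, mul_zero, zero_smul, sub_zero]
  have hτc : (τ : A ≃ₗ[F] A) c = c + d := by
    rw [refl_apply, hcd, hd, inv_one, one_mul, one_smul, sub_eq_add_neg, hneg]
  have hRc : ((σ * τ : OQ Q) : A ≃ₗ[F] A) c = d := by
    show (σ : A ≃ₗ[F] A) ((τ : A ≃ₗ[F] A) c) = d
    rw [hτc, map_add, hσc, hσd, ← add_assoc, ← two_smul F c, h2, zero_smul, zero_add]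
  have hRd : ((σ * τ : OQ Q) : A ≃ₗ[F] A) d = c + d := by
    show (σ : A ≃ₗ[F] A) ((τ : A ≃ₗ[F] A) d) = c + d
    rw [hτd, hσd]
  have hext : ∀ g h : OQ Q, (g : A ≃ₗ[F] A) c = (h : A ≃ₗ[F] A) c →
      (g : A ≃ₗ[F] A) d = (h : A ≃ₗ[F] A) d → g = h := fun g h e1 e2 =>
    Subtype.ext (LinearEquiv.ext fun x => by
      rcases hall x with rfl | rfl | rfl | rfl
      · rw [map_zero, map_zero]
      · exact e1
      · exact e2
      · rw [map_add, map_add, e1, e2])
  have hcdd : c + d + d = c := by rw [add_assoc, ← two_smul F d, h2, zero_smul, add_zero]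
  refine ⟨σ * τ, σ, ?_, ?_, refl_mul_self hc', ?_, ⟨hc', rfl⟩, ?_⟩
  · have : σ * τ = ⁅σ, refl he'⁆ := by
      have hi : ∀ {v : A} (hv : Q v ≠ 0), (refl hv : OQ Q)⁻¹ = refl hv := fun hv =>
        inv_eq_of_mul_eq_one_right (refl_mul_self hv)
      rw [commutatorElement_def, hi, hi]
      have hεc : (refl he' : A ≃ₗ[F] A) c = d := by
        rw [refl_apply, polar_add_right', polar_self', h2, zero_mul, hcd, apply_add, hc, hd, hcd]
        have h3 : ((1 : F) + 1 + 1)⁻¹ * (0 + 1) = 1 := by
          rw [zero_add, show (1 : F) + 1 + 1 = 1 by linear_combination h2, inv_one, one_mul]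
        rw [h3, one_smul]
        simp [hneg]
      have hεd : (refl he' : A ≃ₗ[F] A) d = c := by
        rw [refl_apply, polar_add_right', polar_self', h2, zero_mul, hdc, apply_add, hc, hd, hcd]
        have h3 : ((1 : F) + 1 + 1)⁻¹ * (1 + 0) = 1 := by
          rw [add_zero, show (1 : F) + 1 + 1 = 1 by linear_combination h2, inv_one, one_mul]
        rw [h3, one_smul]
        simp [hneg]
      refine hext _ _ ?_ ?_
      · show _ = (σ : A ≃ₗ[F] A) ((refl he' : A ≃ₗ[F] A) ((σ : A ≃ₗ[F] A)
          ((refl he' : A ≃ₗ[F] A) c)))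
        rw [hRc, hεc, hσd, map_add, hεc, hεd, map_add, hσd, hσc, add_comm c d, add_assoc,
          ← two_smul F c, h2, zero_smul, add_zero]
      · show _ = (σ : A ≃ₗ[F] A) ((refl he' : A ≃ₗ[F] A) ((σ : A ≃ₗ[F] A)
          ((refl he' : A ≃ₗ[F] A) d)))
        rw [hRd, hεd, hσc, hεc, hσd]
    rw [this]
    exact Subgroup.commutator_mem_commutator (Subgroup.mem_top _) (Subgroup.mem_top _)
  · set R := σ * τ
    refine hext _ _ ?_ ?_
    · show (R : A ≃ₗ[F] A) ((R : A ≃ₗ[F] A) ((R : A ≃ₗ[F] A) c)) = c
      rw [hRc, hRd, map_add, hRc, hRd, add_comm d, hcdd]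
    · show (R : A ≃ₗ[F] A) ((R : A ≃ₗ[F] A) ((R : A ≃ₗ[F] A) d)) = d
      rw [hRd, map_add, hRc, hRd, add_comm d, hcdd, hRc]
  · set R := σ * τ
    refine hext _ _ ?_ ?_
    · show (σ : A ≃ₗ[F] A) ((R : A ≃ₗ[F] A) c) =
        (R : A ≃ₗ[F] A) ((R : A ≃ₗ[F] A) ((σ : A ≃ₗ[F] A) c))
      rw [hRc, hσd, hσc, hRc, hRd]
    · show (σ : A ≃ₗ[F] A) ((R : A ≃ₗ[F] A) d) =
        (R : A ≃ₗ[F] A) ((R : A ≃ₗ[F] A) ((σ : A ≃ₗ[F] A) d))
      rw [hRd, map_add, hσc, hσd, ← add_assoc, ← two_smul F c, h2, zero_smul, zero_add, map_add,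
        hRc, hRd, add_comm d, hcdd, hRc]
  · intro x hx
    have hc0 : c ≠ 0 := fun h => by rw [h, QuadraticMap.map_zero] at hc; exact zero_ne_one hc
    have hd0 : d ≠ 0 := fun h => by rw [h, QuadraticMap.map_zero] at hd; exact zero_ne_one hd
    rcases hall x with rfl | rfl | rfl | rfl
    · rfl
    · rw [hRc] at hx
      exfalso
      rw [hx, polar_self', h2, zero_mul] at hcd
      exact zero_ne_one hcd
    · rw [hRd, add_eq_right] at hx
      exact absurd hx hc0
    · rw [map_add, hRc, hRd, add_comm d, hcdd] at hx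
      exact absurd (left_eq_add.1 hx) hd0

/-- The sum of three copies. -/
def sum3 (Q : QuadraticForm F A) : QuadraticForm F (A × A × A) :=
  Q.comp (LinearMap.fst F A (A × A)) +
    (Q.comp (LinearMap.fst F A A ∘ₗ LinearMap.snd F A (A × A)) +
      Q.comp (LinearMap.snd F A A ∘ₗ LinearMap.snd F A (A × A)))

theorem sum3_apply (z : A × A × A) : sum3 Q z = Q z.1 + (Q z.2.1 + Q z.2.2) := rfl

/-- Isometries of the three summands. -/
def diag3 : OQ Q × OQ Q × OQ Q →* OQ (sum3 Q) where
  toFun g := ⟨(g.1 : A ≃ₗ[F] A).prodCongr ((g.2.1 : A ≃ₗ[F] A).prodCongr (g.2.2 : A ≃ₗ[F] A)),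
    fun z _ => by
      show Q ((g.1 : A ≃ₗ[F] A) z.1) + (Q ((g.2.1 : A ≃ₗ[F] A) z.2.1) +
        Q ((g.2.2 : A ≃ₗ[F] A) z.2.2)) = Q z.1 + (Q z.2.1 + Q z.2.2)
      rw [OQ.map_apply, OQ.map_apply, OQ.map_apply]⟩
  map_one' := Subtype.ext (LinearEquiv.ext fun _ => rfl)
  map_mul' _ _ := Subtype.ext (LinearEquiv.ext fun _ => rfl)

omit [Fintype F] [FiniteDimensional F A] in
theorem diag3_apply (g : OQ Q × OQ Q × OQ Q) (z : A × A × A) :
    ((diag3 g : OQ (sum3 Q)) : (A × A × A) ≃ₗ[F] A × A × A) z =
      ((g.1 : A ≃ₗ[F] A) z.1, (g.2.1 : A ≃ₗ[F] A) z.2.1, (g.2.2 : A ≃ₗ[F] A) z.2.2) := rfl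

/-- The cyclic exchange of the summands. -/
def rot3 : OQ (sum3 Q) :=
  ⟨{ toFun := fun z => (z.2.2, z.1, z.2.1)
     invFun := fun z => (z.2.1, z.2.2, z.1)
     map_add' := fun _ _ => rfl
     map_smul' := fun _ _ => rfl
     left_inv := fun _ => rfl
     right_inv := fun _ => rfl }, fun z _ => by
    show Q z.2.2 + (Q z.1 + Q z.2.1) = Q z.1 + (Q z.2.1 + Q z.2.2)
    ring⟩

omit [Fintype F] [FiniteDimensional F A] in
theorem rot3_conj (x y z : OQ Q) :
    (rot3 : OQ (sum3 Q)) * diag3 (x, y, z) * rot3⁻¹ = diag3 (z, x, y) :=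
  Subtype.ext (LinearEquiv.ext fun _ => rfl)

omit [Fintype F] [FiniteDimensional F A] in
theorem rot3_mem : (rot3 : OQ (sum3 Q)) ∈ commutator (OQ (sum3 Q)) := by
  let a : OQ (sum3 Q) := ⟨{ toFun := fun z => (z.2.1, z.1, z.2.2)
                            invFun := fun z => (z.2.1, z.1, z.2.2)
                            map_add' := fun _ _ => rfl
                            map_smul' := fun _ _ => rfl
                            left_inv := fun _ => rfl
                            right_inv := fun _ => rfl }, fun z _ => by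
    show Q z.2.1 + (Q z.1 + Q z.2.2) = Q z.1 + (Q z.2.1 + Q z.2.2)
    ring⟩
  let b : OQ (sum3 Q) := ⟨{ toFun := fun z => (z.1, z.2.2, z.2.1)
                            invFun := fun z => (z.1, z.2.2, z.2.1)
                            map_add' := fun _ _ => rfl
                            map_smul' := fun _ _ => rfl
                            left_inv := fun _ => rfl
                            right_inv := fun _ => rfl }, fun z _ => by
    show Q z.1 + (Q z.2.2 + Q z.2.1) = Q z.1 + (Q z.2.1 + Q z.2.2)
    ring⟩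
  let c : commutator (OQ (sum3 Q)) :=
    ⟨⁅a, b⁆, Subgroup.commutator_mem_commutator (Subgroup.mem_top _) (Subgroup.mem_top _)⟩
  by_cases h : ((c : OQ (sum3 Q))) = rot3
  · rw [← h]; exact c.2
  · have : (c : OQ (sum3 Q)) * (c : OQ (sum3 Q)) = rot3 :=
      Subtype.ext (LinearEquiv.ext fun z => rfl)
    rw [← this]
    exact mul_mem c.2 c.2

omit [Fintype F] [FiniteDimensional F A] in
theorem diag3_mem {g : OQ Q} (hg : g ∈ commutator (OQ Q)) :
    diag3 (Q := Q) (g, 1, 1) ∈ commutator (OQ (sum3 Q)) ∧
      diag3 (Q := Q) (1, g, 1) ∈ commutator (OQ (sum3 Q)) ∧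
      diag3 (Q := Q) (1, 1, g) ∈ commutator (OQ (sum3 Q)) := by
  have h : ∀ f : OQ Q →* OQ (sum3 Q), f g ∈ commutator (OQ (sum3 Q)) := fun f => by
    have : (commutator (OQ Q)).map f ≤ commutator (OQ (sum3 Q)) := by
      rw [commutator_def, Subgroup.map_commutator, commutator_def]
      exact Subgroup.commutator_mono le_top le_top
    exact this ⟨g, hg, rfl⟩
  exact ⟨h (diag3.comp (MonoidHom.inl _ _)),
    h (diag3.comp ((MonoidHom.inr _ _).comp (MonoidHom.inl _ _))),
    h (diag3.comp ((MonoidHom.inr _ _).comp (MonoidHom.inr _ _)))⟩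

variable [DecidableEq F] [Fintype A] [DecidableEq A]

include hQ

/-- The six-dimensional space as a sum of three planes. -/
theorem exists_model {c d : A} (hF : Fintype.card F = 2) (hdim : finrank F A = 2) (hc : Q c = 1)
    (hd : Q d = 1) (hcd : polar Q c d = 1) :
    ∃ e : U2 F A ≃ₗ[F] A × A × A, (∀ z, sum3 Q (e z) = q2 Q z) ∧
      ∀ a, e (0, 0, (0, 0, a)) = (0, 0, a) := by
  have h2 := two_eq_zero_of_two hF
  have hdc : polar Q d c = 1 := by rw [QuadraticMap.polar_comm]; exact hcd
  let f : U2 F A →ₗ[F] A × A × A :=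
    { toFun := fun z => (z.1 • (c + d) + z.2.1 • d + (z.2.2.1 + z.2.2.2.1) • c,
        (z.1 + z.2.1) • c + z.2.2.1 • d + z.2.2.2.1 • (c + d), z.2.2.2.2)
      map_add' := fun u v => by
        refine Prod.ext ?_ (Prod.ext ?_ rfl) <;> simp <;> module
      map_smul' := fun r u => by
        refine Prod.ext ?_ (Prod.ext ?_ rfl) <;> simp <;> module }
  have hf : ∀ z, sum3 Q (f z) = q2 Q z := by
    rintro ⟨x, y, u, v, a⟩
    show Q (x • (c + d) + y • d + (u + v) • c) + (Q ((x + y) • c + u • d + v • (c + d)) + Q a) =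
      x * y + (u * v + Q a)
    simp only [apply_add, apply_smul, polar_add_left', polar_add_right', polar_smul_left',
      polar_smul_right', polar_self', hc, hd, hcd, hdc]
    have hk : ∀ t : F, t = 0 ∨ t = 1 := fun t => or_iff_not_imp_left.2 (eq_one_of_two hF)
    have h3 : (3 : F) = 1 := by linear_combination h2
    have h4 : (4 : F) = 0 := by linear_combination 2 * h2
    have h5 : (5 : F) = 1 := by linear_combination 2 * h2
    have h6 : (6 : F) = 0 := by linear_combination 3 * h2
    have h7 : (7 : F) = 1 := by linear_combination 3 * h2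
    have h8 : (8 : F) = 0 := by linear_combination 4 * h2
    have h9 : (9 : F) = 1 := by linear_combination 4 * h2
    have h10 : (10 : F) = 0 := by linear_combination 5 * h2
    have h11 : (11 : F) = 1 := by linear_combination 5 * h2
    have h12 : (12 : F) = 0 := by linear_combination 6 * h2
    have h13 : (13 : F) = 1 := by linear_combination 6 * h2
    have h14 : (14 : F) = 0 := by linear_combination 7 * h2
    have h15 : (15 : F) = 1 := by linear_combination 7 * h2
    have h16 : (16 : F) = 0 := by linear_combination 8 * h2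
    have h17 : (17 : F) = 1 := by linear_combination 8 * h2
    have h18 : (18 : F) = 0 := by linear_combination 9 * h2
    have h19 : (19 : F) = 1 := by linear_combination 9 * h2
    have h20 : (20 : F) = 0 := by linear_combination 10 * h2
    have h21 : (21 : F) = 1 := by linear_combination 10 * h2
    have h22 : (22 : F) = 0 := by linear_combination 11 * h2
    have h23 : (23 : F) = 1 := by linear_combination 11 * h2
    have h24 : (24 : F) = 0 := by linear_combination 12 * h2
    have h25 : (25 : F) = 1 := by linear_combination 12 * h2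
    have h26 : (26 : F) = 0 := by linear_combination 13 * h2
    have h27 : (27 : F) = 1 := by linear_combination 13 * h2
    have h28 : (28 : F) = 0 := by linear_combination 14 * h2
    have h29 : (29 : F) = 1 := by linear_combination 14 * h2
    have h30 : (30 : F) = 0 := by linear_combination 15 * h2
    have h31 : (31 : F) = 1 := by linear_combination 15 * h2
    have h32 : (32 : F) = 0 := by linear_combination 16 * h2
    have h33 : (33 : F) = 1 := by linear_combination 16 * h2
    have h34 : (34 : F) = 0 := by linear_combination 17 * h2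
    have h35 : (35 : F) = 1 := by linear_combination 17 * h2
    have h36 : (36 : F) = 0 := by linear_combination 18 * h2
    have h37 : (37 : F) = 1 := by linear_combination 18 * h2
    have h38 : (38 : F) = 0 := by linear_combination 19 * h2
    have h39 : (39 : F) = 1 := by linear_combination 19 * h2
    have h40 : (40 : F) = 0 := by linear_combination 20 * h2
    have h41 : (41 : F) = 1 := by linear_combination 20 * h2
    have h42 : (42 : F) = 0 := by linear_combination 21 * h2
    have h43 : (43 : F) = 1 := by linear_combination 21 * h2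
    have h44 : (44 : F) = 0 := by linear_combination 22 * h2
    have h45 : (45 : F) = 1 := by linear_combination 22 * h2
    have h46 : (46 : F) = 0 := by linear_combination 23 * h2
    have h47 : (47 : F) = 1 := by linear_combination 23 * h2
    have h48 : (48 : F) = 0 := by linear_combination 24 * h2
    have h49 : (49 : F) = 1 := by linear_combination 24 * h2
    have h50 : (50 : F) = 0 := by linear_combination 25 * h2
    have h51 : (51 : F) = 1 := by linear_combination 25 * h2
    have h52 : (52 : F) = 0 := by linear_combination 26 * h2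
    have h53 : (53 : F) = 1 := by linear_combination 26 * h2
    have h54 : (54 : F) = 0 := by linear_combination 27 * h2
    have h55 : (55 : F) = 1 := by linear_combination 27 * h2
    have h56 : (56 : F) = 0 := by linear_combination 28 * h2
    have h57 : (57 : F) = 1 := by linear_combination 28 * h2
    have h58 : (58 : F) = 0 := by linear_combination 29 * h2
    have h59 : (59 : F) = 1 := by linear_combination 29 * h2
    have h60 : (60 : F) = 0 := by linear_combination 30 * h2
    rcases hk x with rfl | rfl <;> rcases hk y with rfl | rfl <;>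
      rcases hk u with rfl | rfl <;> rcases hk v with rfl | rfl <;> ring_nf <;>
      simp [h2, h3, h4, h5, h6, h7, h8, h9, h10, h11, h12, h13, h14, h15, h16, h17, h18, h19, h20, h21, h22, h23, h24, h25, h26, h27, h28, h29, h30, h31, h32, h33, h34, h35, h36, h37, h38, h39, h40, h41, h42, h43, h44, h45, h46, h47, h48, h49, h50, h51, h52, h53, h54, h55, h56, h57, h58, h59, h60]
  have hinj : Function.Injective f := by
    rw [injective_iff_map_eq_zero]
    intro z hz
    refine (q2_nondeg hQ).1 z fun y => ?_
    show polar (q2 Q) z y = 0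
    simp only [polar, ← hf, map_add, hz, zero_add, QuadraticMap.map_zero, sub_zero, sub_self]
  have hsurj := (LinearMap.injective_iff_surjective_of_finrank_eq_finrank (f := f)
    (by simp [hdim])).1 hinj
  refine ⟨LinearEquiv.ofBijective f ⟨hinj, hsurj⟩, hf, fun a => ?_⟩
  show f (0, 0, (0, 0, a)) = _
  refine Prod.ext ?_ (Prod.ext ?_ rfl) <;> simp [f]

end CfsgLib.OrthDeg
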