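import Cfsg.Agent.Lib.Geo.OrthMinDeg.MinusTwo
import Mathlib.LinearAlgebra.Determinant

/-!
# No five-dimensional fixed space for minus type of dimension eight over two elements

Owner: helper23.
-/

set_option autoImplicit false

namespace CfsgLib.OrthDeg

open Module CfsgLib.Classical.Quad
open QuadraticMap (polar polarBilin)
open scoped commutatorElement

/-- The weight spaces of an element of order three: a balanced character and a commutator condition
force a trivial action in dimension at most five. -/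
theorem eq_one_of_order_three {V : Type*} [AddCommGroup V] [Module ℂ V] [FiniteDimensional ℂ V]
    (hdim : finrank ℂ V ≤ 5) (a t p t' p' : Module.End ℂ V) (ha : a * a * a = 1)
    (htr : LinearMap.trace ℂ V a = LinearMap.trace ℂ V (a * a))
    (ht : t * a = a * t) (hp : p * a = a * p)
    (htt : t * t' = 1) (hpp : p * p' = 1) (hcomm : t * p = a * (p * t)) : a = 1 := by
  obtain ⟨w, hw⟩ : ∃ w : ℂ, IsPrimitiveRoot w 3 := ⟨_, Complex.isPrimitiveRoot_exp 3 (by norm_num)⟩
  have hw3 : w ^ 3 = 1 := hw.pow_eq_one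
  have hw1 : w ≠ 1 := hw.ne_one (by norm_num)
  have hsum : 1 + w + w ^ 2 = 0 := by
    have : (w - 1) * (1 + w + w ^ 2) = 0 := by linear_combination hw3
    exact (mul_eq_zero.1 this).resolve_left (sub_ne_zero.2 hw1)
  -- the projection on the eigenspace of `l`
  let P : ℂ → Module.End ℂ V := fun l => (3 : ℂ)⁻¹ • (1 + l ^ 2 • a + l • (a * a))
  have haP : ∀ l : ℂ, l ^ 3 = 1 → a * P l = l • P l := fun l hl => by
    simp only [P, mul_smul_comm, mul_add, mul_one, ← mul_assoc, ha]
    match_scalars <;> first | linear_combination (-(3 : ℂ)⁻¹) * hl | linear_combination (3 : ℂ)⁻¹ * hl | ring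
  have hPP : ∀ l : ℂ, l ^ 3 = 1 → P l * P l = P l := fun l hl => by
    have h1 : a * P l = l • P l := haP l hl
    have h2 : a * a * P l = l ^ 2 • P l := by
      rw [mul_assoc, h1, mul_smul_comm, h1, smul_smul, ← sq]
    show ((3 : ℂ)⁻¹ • (1 + l ^ 2 • a + l • (a * a))) * P l = P l
    rw [smul_mul_assoc, add_mul, add_mul, one_mul, smul_mul_assoc, smul_mul_assoc, h1, h2]
    simp only [smul_smul (l ^ 2) l, smul_smul l (l ^ 2), show l ^ 2 * l = 1 by rw [← pow_succ, hl],
      show l * l ^ 2 = 1 by rw [← pow_succ', hl], one_smul]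
    module
  have htrP : ∀ l : ℂ, l ^ 3 = 1 → LinearMap.trace ℂ V (P l) =
      (finrank ℂ (LinearMap.range (P l)) : ℂ) := fun l hl => by
    have h : LinearMap.IsProj (LinearMap.range (P l)) (P l) :=
      ⟨fun v => LinearMap.mem_range_self _ v, fun v hv => by
        obtain ⟨u, rfl⟩ := hv
        exact LinearMap.congr_fun (hPP l hl) u⟩
    exact h.trace
  have hw23 : (w ^ 2) ^ 3 = 1 := by rw [← pow_mul, pow_mul', hw3, one_pow]
  have hw4 : (w ^ 2) ^ 2 = w := by linear_combination w * hw3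
  have hsumP : P 1 + P w + P (w ^ 2) = 1 := by
    simp only [P, hw4, one_pow, one_smul, ← smul_add]
    rw [show (1 + a + a * a + (1 + w ^ 2 • a + w • (a * a)) + (1 + w • a + w ^ 2 • (a * a))) =
      (3 : ℂ) • (1 : Module.End ℂ V) + (1 + w + w ^ 2) • a + (1 + w + w ^ 2) • (a * a) by module,
      hsum, zero_smul, zero_smul, add_zero, add_zero, smul_smul, inv_mul_cancel₀ (by norm_num),
      one_smul]
  have heq : finrank ℂ (LinearMap.range (P w)) = finrank ℂ (LinearMap.range (P (w ^ 2))) := by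
    have h1 := htrP w hw3
    have h2 := htrP (w ^ 2) hw23
    simp only [P, map_smul, map_add, hw4, smul_eq_mul] at h1 h2
    rw [← htr] at h1 h2
    have : ((finrank ℂ (LinearMap.range (P w)) : ℕ) : ℂ) =
        (finrank ℂ (LinearMap.range (P (w ^ 2))) : ℕ) := by rw [← h1, ← h2]; ring
    exact_mod_cast this
  have hle : finrank ℂ (LinearMap.range (P w)) + finrank ℂ (LinearMap.range (P (w ^ 2))) ≤ 5 := by
    have h := congrArg (LinearMap.trace ℂ V) hsumP
    rw [map_add, map_add, htrP 1 (one_pow 3), htrP w hw3, htrP _ hw23, LinearMap.trace_one] at h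
    have h' : finrank ℂ (LinearMap.range (P 1)) + finrank ℂ (LinearMap.range (P w)) +
        finrank ℂ (LinearMap.range (P (w ^ 2))) = finrank ℂ V := by exact_mod_cast h
    omega
  have hinv : ∀ g : Module.End ℂ V, g * a = a * g →
      ∀ v ∈ LinearMap.range (P w), g v ∈ LinearMap.range (P w) := by
    rintro g hg _ ⟨u, rfl⟩
    refine ⟨g u, ?_⟩
    have : g * P w = P w * g := by
      simp only [P, mul_smul_comm, smul_mul_assoc, mul_add, add_mul, mul_one, one_mul, ← mul_assoc,
        hg]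
      simp only [mul_assoc, hg]
    exact (LinearMap.congr_fun this u).symm
  have hdet : w ^ finrank ℂ (LinearMap.range (P w)) = 1 := by
    have hc' : ∀ g g' : Module.End ℂ V, g * g' = 1 → g * a = a * g → g' * a = a * g' :=
      fun g g' h1 h2 => by
        have h1' : g' * g = 1 := mul_eq_one_comm.1 h1
        calc g' * a = g' * a * (g * g') := by rw [h1, mul_one]
          _ = g' * (g * a) * g' := by rw [h2]; simp only [mul_assoc]
          _ = a * g' := by rw [← mul_assoc g', h1', one_mul]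
    set tr := t.restrict (hinv t ht) with htr'
    set pr := p.restrict (hinv p hp) with hpr'
    have hu : IsUnit (LinearMap.det (pr * tr)) := by
      refine IsUnit.map _ ⟨⟨pr * tr, (t'.restrict (hinv t' (hc' t t' htt ht))) *
        (p'.restrict (hinv p' (hc' p p' hpp hp))), ?_, ?_⟩, rfl⟩
      · refine LinearMap.ext fun v => Subtype.ext ?_
        show p (t (t' (p' v))) = v
        rw [show t (t' (p' v)) = p' v from LinearMap.congr_fun htt _]
        exact LinearMap.congr_fun hpp _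
      · refine LinearMap.ext fun v => Subtype.ext ?_
        show t' (p' (p (t v))) = v
        rw [show p' (p (t v)) = t v from LinearMap.congr_fun (mul_eq_one_comm.1 hpp) _]
        exact LinearMap.congr_fun (mul_eq_one_comm.1 htt) _
    have hrel : tr * pr = w • (pr * tr) := by
      refine LinearMap.ext fun v => Subtype.ext ?_
      show t (p v) = w • p (t v)
      rw [show t (p v) = a (p (t v)) from LinearMap.congr_fun hcomm v]
      obtain ⟨u, hu⟩ := hinv p hp _ (hinv t ht v v.2)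
      rw [← hu]
      exact LinearMap.congr_fun (haP w hw3) u
    have h := congrArg LinearMap.det hrel
    rw [LinearMap.det_smul, map_mul, map_mul, mul_comm (LinearMap.det tr)] at h
    rw [map_mul] at hu
    exact (mul_right_cancel₀ hu.ne_zero (by rw [one_mul]; exact h)).symm
  have h3 : 3 ∣ finrank ℂ (LinearMap.range (P w)) := hw.pow_eq_one_iff_dvd _ |>.1 hdet
  have hzero : finrank ℂ (LinearMap.range (P w)) = 0 := by omega
  have hzero2 : finrank ℂ (LinearMap.range (P (w ^ 2))) = 0 := by omega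
  rw [Submodule.finrank_eq_zero, LinearMap.range_eq_bot] at hzero hzero2
  rw [hzero, hzero2, add_zero, add_zero] at hsumP
  rw [← mul_one a, ← hsumP, haP 1 (one_pow 3), one_smul]

variable {F : Type*} [Field F] [Fintype F] [DecidableEq F] {A : Type*} [AddCommGroup A]
  [Module F A] [FiniteDimensional F A] [Fintype A] [DecidableEq A] {Q : QuadraticForm F A}
  (hQ : (polarBilin Q).Nondegenerate) (hA : 1 ≤ finrank F A)
  {V : Type*} [AddCommGroup V] [Module ℂ V] [FiniteDimensional ℂ V]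
  (ρ : Representation ℂ (Om (q2 Q)) V)

include hQ hA

/-- The exceptional case does not occur. -/
theorem false_of_minus_two (hF : Fintype.card F = 2) (haniso : ∀ a, Q a = 0 → a = 0)
    (hdim : finrank F A = 2) (hsurj : ∀ c : F, ∃ a, Q a = c)
    (hC : ∃ h, fixRep (q2_nondeg hQ) (three_le_U2 hQ hA) ρ h ≠ 1)
    (hc : mult (q2_nondeg hQ) (three_le_U2 hQ hA) ρ 0 ≤ 5) : False := by
  classical
  have hn := q2_nondeg hQ
  have h3 := three_le_U2 hQ hA
  have h2 := two_eq_zero_of_two hF
  obtain ⟨c, d, hcd, hQc, hQd, hB, hall⟩ := exists_plane_two hF haniso hdim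
  obtain ⟨R, σ, hR, hR3, hσ2, hσR, ⟨hc', hσ⟩, hfix⟩ := exists_rotation h2 hQc hQd hB hall
  obtain ⟨e, he, he0⟩ := exists_model hQ hF hdim hQc hQd hB
  let Φ : commutator (OQ (sum3 Q)) ≃* commutator (OQ (q2 Q)) := (omegaCongr e he).symm
  have hΦ : ∀ g z, e (((Φ g : OQ (q2 Q)) : U2 F A ≃ₗ[F] U2 F A) z) =
      ((g : OQ (sum3 Q)) : (A × A × A) ≃ₗ[F] A × A × A) (e z) := fun g z => e.apply_symm_apply _
  have hD : ∀ x y z : OQ Q, x ∈ commutator (OQ Q) → y ∈ commutator (OQ Q) →
      z ∈ commutator (OQ Q) → diag3 (Q := Q) (x, y, z) ∈ commutator (OQ (sum3 Q)) := by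
    intro x y z hx hy hz
    have : ((x, y, z) : OQ Q × OQ Q × OQ Q) = (x, 1, 1) * (1, y, 1) * (1, 1, z) := by simp
    rw [this, map_mul, map_mul]
    exact mul_mem (mul_mem (diag3_mem hx).1 (diag3_mem hy).2.1) (diag3_mem hz).2.2
  have hσ' : σ⁻¹ = σ := inv_eq_of_mul_eq_one_right hσ2
  have hss : diag3 (Q := Q) (σ, σ, 1) ∈ commutator (OQ (sum3 Q)) := by
    have : diag3 (Q := Q) (σ, σ, 1) = ⁅diag3 (Q := Q) (σ, 1, 1), (rot3 : OQ (sum3 Q))⁆ := by
      rw [commutatorElement_def, mul_assoc (diag3 (σ, 1, 1)), mul_assoc (diag3 (σ, 1, 1)),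
        ← map_inv (diag3 (Q := Q)), show ((σ, 1, 1) : OQ Q × OQ Q × OQ Q)⁻¹ = (σ, 1, 1) by simp [hσ'],
        rot3_conj, ← map_mul]
      simp
    rw [this]
    exact Subgroup.commutator_mem_commutator (Subgroup.mem_top _) (Subgroup.mem_top _)
  let z3 : commutator (OQ (sum3 Q)) := ⟨diag3 (R, R, R), hD R R R hR hR hR⟩
  let τ : commutator (OQ (sum3 Q)) := ⟨diag3 (1, R, R * R), hD _ _ _ (one_mem _) hR (mul_mem hR hR)⟩
  let π : commutator (OQ (sum3 Q)) := ⟨rot3, rot3_mem⟩
  let ss : commutator (OQ (sum3 Q)) := ⟨diag3 (σ, σ, 1), hss⟩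
  have hτz : τ * z3 = z3 * τ := Subtype.ext (by
    show diag3 (1, R, R * R) * diag3 (R, R, R) = diag3 (R, R, R) * diag3 (1, R, R * R)
    rw [← map_mul, ← map_mul]
    congr 1)
  have hπz : π * z3 = z3 * π := Subtype.ext (by
    show (rot3 : OQ (sum3 Q)) * diag3 (R, R, R) = diag3 (R, R, R) * rot3
    rw [← mul_inv_eq_iff_eq_mul, rot3_conj])
  have hτπ : τ * π = z3 * (π * τ) := Subtype.ext (by
    show diag3 (1, R, R * R) * (rot3 : OQ (sum3 Q)) =
      diag3 (R, R, R) * ((rot3 : OQ (sum3 Q)) * diag3 (1, R, R * R))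
    have hrt : (rot3 : OQ (sum3 Q)) * diag3 (1, R, R * R) = diag3 (R * R, 1, R) * rot3 := by
      rw [← mul_inv_eq_iff_eq_mul, rot3_conj]
    rw [hrt, ← mul_assoc, ← map_mul]
    congr 2
    simp [← mul_assoc, hR3])
  set C := fixRep hn h3 ρ with hCdef
  let f : commutator (OQ (sum3 Q)) →* Module.End ℂ (LinearMap.range (E hn h3 ρ 0)) :=
    MonoidHom.comp C Φ.toMonoidHom
  have hz33 : z3 * z3 * z3 = 1 := Subtype.ext (by
    show diag3 (R, R, R) * diag3 (R, R, R) * diag3 (R, R, R) = 1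
    rw [← map_mul, ← map_mul]
    simp only [Prod.mk_mul_mk, hR3]
    exact map_one _)
  -- the character is real
  have hval : ∀ g : commutator (OQ (sum3 Q)),
      (∀ x : A × A × A, ((g : OQ (sum3 Q)) : (A × A × A) ≃ₗ[F] A × A × A) x = x → x = 0) →
      ρ.character (lev (Φ g)) = LinearMap.trace ℂ _ (f g) := by
    intro g hg
    rw [character_eq hn h3 ρ (lev (Φ g)) _
      (fun w => ((Φ g : OQ (q2 Q)) : U2 F A ≃ₗ[F] U2 F A) w)
      ((Φ g : OQ (q2 Q)) : U2 F A ≃ₗ[F] U2 F A).bijective (lev_xel hn h3 _)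
      (fun a b => OQ.map_polar _ a b),
      Finset.sum_eq_single_of_mem (0 : U2 F A)
        (show (0 : U2 F A) ∈ Finset.univ.filter
            (fun w => ((Φ g : OQ (q2 Q)) : U2 F A ≃ₗ[F] U2 F A) w = w) from
          Finset.mem_filter.2 ⟨Finset.mem_univ _, map_zero _⟩) ?_,
      trace_lev_E_zero]
    · rfl
    · intro w hw hw0
      refine absurd (e.injective ?_) hw0
      rw [map_zero]
      exact hg _ (by rw [← hΦ, (Finset.mem_filter.1 hw).2])
  have hreal : LinearMap.trace ℂ _ (f z3) = LinearMap.trace ℂ _ (f z3 * f z3) := by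
    have hv : hyp (q2 Q) ((0, 0, (0, 0, (0, 0, c))) : F × F × U2 F A) ≠ 0 := by
      simp [hyp_apply, hQc]
    have hw : hyp (q2 Q) ((1, 1, 0) : F × F × U2 F A) ≠ 0 := by simp [hyp_apply]
    obtain ⟨g, hg⟩ := exists_conj_refl (hyp_nondegenerate hn) hv hw (by simp [hyp_apply, hQc])
    have hk : CfsgLib.Classical.Quad.refl hv * CfsgLib.Classical.Quad.refl hw ∈ commutator (OQ (hyp (q2 Q))) := by
      have hi : (CfsgLib.Classical.Quad.refl hv : OQ (hyp (q2 Q)))⁻¹ = CfsgLib.Classical.Quad.refl hv :=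
        inv_eq_of_mul_eq_one_right (refl_mul_self hv)
      have : CfsgLib.Classical.Quad.refl hv * CfsgLib.Classical.Quad.refl hw = ⁅(CfsgLib.Classical.Quad.refl hv : OQ (hyp (q2 Q))), g⁆ := by
        rw [commutatorElement_def, hi, hg]
        simp only [mul_assoc]
      rw [this]
      exact Subgroup.commutator_mem_commutator (Subgroup.mem_top _) (Subgroup.mem_top _)
    let s : Om (q2 Q) := ⟨_, hk⟩ * lev (Φ ss)
    have hs : s * lev (Φ z3) * s⁻¹ = lev (Φ (z3 * z3)) := by
      rw [mul_inv_eq_iff_eq_mul]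
      have hpol3 : ∀ x y : A × A × A, polar (sum3 Q) x y =
          polar Q x.1 y.1 + (polar Q x.2.1 y.2.1 + polar Q x.2.2 y.2.2) := fun x y => by
        simp only [polar, sum3_apply, Prod.fst_add, Prod.snd_add]
        ring
      have happ : ∀ z : F × F × U2 F A, ∃ u : U2 F A, app s z = (z.2.1, z.1, u) ∧
          e u = ((σ : A ≃ₗ[F] A) (e z.2.2).1, (σ : A ≃ₗ[F] A) (e z.2.2).2.1,
            (σ : A ≃ₗ[F] A) (e z.2.2).2.2) := by
        intro z
        refine ⟨_, Prod.ext ?_ (Prod.ext ?_ rfl), ?_⟩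
        all_goals
          rw [show app s z = app (⟨_, hk⟩ : Om (q2 Q)) (app (lev (Φ ss)) z) from app_mul _ _ z,
            lev_apply]
        all_goals
          show _ = _
        · show (ev (CfsgLib.Classical.Quad.refl hv) (ev (CfsgLib.Classical.Quad.refl hw) (z.1, z.2.1, _))).1 = _
          simp only [ev, refl_apply]
          simp [hyp_apply, polar_hyp]
          linear_combination (-z.2.1) * h2
        · show (ev (CfsgLib.Classical.Quad.refl hv) (ev (CfsgLib.Classical.Quad.refl hw) (z.1, z.2.1, _))).2.1 = _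
          simp only [ev, refl_apply]
          simp [hyp_apply, polar_hyp]
          linear_combination (-z.1) * h2
        · set u := ((Φ ss : OQ (q2 Q)) : U2 F A ≃ₗ[F] U2 F A) z.2.2 with hudef
          have hu : e u = ((σ : A ≃ₗ[F] A) (e z.2.2).1, (σ : A ≃ₗ[F] A) (e z.2.2).2.1,
              (e z.2.2).2.2) := hΦ ss z.2.2
          have hval' : (ev (CfsgLib.Classical.Quad.refl hv) (ev (CfsgLib.Classical.Quad.refl hw) (z.1, z.2.1, u))).2.2 =
              u - ((Q c)⁻¹ * polar Q u.2.2.2.2 c) • ((0, 0, (0, 0, c)) : U2 F A) := by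
            simp only [ev, refl_apply]
            simp [hyp_apply, polar_hyp]
          show e (ev (CfsgLib.Classical.Quad.refl hv) (ev (CfsgLib.Classical.Quad.refl hw) (z.1, z.2.1, u))).2.2 = _
          rw [hval', map_sub, map_smul, he0]
          have hb : polar Q u.2.2.2.2 c = polar Q (e z.2.2).2.2 c := by
            have h' : polar (sum3 Q) (e u) (e (0, 0, (0, 0, c))) =
                polar (q2 Q) u (0, 0, (0, 0, c)) := by
              simp only [polar, ← map_add, he]
            rw [he0, hu, hpol3] at h'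
            simpa [polar_hyp] using h'.symm
          rw [hb, hu, hσ, refl_apply (z := (e z.2.2).2.2)]
          simp
      refine Subtype.ext (Subtype.ext (LinearEquiv.ext fun z => ?_))
      show app s (app (lev (Φ z3)) z) = app (lev (Φ (z3 * z3))) (app s z)
      obtain ⟨u1, h1, h1'⟩ := happ (app (lev (Φ z3)) z)
      obtain ⟨u2, h2', h2''⟩ := happ z
      rw [h1, h2', lev_apply, lev_apply]
      refine Prod.ext rfl (Prod.ext rfl (e.injective ?_))
      have hσR' : ∀ v : A, (σ : A ≃ₗ[F] A) ((R : A ≃ₗ[F] A) v) =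
          (R : A ≃ₗ[F] A) ((R : A ≃ₗ[F] A) ((σ : A ≃ₗ[F] A) v)) := fun v =>
        LinearEquiv.congr_fun (congrArg Subtype.val hσR) v
      rw [h1', lev_apply, hΦ, hΦ, h2'']
      refine Prod.ext ?_ (Prod.ext ?_ ?_) <;> exact hσR' _
    rw [← hval z3 ?_, ← map_mul, ← hval (z3 * z3) ?_, ← hs, Representation.char_conj]
    · rintro ⟨x, y, z⟩ hx
      have h' : ∀ v : A, (R : A ≃ₗ[F] A) ((R : A ≃ₗ[F] A) v) = v → v = 0 := fun v hv => by
        refine hfix v ?_
        have := congrArg (R : A ≃ₗ[F] A) hv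
        rw [show (R : A ≃ₗ[F] A) ((R : A ≃ₗ[F] A) ((R : A ≃ₗ[F] A) v)) = v from
          LinearEquiv.congr_fun (congrArg Subtype.val hR3) v] at this
        exact this.symm
      change ((R : A ≃ₗ[F] A) ((R : A ≃ₗ[F] A) x), (R : A ≃ₗ[F] A) ((R : A ≃ₗ[F] A) y),
        (R : A ≃ₗ[F] A) ((R : A ≃ₗ[F] A) z)) = (x, y, z) at hx
      simp only [Prod.mk.injEq] at hx
      rw [h' x hx.1, h' y hx.2.1, h' z hx.2.2]
      rfl
    · rintro ⟨x, y, z⟩ hx
      simp only [z3, diag3_apply, Prod.mk.injEq] at hx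
      rw [hfix x hx.1, hfix y hx.2.1, hfix z hx.2.2]
      rfl
  have hone : f z3 = 1 := by
    refine eq_one_of_order_three hc (f z3) (f τ) (f π) (f τ⁻¹) (f π⁻¹) ?_ hreal ?_ ?_ ?_ ?_ ?_
    · rw [← map_mul, ← map_mul, hz33, map_one]
    · rw [← map_mul, hτz, map_mul]
    · rw [← map_mul, hπz, map_mul]
    · rw [← map_mul, mul_inv_cancel, map_one]
    · rw [← map_mul, mul_inv_cancel, map_one]
    · rw [← map_mul, hτπ, map_mul, map_mul]
  -- hence the rotation of the last plane acts trivially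
  let r : commutator (OQ (sum3 Q)) := ⟨diag3 (1, 1, R * R), (diag3_mem (mul_mem hR hR)).2.2⟩
  have hr : f r = 1 := by
    have : r = z3 * (ss * z3 * ss⁻¹) := Subtype.ext (by
      show diag3 (1, 1, R * R) = diag3 (R, R, R) * (diag3 (σ, σ, 1) * diag3 (R, R, R) *
        (diag3 (σ, σ, 1))⁻¹)
      rw [← map_inv, ← map_mul, ← map_mul, ← map_mul]
      congr 1
      simp [hσR, hσ', mul_assoc, hσ2, ← mul_assoc R R R, hR3])
    rw [this, map_mul, map_mul, map_mul, hone, one_mul, mul_one, ← map_mul, mul_inv_cancel, map_one]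
  -- but it moves a weight of the fixed space
  set hn1 := hyp_nondegenerate hQ
  have h31 : 3 ≤ finrank F (F × F × A) := by simp [hdim]
  obtain ⟨g, hg⟩ := hC
  obtain ⟨u, hu0, hu⟩ : ∃ u : F × F × A, u ≠ 0 ∧ mult hn1 h31 C u ≠ 0 := by
    by_contra hcon
    push Not at hcon
    exact hg (eq_one_of_mult hn1 h31 C hcon g)
  let w : F × F × A := (hyp Q u - Q c, 1, c)
  have hw : mult hn1 h31 C w ≠ 0 := by
    rw [mult_eq_aniso hQ haniso h31 C hsurj (by simp [w]) hu0 (by simp [w, hyp_apply])]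
    exact hu
  have hRc : (R : A ≃ₗ[F] A) ((R : A ≃ₗ[F] A) c) ≠ c := fun h => by
    have h' := congrArg (R : A ≃ₗ[F] A) h
    rw [show (R : A ≃ₗ[F] A) ((R : A ≃ₗ[F] A) ((R : A ≃ₗ[F] A) c)) = c from
      LinearEquiv.congr_fun (congrArg Subtype.val hR3) c] at h'
    rw [hfix c h'.symm, QuadraticMap.map_zero] at hQc
    exact zero_ne_one hQc
  let g1 : commutator (OQ (hyp Q)) :=
    ⟨extHom (R * R), extHom_mem (mul_mem hR hR)⟩
  have hg1 : Φ r = lev g1 := by
    refine Subtype.ext (Subtype.ext (LinearEquiv.ext fun z => e.injective ?_))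
    rw [hΦ]
    have hz : ((lev g1 : OQ (q2 Q)) : U2 F A ≃ₗ[F] U2 F A) z =
        z + ((0, 0, (0, 0, ((R * R : OQ Q) : A ≃ₗ[F] A) z.2.2.2.2 - z.2.2.2.2)) : U2 F A) := by
      show ((z.1, z.2.1, (z.2.2.1, z.2.2.2.1, ((R * R : OQ Q) : A ≃ₗ[F] A) z.2.2.2.2)) : U2 F A) = _
      refine Prod.ext (by simp) (Prod.ext (by simp) (Prod.ext (by simp) (Prod.ext (by simp) ?_)))
      show _ = z.2.2.2.2 + (_ - z.2.2.2.2)
      rw [add_sub_cancel]
    rw [hz, map_add, he0]
    have h5 : (e z).2.2 = z.2.2.2.2 := by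
      refine sub_eq_zero.1 (hQ.1 _ fun y => ?_)
      have hp : polar (sum3 Q) (e z) (e (0, 0, (0, 0, y))) = polar (q2 Q) z (0, 0, (0, 0, y)) := by
        simp only [polar, ← map_add, he]
      rw [he0] at hp
      simp only [polar, sum3_apply, Prod.fst_add, Prod.snd_add, add_zero, QuadraticMap.map_zero] at hp
      show polar Q _ y = 0
      rw [QuadraticMap.polar_sub_left, sub_eq_zero]
      simp only [polar, hyp_apply, Prod.fst_add, Prod.snd_add, add_zero, mul_zero, zero_mul,
        QuadraticMap.map_zero] at hp ⊢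
      linear_combination hp
    show (((1 : OQ Q) : A ≃ₗ[F] A) (e z).1, ((1 : OQ Q) : A ≃ₗ[F] A) (e z).2.1,
      ((R * R : OQ Q) : A ≃ₗ[F] A) (e z).2.2) = _
    refine Prod.ext ?_ (Prod.ext ?_ ?_) <;> simp [h5]
  have hmv := lev_mul_E hn1 h31 C g1 w
  have hC1 : C (lev g1) = 1 := by rw [← hg1]; exact hr
  rw [hC1, one_mul, mul_one] at hmv
  refine hw ?_
  have h0 : E hn1 h31 C w = 0 := by
    calc E hn1 h31 C w = E hn1 h31 C w * E hn1 h31 C w := (E_idem hn1 h31 C w).symm
      _ = E hn1 h31 C w * E hn1 h31 C (((g1 : OQ (hyp Q)) : (F × F × A) ≃ₗ[F] F × F × A) w) := by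
        rw [← hmv]
      _ = 0 := E_orth hn1 h31 C fun h => hRc (congrArg (fun x : F × F × A => x.2.2) h).symm
  rw [mult, h0, LinearMap.range_zero, finrank_bot]

end CfsgLib.OrthDeg
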