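import Cfsg.Agent.Lib.Geo.OrthMinDeg.OddStep

/-!
# The bound in dimension seven

Owner: helper23.
-/

set_option autoImplicit false
set_option maxHeartbeats 1000000

namespace CfsgLib.OrthDeg.Odd

open Module CfsgLib.Classical.Quad CfsgLib.SLMinDeg
open QuadraticMap (polar polarBilin)

variable {F : Type*} [Field F] [Fintype F] [DecidableEq F] {A : Type*} [AddCommGroup A]
  [Module F A] [FiniteDimensional F A] [Fintype A] [DecidableEq A] {Q : QuadraticForm F A}
  (fr : Frame Q)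

theorem tel_eq_xel' (ξ : F) :
    tel fr.nd fr.one_le ξ = xel' fr.nd fr.one_le ((ξ, 0, 0) : F × F × A) := by
  refine Subtype.ext (Subtype.ext (LinearEquiv.ext fun z => ?_))
  rw [tel_apply, show ((xel' fr.nd fr.one_le ((ξ, 0, 0) : F × F × A) : OQ (q2 Q)) :
    U2 F A ≃ₗ[F] U2 F A) z = _ from xo_apply (hyp_nondegenerate fr.nd) _ z]
  simp [polar_hyp, hyp_apply, Prod.ext_iff]
  (repeat' apply And.intro) <;> ring

/-- The second torus element comes from `Ω(U)`. -/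
theorem exists_lev_t23 : ∃ d : commutator (OQ (q2 Q)), lev d = t23 fr ∧
    ∃ c : F, ((d : OQ (q2 Q)) : U2 F A ≃ₗ[F] U2 F A) (vP F A) = c • vP F A := by
  obtain ⟨r, hr⟩ := exists_dilR fr.nd fr.lam
  have hvR : ∀ t : F, polar (q2 Q) (vR F A) (t • vP' F A) = 0 := fun t => by simp [polar_hyp]
  let y : F → commutator (OQ (q2 Q)) := fun t =>
    eU fr.nd fr.one_le (q2_vR fr.nd fr.one_le) (hvR t)
  let x : F → commutator (OQ (q2 Q)) := fun c => xel' fr.nd fr.one_le ((0, c, 0) : F × F × A)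
  have hy : ∀ t z, ((y t : OQ (q2 Q)) : U2 F A ≃ₗ[F] U2 F A) z =
      (z.1, z.2.1 - t * z.2.2.2.1, (z.2.2.1 + t * z.1, z.2.2.2.1, z.2.2.2.2)) := fun t z => by
    show (eich (q2_nondeg fr.nd) (q2_vR fr.nd fr.one_le) (hvR t) : U2 F A ≃ₗ[F] U2 F A) z = _
    rw [eich_apply]
    refine Prod.ext ?_ (Prod.ext ?_ (Prod.ext ?_ (Prod.ext ?_ ?_))) <;>
      simp [polar_hyp, hyp_apply] <;> ring
  have ey : ∀ t, el fr.nd (tv 2 1 h12.symm t) = lev (y t) := fun t => ext_app fun z => by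
    rw [app_el fr.nd (tv_mem fr.nd fr.hmu _ _ _ _), lev_apply, hy, glMap_apply, coe_tv, coe_tv_inv]
    simp [Matrix.transvection, Matrix.single_apply, Prod.ext_iff]
    (repeat' apply And.intro) <;> ring
  have ex : ∀ c, el fr.nd (tv 1 2 h12 c) = lev (x c) := fun c => el_tv12 fr.nd fr.one_le fr.hmu c
  set l : Fˣ := fr.lam with hl
  set d := r * (x (l : F) * y (-(l : F)⁻¹) * x ((l : F) - 1) * y 1 * x (-1)) with hd
  have hm := mem_SG_tv fr
  have hdg : dg (1 : Fˣ) l l⁻¹ ∈ SG fr.nd := det_one_mem_SG fr (by simp)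
  have h33 : dg (1 : Fˣ) 1 (l * l) ∈ SG fr.nd := dg_lam_mem fr ⟨l, by simp⟩
  have hr' : el fr.nd (dg (1 : Fˣ) 1 (l * l)) = lev r := ext_app fun z => by
    rw [app_el fr.nd h33, lev_apply, hr, glMap_apply, coe_dg, coe_dg_inv]
    simp [Prod.ext_iff, mul_comm]
  have hlev : lev d = t23 fr := by
    rw [hd, map_mul, map_mul, map_mul, map_mul, map_mul, ← ex, ← ex, ← ex, ← ey, ← ey, ← hr',
      ← el_mul fr.nd (hm _ _ _ _) (hm _ _ _ _),
      ← el_mul fr.nd (mul_mem (hm _ _ _ _) (hm _ _ _ _)) (hm _ _ _ _),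
      ← el_mul fr.nd (mul_mem (mul_mem (hm _ _ _ _) (hm _ _ _ _)) (hm _ _ _ _)) (hm _ _ _ _),
      ← el_mul fr.nd (mul_mem (mul_mem (mul_mem (hm _ _ _ _) (hm _ _ _ _)) (hm _ _ _ _))
        (hm _ _ _ _)) (hm _ _ _ _), ← dg12_eq, ← el_mul fr.nd h33 hdg, dg_mul, t23]
    congr 2 <;> simp [mul_assoc, hl]
  refine ⟨d, hlev, (fr.lam : F), ?_⟩
  have h := congrArg (fun g => app g ((0, 0, vP F A) : VV F A)) hlev
  simp only [lev_apply, t23] at h
  rw [app_el fr.nd (t23_mem fr), glMap_apply, coe_dg, coe_dg_inv] at h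
  simp at h
  rw [h]
  simp [Prod.ext_iff]

variable {V : Type} [AddCommGroup V] [Module ℂ V] [FiniteDimensional ℂ V]
  (ρ : Representation ℂ (Om (q2 Q)) V)

/-- The average over the long root group of the second level. -/
noncomputable def PT : Module.End ℂ V :=
  ((Fintype.card F : ℕ) : ℂ)⁻¹ • ∑ ξ : F, ρ (lev (tel fr.nd fr.one_le ξ))

omit [FiniteDimensional ℂ V] in
theorem tel_mul_PT (η : F) : ρ (lev (tel fr.nd fr.one_le η)) * PT fr ρ = PT fr ρ := by
  rw [PT, mul_smul_comm, Finset.mul_sum]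
  congr 1
  refine Fintype.sum_equiv (Equiv.addLeft η) _ _ fun ξ => ?_
  rw [← map_mul, ← map_mul, ← tel_add, Equiv.coe_addLeft]

omit [FiniteDimensional ℂ V] in
theorem PT_of_fixed {v : V} (h : ∀ ξ, ρ (lev (tel fr.nd fr.one_le ξ)) v = v) :
    PT fr ρ v = v := by
  rw [PT, LinearMap.smul_apply, LinearMap.sum_apply, Finset.sum_congr rfl fun ξ _ => h ξ,
    Finset.sum_const, Finset.card_univ, ← Nat.cast_smul_eq_nsmul ℂ, smul_smul,
    inv_mul_cancel₀ card_F_ne, one_smul]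

omit [FiniteDimensional ℂ V] in
theorem PT_comm : PT fr ρ * EE fr ρ 0 = EE fr ρ 0 * PT fr ρ := by
  simp only [PT, mul_smul_comm, smul_mul_assoc, Finset.mul_sum, Finset.sum_mul]
  exact congrArg _ (Finset.sum_congr rfl fun ξ _ => lev_mem_cZero fr ρ _)

/-- The fixed vectors of the first radical and the long root group. -/
noncomputable def cT : Submodule ℂ V := LinearMap.range (PT fr ρ * EE fr ρ 0)

omit [FiniteDimensional ℂ V] in
theorem mem_cT {v : V} (h1 : ∀ a, ρ (Xe fr a) v = v)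
    (h2 : ∀ ξ, ρ (lev (tel fr.nd fr.one_le ξ)) v = v) : v ∈ cT fr ρ :=
  ⟨v, by rw [Module.End.mul_apply, E0_of_fixed fr ρ h1, PT_of_fixed fr ρ h2]⟩

theorem trace_cT : LinearMap.trace ℂ V (PT fr ρ * EE fr ρ 0) = (finrank ℂ (cT fr ρ) : ℂ) := by
  have hidem : PT fr ρ * EE fr ρ 0 * (PT fr ρ * EE fr ρ 0) = PT fr ρ * EE fr ρ 0 := by
    rw [mul_assoc, ← mul_assoc (EE fr ρ 0), ← PT_comm, mul_assoc (PT fr ρ) (EE fr ρ 0), E_idem,
      ← mul_assoc]
    congr 1
    conv_lhs => rw [show PT fr ρ * PT fr ρ = ((Fintype.card F : ℕ) : ℂ)⁻¹ •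
      ∑ ξ : F, ρ (lev (tel fr.nd fr.one_le ξ)) * PT fr ρ by
        rw [← Finset.sum_mul, ← smul_mul_assoc]; rfl]
    simp only [tel_mul_PT, Finset.sum_const, Finset.card_univ, ← Nat.cast_smul_eq_nsmul ℂ,
      smul_smul, inv_mul_cancel₀ card_F_ne, one_smul]
  have h : LinearMap.IsProj (cT fr ρ) (PT fr ρ * EE fr ρ 0) :=
    ⟨fun v => LinearMap.mem_range_self _ v, fun v hv => by
      obtain ⟨u, rfl⟩ := hv
      exact LinearMap.congr_fun hidem u⟩
  exact h.trace

variable (hpure : Pure fr ρ)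
include hpure

/-- The fixed vectors of the long root group in weight zero. -/
theorem cT_add (hz : zc Q 0 = 1) (hd : finrank F A = 1) :
    finrank ℂ (cT fr ρ) + Fintype.card F * Fintype.card F = mm fr ρ 0 + Fintype.card F := by
  classical
  set q := Fintype.card F with hqdef
  obtain ⟨hzH, hzU⟩ := zc_q2 (i := 0) (by simpa using hd) (by simpa using hz)
  simp only [mul_zero, zero_add, ← hqdef] at hzH hzU
  set nz := Finset.univ.filter fun w : U2 F A => w ≠ 0 with hnz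
  have hsplit : ∀ f : U2 F A → ℂ, ∑ w, f w = f 0 + ∑ w ∈ nz, f w := fun f => by
    rw [← Finset.add_sum_erase _ _ (Finset.mem_univ (0 : U2 F A)), hnz, Finset.filter_ne']
  have hsum : ∀ (p : U2 F A → Prop) [DecidablePred p],
      ∑ w ∈ nz, (if p w then (mm fr ρ w : ℂ) else 0) =
        ((Finset.univ.filter fun w : U2 F A => (w ≠ 0 ∧ q2 Q w = 0) ∧ p w).card : ℂ) := by
    intro p _
    rw [Finset.card_filter, Nat.cast_sum, hnz, Finset.sum_filter]
    refine Finset.sum_congr rfl fun w _ => ?_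
    by_cases h0 : w = 0
    · simp [h0]
    rw [if_pos h0, hpure w h0]
    by_cases hs : q2 Q w = 0 <;> by_cases hp : p w <;> simp [h0, hs, hp]
  -- the counts
  have hcnt : ∀ (p : U2 F A → Prop) [DecidablePred p], p 0 →
      (Finset.univ.filter fun w : U2 F A => (w ≠ 0 ∧ q2 Q w = 0) ∧ p w).card + 1 =
        Nat.card {w : U2 F A // q2 Q w = 0 ∧ p w} := by
    intro p _ hp0
    rw [Nat.card_eq_fintype_card, Fintype.card_subtype,
      ← Finset.card_erase_add_one (a := (0 : U2 F A)) (s := Finset.univ.filter fun w : U2 F A =>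
        q2 Q w = 0 ∧ p w) (by simp [hp0])]
    congr 2
    ext w
    simp [and_assoc]
  let e1 : {w : U2 F A // q2 Q w = 0 ∧ w.2.1 = 0} ≃ F × {h : F × F × A // hyp Q h = 0} :=
    { toFun := fun w => (w.1.1, ⟨w.1.2.2, by
        have := w.2.1
        rw [show q2 Q w.1 = w.1.1 * w.1.2.1 + hyp Q w.1.2.2 from rfl, w.2.2, mul_zero,
          zero_add] at this
        exact this⟩)
      invFun := fun p => ⟨(p.1, 0, p.2.1), by
        show p.1 * 0 + hyp Q p.2.1 = 0; rw [p.2.2]; simp, rfl⟩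
      left_inv := fun w => Subtype.ext (Prod.ext rfl (Prod.ext w.2.2.symm rfl))
      right_inv := fun p => rfl }
  let e2 : {w : U2 F A // q2 Q w = 0 ∧ (w.2.1 = 0 ∧ w.2.2.2.1 = 0)} ≃
      F × F × {a : A // Q a = 0} :=
    { toFun := fun w => (w.1.1, w.1.2.2.1, ⟨w.1.2.2.2.2, by
        have := w.2.1
        rw [q2_apply, w.2.2.1, w.2.2.2] at this
        simpa using this⟩)
      invFun := fun p => ⟨(p.1, 0, (p.2.1, 0, p.2.2.1)), by
        rw [q2_apply]; simp [p.2.2.2], rfl, rfl⟩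
      left_inv := fun w => Subtype.ext (Prod.ext rfl (Prod.ext w.2.2.1.symm (Prod.ext rfl
        (Prod.ext w.2.2.2.symm rfl))))
      right_inv := fun p => rfl }
  have hX := hcnt (fun _ => True) trivial
  rw [show Nat.card {w : U2 F A // q2 Q w = 0 ∧ True} = q ^ 4 by
    rw [← hzU, zc]; exact Nat.card_congr (Equiv.subtypeEquivRight fun w => by simp)] at hX
  have h1 := hcnt (fun w => w.2.1 = 0) rfl
  rw [Nat.card_congr e1, Nat.card_prod, Nat.card_eq_fintype_card (α := F), ← hqdef,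
    show Nat.card {h : F × F × A // hyp Q h = 0} = q ^ 2 from hzH] at h1
  have h0 := hcnt (fun w => w.2.1 = 0 ∧ w.2.2.2.1 = 0) ⟨rfl, rfl⟩
  rw [Nat.card_congr e2, Nat.card_prod, Nat.card_prod, Nat.card_eq_fintype_card (α := F), ← hqdef,
    show Nat.card {a : A // Q a = 0} = 1 from hz, mul_one] at h0
  set n1 := (Finset.univ.filter fun w : U2 F A => (w ≠ 0 ∧ q2 Q w = 0) ∧ w.2.1 = 0).card
  set n0 := (Finset.univ.filter fun w : U2 F A =>
    (w ≠ 0 ∧ q2 Q w = 0) ∧ (w.2.1 = 0 ∧ w.2.2.2.1 = 0)).card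
  set X := (Finset.univ.filter fun w : U2 F A => (w ≠ 0 ∧ q2 Q w = 0) ∧ True).card
  have hL : ∑ ξ : F, ρ.character (Xe fr (ξ • vP F A)) = (q : ℂ) * ((mm fr ρ 0 : ℂ) + n1) := by
    simp only [character_xel]
    rw [Finset.sum_comm, hsplit]
    simp only [← Finset.sum_mul, mult_sum_eq fr.nd fr.one_le, ← hqdef]
    rw [mul_add]
    refine congrArg₂ (· + ·) (by simp) ?_
    rw [← hsum (fun w => w.2.1 = 0), Finset.mul_sum]
    refine Finset.sum_congr rfl fun w _ => ?_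
    split_ifs <;> simp
  have hT : ∀ ξ : F, ρ.character (lev (tel fr.nd fr.one_le ξ)) =
      LinearMap.trace ℂ V (ρ (lev (tel fr.nd fr.one_le ξ)) * EE fr ρ 0) +
        if ξ = 0 then (X : ℂ) else (n0 : ℂ) := by
    intro ξ
    rw [character_eq (q2_nondeg fr.nd) (three_le_U2 fr.nd fr.one_le) ρ
      (lev (tel fr.nd fr.one_le ξ)) _
      (fun w => ((tel fr.nd fr.one_le ξ : OQ (q2 Q)) : U2 F A ≃ₗ[F] U2 F A) w)
      ((tel fr.nd fr.one_le ξ : OQ (q2 Q)) : U2 F A ≃ₗ[F] U2 F A).bijective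
      (lev_xel _ _ _) (fun a b => OQ.map_polar _ a b), Finset.sum_filter, hsplit,
      if_pos (map_zero _)]
    refine congrArg₂ (· + ·) rfl ?_
    by_cases hξ : ξ = 0
    · subst hξ
      rw [if_pos rfl, ← hsum (fun _ => True)]
      refine Finset.sum_congr rfl fun w _ => ?_
      rw [tel_zero, map_one, map_one, if_pos trivial, one_mul, if_pos (by simp), trace_E]
    rw [if_neg hξ, ← hsum (fun w => w.2.1 = 0 ∧ w.2.2.2.1 = 0)]
    refine Finset.sum_congr rfl fun w hw => ?_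
    simp only [tel_fix_iff fr.nd fr.one_le hξ]
    by_cases hc : w.2.1 = 0 ∧ w.2.2.2.1 = 0
    · rw [if_pos hc, if_pos hc]
      have hw0 := (Finset.mem_filter.1 hw).2
      by_cases hs : q2 Q w = 0
      · exact trace_eq_mult _ _ ρ fun v hv => fix_tel_of_card fr.nd fr.one_le ρ
          ⟨fr.lam, fr.lam_sq⟩ (line_eq_one fr ρ hpure hw0 hs) hc.1 hc.2 ξ v hv
      · rw [show E (q2_nondeg fr.nd) (three_le_U2 fr.nd fr.one_le) ρ w = 0 from
            EE_eq_zero fr ρ hpure hw0 hs, mul_zero, map_zero,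
          show mm fr ρ w = 0 by rw [hpure w hw0, if_neg hs], Nat.cast_zero]
    · rw [if_neg hc, if_neg hc]
  have hR : ∑ ξ : F, ρ.character (lev (tel fr.nd fr.one_le ξ)) =
      (q : ℂ) * (finrank ℂ (cT fr ρ) : ℂ) + (X : ℂ) + ((q : ℂ) - 1) * (n0 : ℂ) := by
    rw [Finset.sum_congr rfl fun ξ _ => hT ξ, Finset.sum_add_distrib, add_assoc]
    refine congrArg₂ (· + ·) ?_ ?_
    · rw [← trace_cT, PT, smul_mul_assoc, map_smul, smul_eq_mul, Finset.sum_mul, map_sum,
        ← hqdef, ← mul_assoc, mul_inv_cancel₀ (by rw [hqdef]; exact card_F_ne), one_mul]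
    · rw [← Finset.add_sum_erase _ _ (Finset.mem_univ (0 : F)), if_pos rfl,
        Finset.sum_congr rfl fun ξ hξ => if_neg (Finset.ne_of_mem_erase hξ), Finset.sum_const,
        Finset.card_erase_of_mem (Finset.mem_univ _), Finset.card_univ, nsmul_eq_mul, ← hqdef,
        Nat.cast_sub Fintype.card_pos, Nat.cast_one]
  have key := hL.symm.trans ((Finset.sum_congr rfl fun ξ _ =>
    (character_tel fr.nd fr.one_le ρ ξ).symm).trans hR)
  have hX' : (X : ℂ) + 1 = (q : ℂ) ^ 4 := by exact_mod_cast hX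
  have h1' : (n1 : ℂ) + 1 = (q : ℂ) * (q : ℂ) ^ 2 := by exact_mod_cast h1
  have h0' : (n0 : ℂ) + 1 = (q : ℂ) * q := by exact_mod_cast h0
  have hfin : (q : ℂ) * ((finrank ℂ (cT fr ρ) : ℂ) + (q : ℂ) * q) =
      (q : ℂ) * ((mm fr ρ 0 : ℂ) + q) := by
    linear_combination -key + (q : ℂ) * h1' - hX' - ((q : ℂ) - 1) * h0'
  have := mul_left_cancel₀ (by rw [hqdef]; exact card_F_ne) hfin
  exact_mod_cast this

omit hpure in
/-- The vectors fixed by both radicals of the first two vectors. -/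
noncomputable def S0 : Submodule ℂ V :=
  (⨅ a, LinearMap.ker (ρ (Xe fr a) - 1)) ⊓ ⨅ a, LinearMap.ker (ρ (lev (xel' fr.nd fr.one_le a)) - 1)

omit hpure [FiniteDimensional ℂ V] in
theorem mem_S0 {v : V} : v ∈ S0 fr ρ ↔
    (∀ a, ρ (Xe fr a) v = v) ∧ ∀ a, ρ (lev (xel' fr.nd fr.one_le a)) v = v := by
  simp [S0, sub_eq_zero]

theorem S0_bound : finrank ℂ (fixed (ρ.comp (MM fr).subtype)) + 3 ≤ finrank ℂ (S0 fr ρ) := by
  obtain ⟨d, hd, ⟨h12a, h23a⟩, ⟨h12b, h23b⟩, ⟨h12c, h23c⟩⟩ := exists_deltas fr ρ hpure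
  obtain ⟨e, he, c, hec⟩ := exists_lev_t23 fr
  set S1 := fixed (ρ.comp (MM fr).subtype) with hS1
  have hS : ∀ v ∈ S1, v ∈ S0 fr ρ ∧ ρ (t12 fr) v = v ∧ ρ (t23 fr) v = v := by
    intro v hv
    obtain ⟨h1, h2, h3⟩ := fixM_gen fr ρ hv
    refine ⟨(mem_S0 fr ρ).2 ⟨h1, fun a => h3 _ 1 ?_⟩, h2, ?_⟩
    · simpa using xel'_smul_vP fr a 1
    · rw [← he]; exact h3 e c hec
  have hd0 : ∀ i, d i ∈ S0 fr ρ := fun i => by
    have h := (hd i).1
    rw [Bsp, mem_range_Kp] at h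
    exact (mem_S0 fr ρ).2 ⟨h.1, h.2.1⟩
  let f : (S1 × (Fin 3 → ℂ)) →ₗ[ℂ] S0 fr ρ :=
    { toFun := fun p => ⟨(p.1 : V) + ∑ i, p.2 i • d i, add_mem (hS _ p.1.2).1
        (Submodule.sum_mem _ fun i _ => Submodule.smul_mem _ _ (hd0 i))⟩
      map_add' := fun p r => Subtype.ext (by
        simp [add_smul, Finset.sum_add_distrib]; abel)
      map_smul' := fun s p => Subtype.ext (by
        simp [Finset.smul_sum, smul_smul]) }
  have hf : Function.Injective f := by
    rw [injective_iff_map_eq_zero]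
    rintro ⟨v, a⟩ h
    have h0 : (v : V) + (a 0 • d 0 + a 1 • d 1 + a 2 • d 2) = 0 := by
      have := congrArg Subtype.val h
      simpa [f, Fin.sum_univ_three] using this
    have h1 := congrArg (ρ (t12 fr)) h0
    have h2 := congrArg (ρ (t23 fr)) h0
    simp only [map_add, map_smul, map_zero, (hS _ v.2).2.1, h12a, h12b, h12c] at h1
    simp only [map_add, map_smul, map_zero, (hS _ v.2).2.2, h23a, h23b, h23c] at h2
    have h3 := congrArg (ρ (t12 fr)) h2
    simp only [map_add, map_smul, map_neg, map_zero, (hS _ v.2).2.1, h12a, h12b, h12c] at h3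
    have hv : (4 : ℂ) • (v : V) = 0 := by
      calc (4 : ℂ) • (v : V) = ((v : V) + (a 0 • d 0 + a 1 • d 1 + a 2 • d 2)) +
            ((v : V) + (a 0 • -d 0 + a 1 • -d 1 + a 2 • d 2)) +
            ((v : V) + (a 0 • d 0 + a 1 • -d 1 + a 2 • -d 2)) +
            ((v : V) + (a 0 • -d 0 + a 1 • - -d 1 + a 2 • -d 2)) := by module
        _ = 0 := by rw [h0, h1, h2, h3]; simp
    have hv0 : (v : V) = 0 := (smul_eq_zero.1 hv).resolve_left (by norm_num)
    rw [hv0, zero_add] at h0 h1 h2 h3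
    have hi : ∀ i, a i • d i = 0 := by
      have ha : (4 : ℂ) • (a 0 • d 0) = 0 := by
        calc (4 : ℂ) • (a 0 • d 0) = (a 0 • d 0 + a 1 • d 1 + a 2 • d 2) -
              (a 0 • -d 0 + a 1 • -d 1 + a 2 • d 2) +
              (a 0 • d 0 + a 1 • -d 1 + a 2 • -d 2) -
              (a 0 • -d 0 + a 1 • - -d 1 + a 2 • -d 2) := by module
          _ = 0 := by rw [h0, h1, h2, h3]; simp
      have hb : (4 : ℂ) • (a 1 • d 1) = 0 := by
        calc (4 : ℂ) • (a 1 • d 1) = (a 0 • d 0 + a 1 • d 1 + a 2 • d 2) -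
              (a 0 • -d 0 + a 1 • -d 1 + a 2 • d 2) -
              (a 0 • d 0 + a 1 • -d 1 + a 2 • -d 2) +
              (a 0 • -d 0 + a 1 • - -d 1 + a 2 • -d 2) := by module
          _ = 0 := by rw [h0, h1, h2, h3]; simp
      have hc : (4 : ℂ) • (a 2 • d 2) = 0 := by
        calc (4 : ℂ) • (a 2 • d 2) = (a 0 • d 0 + a 1 • d 1 + a 2 • d 2) +
              (a 0 • -d 0 + a 1 • -d 1 + a 2 • d 2) -
              (a 0 • d 0 + a 1 • -d 1 + a 2 • -d 2) -
              (a 0 • -d 0 + a 1 • - -d 1 + a 2 • -d 2) := by module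
          _ = 0 := by rw [h0, h1, h2, h3]; simp
      intro i
      fin_cases i
      · exact (smul_eq_zero.1 ha).resolve_left (by norm_num)
      · exact (smul_eq_zero.1 hb).resolve_left (by norm_num)
      · exact (smul_eq_zero.1 hc).resolve_left (by norm_num)
    refine Prod.ext (Subtype.ext hv0) (funext fun i => ?_)
    exact (smul_eq_zero.1 (hi i)).resolve_right (hd i).2
  have := LinearMap.finrank_le_finrank_of_injective hf
  rw [Module.finrank_prod, Module.finrank_fin_fun] at this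
  exact this

theorem S0_le_cT : finrank ℂ (S0 fr ρ) + (Fintype.card F - 1) ≤ finrank ℂ (cT fr ρ) := by
  set CF := LinearMap.range (P0 fr ρ) with hCF
  have hP : ∀ v ∈ CF, (∀ g ∈ R3 fr.nd fr.one_le, ρ g v = v) ∧ ∀ a, ρ (Xe fr a) v = v := by
    rintro v ⟨u, rfl⟩
    refine ⟨fun g hg => ?_, fun a => ?_⟩
    · rw [P0, Module.End.mul_apply, avg_fixed ρ _ _ g hg]
    · rw [P0, ← PR_comm_E0, Module.End.mul_apply, ← Module.End.mul_apply, xel_mul_E,
        psi_zero_left, one_smul]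
  have hsup : S0 fr ρ ⊔ CF ≤ cT fr ρ := by
    refine sup_le (fun v hv => ?_) fun v hv => ?_
    · obtain ⟨h1, h2⟩ := (mem_S0 fr ρ).1 hv
      exact mem_cT fr ρ h1 fun ξ => by rw [tel_eq_xel' fr]; exact h2 _
    · obtain ⟨h1, h2⟩ := hP v hv
      refine mem_cT fr ρ h2 fun ξ => ?_
      rw [tel_eq_xel' fr]
      exact h1 _ (xel'_mem_R3 _ _ rfl)
  have hinf : S0 fr ρ ⊓ CF ≤ Bsp fr ρ := by
    rintro v ⟨h1, h2⟩
    rw [Bsp, mem_range_Kp]
    exact ⟨((mem_S0 fr ρ).1 h1).1, ((mem_S0 fr ρ).1 h1).2,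
      fun a => (hP v h2).1 _ (xel''_mem_R3 _ _ a)⟩
  have h1 := Submodule.finrank_sup_add_finrank_inf_eq (S0 fr ρ) CF
  have h2 := Submodule.finrank_mono hsup
  have h3 := Submodule.finrank_mono hinf
  have h4 := bd_add fr ρ hpure
  have h5 : finrank ℂ CF = cf fr ρ := rfl
  have h6 : finrank ℂ (Bsp fr ρ) = bd fr ρ := rfl
  omega

omit hpure in
/-- The bound in dimension seven. -/
theorem bound_base (hd : finrank F A = 1) (hz : zc Q 0 = 1) : Bound fr 3 := by
  intro V _ _ _ ρ hρ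
  have hq := fr.five
  obtain ⟨hX, hT0, hT⟩ := cls_bounds fr (i := 0) (by simpa using hd) (by simpa using hz)
  have hfm := fixM_le_mult fr ρ
  rcases bound_or_pure fr ρ hρ (Bk (Fintype.card F) 3) hT0 hT with h | ⟨hpure, -, hdim⟩
  · omega
  have h1 := cT_add fr ρ hpure hz hd
  have h2 := S0_bound fr ρ hpure
  have h3 := S0_le_cT fr ρ hpure
  have hB : Bk (Fintype.card F) 3 = 1 + Fintype.card F * Fintype.card F + Fintype.card F ^ 4 := by
    simp [Bk, Finset.sum_range_succ, pow_two]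
  simp only [mul_zero, zero_add] at hX
  omega

end CfsgLib.OrthDeg.Odd
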