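import Cfsg.Agent.Lib.Classical.Quad.StandardForms
import Cfsg.Agent.Lib.Classical.Quad.POmega
import Cfsg.Agent.Lib.Char.Rep
import Cfsg.Agent.Lib.Char.Central
import Cfsg.Agent.Lib.Char.Weights

/-!
# Transport, non-trivial constituents and the numbers of vectors with given value

Owner: helper23.
-/

set_option autoImplicit false

namespace CfsgLib.OrthDeg

open Module CfsgLib.Classical.Quad
open QuadraticMap (polar polarBilin)

/-- Every non-trivial complex representation has degree at least `L`. -/
def MinDeg (G : Type*) [Group G] (L : ℕ) : Prop :=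
  ∀ (V : Type) [AddCommGroup V] [Module ℂ V] [FiniteDimensional ℂ V]
    (ρ : Representation ℂ G V), (∃ g, ρ g ≠ 1) → L ≤ finrank ℂ V

theorem MinDeg.of_surjective {G H : Type*} [Group G] [Group H] {L : ℕ} (f : G →* H)
    (hf : Function.Surjective f) (h : MinDeg G L) : MinDeg H L := by
  intro V _ _ _ ρ ⟨x, hx⟩
  obtain ⟨g, rfl⟩ := hf x
  exact h V (ρ.comp f) ⟨g, hx⟩

theorem MinDeg.of_equiv {G H : Type*} [Group G] [Group H] {L : ℕ} (e : G ≃* H)
    (h : MinDeg G L) : MinDeg H L :=
  h.of_surjective e.toMonoidHom e.surjective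

theorem MinDeg.mono {G : Type*} [Group G] {L M : ℕ} (h : MinDeg G L) (hM : M ≤ L) :
    MinDeg G M := fun V _ _ _ ρ hρ => hM.trans (h V ρ hρ)

section Constituent

variable {G : Type*} [Group G] {V : Type*} [AddCommGroup V] [Module ℂ V]

/-- The fixed vectors of a representation. -/
def fixed (ρ : Representation ℂ G V) : Submodule ℂ V := ⨅ g, LinearMap.ker (ρ g - 1)

theorem mem_fixed {ρ : Representation ℂ G V} {v : V} : v ∈ fixed ρ ↔ ∀ g, ρ g v = v := by
  simp [fixed, sub_eq_zero]

/-- The fixed vectors split along invariant complements. -/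
theorem finrank_fixed_le [FiniteDimensional ℂ V] {ρ : Representation ℂ G V}
    (S T : Subrepresentation ρ) (h : IsCompl S.toSubmodule T.toSubmodule) :
    finrank ℂ (fixed ρ) ≤ finrank ℂ (fixed S.toRepresentation) +
      finrank ℂ (fixed T.toRepresentation) := by
  let e := Submodule.prodEquivOfIsCompl _ _ h
  let φ : fixed ρ →ₗ[ℂ] fixed S.toRepresentation × fixed T.toRepresentation :=
    have key : ∀ v : fixed ρ, (e.symm v.1).1 ∈ fixed S.toRepresentation ∧
        (e.symm v.1).2 ∈ fixed T.toRepresentation := fun v => by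
      have hg : ∀ g, (S.toRepresentation g (e.symm v.1).1, T.toRepresentation g (e.symm v.1).2) =
          e.symm v.1 := fun g => by
        refine e.injective ?_
        rw [LinearEquiv.apply_symm_apply, Submodule.coe_prodEquivOfIsCompl']
        show ρ g ((e.symm v.1).1 : V) + ρ g ((e.symm v.1).2 : V) = _
        rw [← map_add, ← Submodule.coe_prodEquivOfIsCompl' _ _ h]
        show ρ g (e (e.symm v.1)) = _
        rw [LinearEquiv.apply_symm_apply]
        exact mem_fixed.1 v.2 g
      exact ⟨mem_fixed.2 fun g => (Prod.ext_iff.1 (hg g)).1,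
        mem_fixed.2 fun g => (Prod.ext_iff.1 (hg g)).2⟩
    { toFun := fun v => (⟨_, (key v).1⟩, ⟨_, (key v).2⟩)
      map_add' := fun a b => by
        refine Prod.ext (Subtype.ext ?_) (Subtype.ext ?_) <;> simp [map_add]
      map_smul' := fun c a => by
        refine Prod.ext (Subtype.ext ?_) (Subtype.ext ?_) <;> simp [map_smul] }
  have hφ : Function.Injective φ := fun a b hab => by
    refine Subtype.ext (e.symm.injective (Prod.ext ?_ ?_))
    · exact congrArg (fun p => (p.1 : S.toSubmodule)) hab
    · exact congrArg (fun p => (p.2 : T.toSubmodule)) hab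
  have := LinearMap.finrank_le_finrank_of_injective hφ
  rwa [Module.finrank_prod] at this

end Constituent

/-- A non-trivial constituent avoids the fixed vectors. -/
theorem exists_irreducible_nontrivial {G : Type*} [Group G] [Finite G] {V : Type}
    [AddCommGroup V] [Module ℂ V] [FiniteDimensional ℂ V] (ρ : Representation ℂ G V)
    (h : ∃ g, ρ g ≠ 1) :
    ∃ (n : ℕ) (σ : Representation ℂ G (Fin n → ℂ)), σ.IsIrreducible ∧ (∃ g, σ g ≠ 1) ∧
      n + finrank ℂ (fixed ρ) ≤ finrank ℂ V := by
  refine CfsgLib.Char.rep_induction (G := G)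
    (P := fun V _ _ ρ => FiniteDimensional ℂ V → (∃ g, ρ g ≠ 1) →
      ∃ (n : ℕ) (σ : Representation ℂ G (Fin n → ℂ)), σ.IsIrreducible ∧ (∃ g, σ g ≠ 1) ∧
        n + finrank ℂ (fixed ρ) ≤ finrank ℂ V) ?_ ?_ ?_ V ρ inferInstance h
  · intro V _ _ ρ hV _ ⟨g, hg⟩
    exact absurd (Subsingleton.elim _ _) hg
  · intro V _ _ _ ρ hρ _ ⟨g, hg⟩
    let e : V ≃ₗ[ℂ] (Fin (finrank ℂ V) → ℂ) := (Module.finBasis ℂ V).equivFun
    have := CfsgLib.Char.isIrreducible_mapEquiv ρ e
    refine ⟨_, CfsgLib.Char.mapEquiv ρ e, this, ⟨g, fun h => hg (LinearMap.ext fun v => ?_)⟩, ?_⟩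
    · refine e.injective ?_
      have := LinearMap.congr_fun h (e v)
      rw [CfsgLib.Char.mapEquiv_apply, LinearEquiv.symm_apply_apply] at this
      exact this
    · have : fixed ρ = ⊥ := by
        by_contra hne
        have := CfsgLib.CharWeights.eq_top_of_invariant ρ (fixed ρ)
          (fun x v hv => by rw [mem_fixed.1 hv x]; exact hv) hne
        exact hg (LinearMap.ext fun v => mem_fixed.1 (this ▸ Submodule.mem_top : v ∈ fixed ρ) g)
      simp [this]
  · intro V _ _ _ ρ S T hST hS hT _ ⟨g, hg⟩
    have h1 := finrank_fixed_le S T hST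
    have h2 := Submodule.finrank_add_eq_of_isCompl hST
    have hb : ∀ U : Subrepresentation ρ, finrank ℂ (fixed U.toRepresentation) ≤
        finrank ℂ U.toSubmodule := fun U => Submodule.finrank_le _
    by_cases hS' : ∃ x, S.toRepresentation x ≠ 1
    · obtain ⟨n, σ, hσ, hσ', hn⟩ := hS inferInstance hS'
      have := hb T
      exact ⟨n, σ, hσ, hσ', by omega⟩
    by_cases hT' : ∃ x, T.toRepresentation x ≠ 1
    · obtain ⟨n, σ, hσ, hσ', hn⟩ := hT inferInstance hT'
      have := hb S
      exact ⟨n, σ, hσ, hσ', by omega⟩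
    push Not at hS' hT'
    refine absurd (LinearMap.ext fun v => ?_) hg
    obtain ⟨⟨s, t⟩, rfl⟩ := (Submodule.prodEquivOfIsCompl _ _ hST).surjective v
    rw [Submodule.coe_prodEquivOfIsCompl']
    show ρ g ((s : V) + (t : V)) = (s : V) + (t : V)
    rw [map_add, show ρ g (s : V) = s from congrArg Subtype.val (LinearMap.congr_fun (hS' g) s),
      show ρ g (t : V) = t from congrArg Subtype.val (LinearMap.congr_fun (hT' g) t)]

/-- A bound for the irreducible representations gives a bound for all. -/
theorem MinDeg.of_irreducible {G : Type*} [Group G] [Finite G] {L : ℕ}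
    (h : ∀ (n : ℕ) (σ : Representation ℂ G (Fin n → ℂ)), σ.IsIrreducible → (∃ g, σ g ≠ 1) → L ≤ n) :
    MinDeg G L := by
  intro V _ _ _ ρ hρ
  obtain ⟨n, σ, hσ, hσ', hn⟩ := exists_irreducible_nontrivial ρ hρ
  have := h n σ hσ hσ'
  omega

/-- A one-dimensional non-trivial representation does not exist for a perfect group. -/
theorem two_le_finrank_of_perfect {G : Type*} [Group G] (hperf : commutator G = ⊤) {V : Type*}
    [AddCommGroup V] [Module ℂ V] [FiniteDimensional ℂ V] (ρ : Representation ℂ G V)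
    (h : ∃ g, ρ g ≠ 1) : 2 ≤ finrank ℂ V := by
  by_contra hlt
  obtain ⟨g, hg⟩ := h
  have hcomm : ∀ a b, ρ a * ρ b = ρ b * ρ a := by
    intro a b
    rcases Nat.lt_or_ge (finrank ℂ V) 1 with h0 | h1
    · have : Subsingleton V := Module.finrank_zero_iff.1 (by omega : finrank ℂ V = 0)
      exact Subsingleton.elim _ _
    · obtain ⟨v, hv, hspan⟩ := finrank_eq_one_iff'.1 (show finrank ℂ V = 1 by omega)
      obtain ⟨x, hx⟩ := hspan (ρ a v)
      obtain ⟨y, hy⟩ := hspan (ρ b v)
      refine LinearMap.ext fun w => ?_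
      obtain ⟨z, rfl⟩ := hspan w
      rw [Module.End.mul_apply, Module.End.mul_apply, map_smul, map_smul, ← hy, map_smul, ← hx,
        map_smul, map_smul, ← hx, map_smul, ← hy, smul_comm x y]
  have hle : commutator G ≤ MonoidHom.ker ρ := by
    rw [commutator_def, Subgroup.commutator_le]
    intro a _ b _
    rw [MonoidHom.mem_ker, commutatorElement_def, map_mul, map_mul, map_mul, hcomm a b,
      mul_assoc (ρ b), ← map_mul, mul_inv_cancel, map_one, mul_one, ← map_mul, mul_inv_cancel,
      map_one]
  exact hg (MonoidHom.mem_ker.1 (hle (hperf ▸ Subgroup.mem_top g)))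

/-- An irreducible representation of degree at least two is non-trivial. -/
theorem nontrivial_of_two_le {G : Type*} [Group G] {V : Type*} [AddCommGroup V] [Module ℂ V]
    [FiniteDimensional ℂ V] (ρ : Representation ℂ G V) [ρ.IsIrreducible]
    (h2 : 2 ≤ finrank ℂ V) : ∃ g, ρ g ≠ 1 := by
  by_contra hall
  push Not at hall
  have : Nontrivial V := Module.nontrivial_of_finrank_pos (R := ℂ) (by omega)
  obtain ⟨v, hv⟩ := exists_ne (0 : V)
  have htop := CfsgLib.CharWeights.eq_top_of_invariant ρ (Submodule.span ℂ {v})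
    (fun g y hy => by rw [hall g, Module.End.one_apply]; exact hy) (by simpa using hv)
  rw [← finrank_top ℂ V, ← htop, finrank_span_singleton hv] at h2
  omega

section Isometry

variable {F : Type*} [Field F] {V W : Type*} [AddCommGroup V] [Module F V] [AddCommGroup W]
  [Module F W] {Q : QuadraticForm F V} {Q' : QuadraticForm F W}

/-- The commutator subgroups of isometric spaces. -/
noncomputable def omegaCongr (e : V ≃ₗ[F] W) (h : ∀ v, Q' (e v) = Q v) :
    commutator (OQ Q) ≃* commutator (OQ Q') :=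
  let φ : OQ Q ≃* OQ Q' := CfsgLib.Classical.isoCongrEq e fun v _ => h v
  (φ.subgroupMap _).trans (MulEquiv.subgroupCongr (by
    show (commutator (OQ Q)).map φ.toMonoidHom = _
    rw [commutator_def, commutator_def, Subgroup.map_commutator,
      Subgroup.map_top_of_surjective _ φ.surjective]))

instance finite_OQ [Finite V] : Finite (OQ Q) :=
  haveI : Finite (V ≃ₗ[F] V) :=
    Finite.of_injective (fun g => (g : V → V)) DFunLike.coe_injective
  Subtype.finite

/-- A linear equivalence on the middle summand. -/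
def hypCongr (e : V ≃ₗ[F] W) : (F × F × V) ≃ₗ[F] F × F × W :=
  (LinearEquiv.refl F F).prodCongr ((LinearEquiv.refl F F).prodCongr e)

theorem hypCongr_preserves (e : V ≃ₗ[F] W) (h : ∀ v, Q' (e v) = Q v) (z : F × F × V) :
    hyp Q' (hypCongr e z) = hyp Q z := by
  show z.1 * z.2.1 + Q' (e z.2.2) = z.1 * z.2.1 + Q z.2.2
  rw [h]

end Isometry

section Counts

variable {F : Type*} [Field F] {V : Type*} [AddCommGroup V] [Module F V]

/-- The number of vectors with a given value. -/
noncomputable def zc (Q : QuadraticForm F V) (a : F) : ℕ := Nat.card {v : V // Q v = a}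

theorem zc_congr {W : Type*} [AddCommGroup W] [Module F W] {Q : QuadraticForm F V}
    {Q' : QuadraticForm F W} (e : V ≃ₗ[F] W) (h : ∀ v, Q' (e v) = Q v) (a : F) :
    zc Q a = zc Q' a :=
  Nat.card_congr (e.toEquiv.subtypeEquiv fun v => by
    show Q v = a ↔ Q' (e v) = a
    rw [h])

theorem zc_hyp [Finite F] [Finite V] (Q : QuadraticForm F V) (a : F) :
    zc (hyp Q) a = Nat.card F * zc Q a + (Nat.card F - 1) * Nat.card V := by
  have h := card_zero_hyp (F := F) fun u : V => Q u - a
  simp only [← add_sub_assoc, sub_eq_zero] at h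
  exact h

theorem one_le_zc_zero [Finite V] (Q : QuadraticForm F V) : 1 ≤ zc Q 0 := by
  have : Nonempty {v : V // Q v = 0} := ⟨⟨0, QuadraticMap.map_zero Q⟩⟩
  exact Nat.card_pos

end Counts

end CfsgLib.OrthDeg
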