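import Cfsg.Agent.Lib.Geo.OrthMinDeg.OddWeyl
import Cfsg.Agent.Lib.Geo.OrthMinDeg.Tools
import Cfsg.Agent.Lib.Geo.SLMin.Top

/-!
# The eigenvector separating the two levels

Owner: helper23.
-/

set_option autoImplicit false
set_option maxHeartbeats 1000000

namespace CfsgLib.OrthDeg.Odd

open Module CfsgLib.Classical.Quad CfsgLib.SLMinDeg
open QuadraticMap (polar polarBilin)

variable {F : Type*} [Field F] [Fintype F] [DecidableEq F] {A : Type*} [AddCommGroup A]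
  [Module F A] [FiniteDimensional F A] [Fintype A] [DecidableEq A] {Q : QuadraticForm F A}
  (fr : Frame Q) {V : Type} [AddCommGroup V] [Module ℂ V]
  (ρ : Representation ℂ (Om (q2 Q)) V)

/-- The second torus element. -/
noncomputable def t23 : Om (q2 Q) := el fr.nd (dg 1 fr.lam fr.lam)

theorem t23_mem : dg (1 : Fˣ) fr.lam fr.lam ∈ SG fr.nd :=
  dg_lam_mem fr ⟨fr.lam, by rw [one_mul]⟩

theorem t13_mem : dg fr.lam (1 : Fˣ) fr.lam ∈ SG fr.nd :=
  dg_lam_mem fr ⟨fr.lam, by rw [mul_one]⟩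

theorem det_one_mem_SG {a b c : Fˣ} (h : a * b * c = 1) : dg a b c ∈ SG fr.nd :=
  dg_lam_mem fr ⟨1, by rw [h, one_mul]⟩

theorem dg_comp {a b c a' b' c' : Fˣ} (hd : dg a b c ∈ SG fr.nd) (hd' : dg a' b' c' ∈ SG fr.nd)
    (v : V) : ρ (el fr.nd (dg a b c)) (ρ (el fr.nd (dg a' b' c')) v) =
      ρ (el fr.nd (dg (a * a') (b * b') (c * c'))) v := by
  rw [← Module.End.mul_apply, ← map_mul, ← el_mul fr.nd hd hd', dg_mul]

theorem dg_one (v : V) : ρ (el fr.nd (dg (1 : Fˣ) 1 1)) v = v := by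
  rw [show dg (1 : Fˣ) 1 1 = (1 : GL (Fin 3) F) from Units.ext (by
    rw [coe_dg]
    refine (congrArg Matrix.diagonal ?_).trans Matrix.diagonal_one
    funext i
    fin_cases i <;> simp), el_one, map_one, Module.End.one_apply]

/-- Vectors fixed by two opposite root groups are fixed by the torus between them. -/
theorem fixed_dg01 {v : V} (h1 : ∀ c, ρ (el fr.nd (tv 0 1 h01 c)) v = v)
    (h2 : ∀ c, ρ (el fr.nd (tv 1 0 h01.symm c)) v = v) (a : Fˣ) :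
    ρ (el fr.nd (dg a a⁻¹ 1)) v = v := by
  have hm := mem_SG_tv fr
  rw [dg01_eq, el_mul fr.nd (mul_mem (mul_mem (mul_mem (hm _ _ _ _) (hm _ _ _ _)) (hm _ _ _ _))
      (hm _ _ _ _)) (hm _ _ _ _),
    el_mul fr.nd (mul_mem (mul_mem (hm _ _ _ _) (hm _ _ _ _)) (hm _ _ _ _)) (hm _ _ _ _),
    el_mul fr.nd (mul_mem (hm _ _ _ _) (hm _ _ _ _)) (hm _ _ _ _),
    el_mul fr.nd (hm _ _ _ _) (hm _ _ _ _)]
  simp only [map_mul, Module.End.mul_apply, h1, h2]

theorem WT01_dg {a b c : Fˣ} (hd : dg a b c ∈ SG fr.nd) (hd' : dg b a c ∈ SG fr.nd) (z : V) :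
    WT fr ρ 0 1 h01 (ρ (el fr.nd (dg b a c)) z) =
      ρ (el fr.nd (dg a b c)) (WT fr ρ 0 1 h01 z) :=
  WT_dg fr ρ 0 1 h01 ![a, b, c] hd hd' (wy01_dg b a c) z

theorem WT12_dg {a b c : Fˣ} (hd : dg a b c ∈ SG fr.nd) (hd' : dg a c b ∈ SG fr.nd) (z : V) :
    WT fr ρ 1 2 h12 (ρ (el fr.nd (dg a c b)) z) =
      ρ (el fr.nd (dg a b c)) (WT fr ρ 1 2 h12 z) :=
  WT_dg fr ρ 1 2 h12 ![a, b, c] hd hd' (wy12_dg a c b) z

theorem WT01_J {j : Om (q2 Q)} (hj : j ∈ J Q) (z : V) :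
    WT fr ρ 0 1 h01 (ρ j z) = ρ j (WT fr ρ 0 1 h01 z) := by
  rw [WT_apply, WT_apply, map_sum]
  refine Finset.sum_congr rfl fun c _ => ?_
  rw [apply_of_eq ρ (J_comm_wy01 fr hj), apply_of_eq ρ (J_comm_tv01 fr hj c)]

theorem fixed_of_B {v : V} (hv : v ∈ Bsp fr ρ) :
    (∀ c, ρ (el fr.nd (tv 0 1 h01 c)) v = v) ∧ (∀ c, ρ (el fr.nd (tv 0 2 h02 c)) v = v) ∧
      (∀ c, ρ (el fr.nd (tv 1 2 h12 c)) v = v) ∧ ∀ g ∈ R3 fr.nd fr.one_le, ρ g v = v := by
  rw [Bsp, mem_range_Kp] at hv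
  refine ⟨fun c => ?_, fun c => ?_, fun c => ?_, fixed_R3_of_inB fr ρ hv⟩
  · rw [el_tv01 fr.nd fr.one_le fr.hmu]; exact hv.1 _
  · rw [el_tv02 fr.nd fr.one_le fr.hmu]; exact hv.1 _
  · rw [← X12_eq fr]; exact hv.2.1 _

/-- The components outside weight zero after the Weyl element. -/
noncomputable def Phi : Module.End ℂ V := (1 - EE fr ρ 0) * ρ (el fr.nd (wy 0 1 h01))

theorem Phi_apply (z : V) :
    Phi fr ρ z = ρ (el fr.nd (wy 0 1 h01)) z - EE fr ρ 0 (ρ (el fr.nd (wy 0 1 h01)) z) := by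
  simp [Phi]

theorem fixed_X10 {z : V} (h0 : Phi fr ρ z = 0) (c : F) :
    ρ (el fr.nd (tv 1 0 h01.symm c)) z = z := by
  rw [Phi_apply, sub_eq_zero] at h0
  set s := ρ (el fr.nd (wy 0 1 h01)) z with hs
  have hfix : ∀ a, ρ (Xe fr a) s = s := (mem_range_E_zero _ _ ρ).1 ⟨_, h0.symm⟩
  have hw := wy_mem fr.nd fr.hmu 0 1 h01
  have h := apply_of_eq ρ (el_rel fr hw (mem_SG_tv fr 1 0 h01.symm c) (mem_SG_tv fr 0 1 h01 (-c))
    hw (wy01_tv10 c)) z
  rw [← hs, el_tv01 fr.nd fr.one_le fr.hmu] at h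
  rw [show ρ (xel _ _ ((0, -c, (0, 0, 0)) : U2 F A)) s = s from hfix _, hs] at h
  have := congrArg (ρ (el fr.nd (wy 0 1 h01))⁻¹) h
  rwa [apply_of_apply_apply, apply_of_apply_apply] at this

variable [FiniteDimensional ℂ V] (hpure : Pure fr ρ)
include hpure

theorem Phi_scalar {g : Om (q2 Q)} (hc : g ∈ cZero fr ρ)
    (hcomm : el fr.nd (wy 0 1 h01) * g = g * el fr.nd (wy 0 1 h01)) {c : ℂ}
    (hline : ∀ α : Fˣ, ∀ v ∈ LinearMap.range (EE fr ρ ((α : F) • vP F A)), ρ g v = c • v)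
    {z : V} (hz : z ∈ Bsp fr ρ) : Phi fr ρ (ρ g z) = c • Phi fr ρ z := by
  classical
  set s := ρ (el fr.nd (wy 0 1 h01)) z with hs
  obtain ⟨-, -, h12', hR⟩ := fixed_of_B fr ρ hz
  have hsR := fixed_of_normalises fr ρ
    ((mem_NG fr.nd fr.one_le).1 (wy01_NG fr.nd fr.one_le fr.hmu)).2 hR
  have hw := wy_mem fr.nd fr.hmu 0 1 h01
  have hs02 : ∀ c, ρ (el fr.nd (tv 0 2 h02 c)) s = s := fun c => by
    rw [hs, ← apply_of_eq ρ (el_rel fr hw (mem_SG_tv fr _ _ _ _) (mem_SG_tv fr _ _ _ _) hw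
      (wy01_tv12 c)), h12']
  have hcomp : ∀ w : U2 F A, w ≠ 0 → ρ g (EE fr ρ w s) = c • EE fr ρ w s := by
    intro w hw0
    by_cases h0 : EE fr ρ w s = 0
    · rw [h0, map_zero, smul_zero]
    have hPs : PR fr ρ s = s := avg_apply_of_fixed ρ _ hsR
    have hspan : InSpan w := by
      by_contra hsp
      refine h0 ?_
      rw [← hPs, ← Module.End.mul_apply, (PR_line_zero fr ρ hpure hw0 hsp).2,
        LinearMap.zero_apply]
    have hβ : w.2.2.1 = 0 := by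
      refine chi0_eq_one fun ξ => ?_
      have h1 : ρ (Xe fr ((0, 0, (0, ξ, 0)) : U2 F A)) (EE fr ρ w s) = EE fr ρ w s := by
        rw [← Module.End.mul_apply, moves_xel fr ρ _ w, Module.End.mul_apply,
          show ρ (Xe fr ((0, 0, (0, ξ, 0)) : U2 F A)) s = s by
            rw [show Xe fr ((0, 0, (0, ξ, 0)) : U2 F A) = el fr.nd (tv 0 2 h02 ξ) from
              (el_tv02 fr.nd fr.one_le fr.hmu ξ).symm, hs02]]
        rfl
      rw [← Module.End.mul_apply, xel_mul_E, LinearMap.smul_apply] at h1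
      have h2 := smul_left_injective ℂ h0 (h1.trans (one_smul ℂ _).symm)
      simpa [psi, polar_hyp, mul_comm] using h2
    have hα : w.1 ≠ 0 := fun ha => hw0 (by rw [eq_wsp hspan, ha, hβ]; simp [wsp, Prod.ext_iff])
    refine hline (Units.mk0 _ hα) _ ?_
    rw [Units.val_mk0, smul_vP]
    have e : w = wsp F A w.1 0 := by rw [← hβ]; exact eq_wsp hspan
    rw [← e]
    exact LinearMap.mem_range_self _ _
  have hsum : Phi fr ρ z = ∑ w ∈ Finset.univ.erase (0 : U2 F A), EE fr ρ w s := by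
    rw [Phi_apply, ← hs, sub_eq_iff_eq_add, Finset.sum_erase_add _ _ (Finset.mem_univ _),
      ← LinearMap.sum_apply, sum_E, Module.End.one_apply]
  have hg : Phi fr ρ (ρ g z) = ρ g (Phi fr ρ z) := by
    rw [Phi_apply, Phi_apply, apply_of_eq ρ hcomm, map_sub, ← Module.End.mul_apply (EE fr ρ 0),
      ← show ρ g * EE fr ρ 0 = EE fr ρ 0 * ρ g from hc, Module.End.mul_apply]
  rw [hg, hsum, map_sum, Finset.smul_sum]
  exact Finset.sum_congr rfl fun w hw => hcomp w (Finset.ne_of_mem_erase hw)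

theorem Phi_t12 {z : V} (hz : z ∈ Bsp fr ρ) : Phi fr ρ (ρ (t12 fr) z) = -Phi fr ρ z := by
  rw [← neg_one_smul ℂ (Phi fr ρ z)]
  refine Phi_scalar fr ρ hpure (dg_cZero fr ρ (t12_mem fr)) ?_
    (fun α v hv => by rw [neg_one_smul]; exact t12_line fr ρ hpure α v hv) hz
  exact el_rel fr (wy_mem fr.nd fr.hmu _ _ _) (t12_mem fr) (t12_mem fr) (wy_mem fr.nd fr.hmu _ _ _)
    (wy01_dg _ _ _)

theorem Phi_J {j : Om (q2 Q)} (hj : j ∈ J Q) {z : V} (hz : z ∈ Bsp fr ρ) :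
    Phi fr ρ (ρ j z) = Phi fr ρ z := by
  rw [← one_smul ℂ (Phi fr ρ z)]
  refine Phi_scalar fr ρ hpure ?_ (J_comm_wy01 fr hj)
    (fun α v hv => by rw [J_line fr ρ hpure hj α v hv, one_smul]) hz
  obtain ⟨g, -, rfl⟩ := hj
  exact lev_mem_cZero fr ρ (lev g)

/-- Diagonal matrices of equal determinant agree on a space fixed by those of determinant one. -/
theorem trB_eq (hdet1 : ∀ (a b c : Fˣ), a * b * c = 1 → ∀ v ∈ Bsp fr ρ,
      ρ (el fr.nd (dg a b c)) v = v)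
    {a b c a' b' c' : Fˣ} (hd' : dg a' b' c' ∈ SG fr.nd) (h : a * b * c = a' * b' * c') :
    trB fr ρ (el fr.nd (dg a b c)) = trB fr ρ (el fr.nd (dg a' b' c')) := by
  refine congrArg (LinearMap.trace ℂ V) (LinearMap.ext fun v => ?_)
  rw [Module.End.mul_apply, Module.End.mul_apply]
  have hs : (a'⁻¹ * a) * (b'⁻¹ * b) * (c'⁻¹ * c) = 1 := by
    calc (a'⁻¹ * a) * (b'⁻¹ * b) * (c'⁻¹ * c) = (a' * b' * c')⁻¹ * (a * b * c) := by
          simp only [mul_inv_rev]; ac_rfl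
      _ = 1 := by rw [h, inv_mul_cancel]
  conv_lhs => rw [show dg a b c = dg a' b' c' * dg (a'⁻¹ * a) (b'⁻¹ * b) (c'⁻¹ * c) by
    rw [dg_mul, mul_inv_cancel_left, mul_inv_cancel_left, mul_inv_cancel_left],
    el_mul fr.nd hd' (det_one_mem_SG fr hs), map_mul, Module.End.mul_apply,
    hdet1 _ _ _ hs _ (LinearMap.mem_range_self _ _)]

theorem tr0_split (g : Om (q2 Q)) : tr0 fr ρ g = trB fr ρ g +
    ∑ c ∈ Finset.univ.erase (0 : F), LinearMap.trace ℂ V (ρ g * Kp fr ρ c) := by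
  rw [tr0, ← sum_Kp fr ρ, Finset.mul_sum, map_sum,
    ← Finset.add_sum_erase _ _ (Finset.mem_univ (0 : F))]
  rfl

theorem tr0_move {a b c : Fˣ} (hd : dg a b c ∈ SG fr.nd) (hbc : b ≠ c) :
    tr0 fr ρ (el fr.nd (dg a b c)) = trB fr ρ (el fr.nd (dg a b c)) := by
  rw [tr0_split fr ρ hpure, Finset.sum_eq_zero fun d hd' => ?_, add_zero]
  refine trace_eq_zero_of_move _ _ _ (Kp_idem fr ρ d) (dg_Kp fr ρ hd d) (Kp_orth fr ρ ?_)
  intro e
  have hd0 := Finset.ne_of_mem_erase hd'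
  refine hbc (Units.ext ?_)
  have hb := b.ne_zero
  field_simp at e
  first | exact e | exact e.symm | linear_combination e | linear_combination -e

theorem tr0_keep {a b : Fˣ} (hd : dg a b b ∈ SG fr.nd) :
    tr0 fr ρ (el fr.nd (dg a b b)) = trB fr ρ (el fr.nd (dg a b b)) +
      ((Fintype.card F : ℂ) - 1) * LinearMap.trace ℂ V (ρ (el fr.nd (dg a b b)) * Kp fr ρ 1) := by
  rw [tr0_split fr ρ hpure, Finset.sum_congr rfl fun d hd' => show _ =
    LinearMap.trace ℂ V (ρ (el fr.nd (dg a b b)) * Kp fr ρ 1) from ?_, Finset.sum_const,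
    Finset.card_erase_of_mem (Finset.mem_univ _), Finset.card_univ, nsmul_eq_mul,
    Nat.cast_sub Fintype.card_pos, Nat.cast_one]
  have hd0 := Finset.ne_of_mem_erase hd'
  set μ : Fˣ := (Units.mk0 d hd0)⁻¹ with hμ
  have hk : dg μ μ (1 : Fˣ) ∈ SG fr.nd := dg_lam_mem fr ⟨μ, by rw [mul_one]⟩
  have e1 := dg_Kp fr ρ hk 1
  rw [show (1 : F) * ((1 : Fˣ) : F) * (μ : F)⁻¹ = d by simp [hμ]] at e1
  have e2 : ρ (el fr.nd (dg μ μ 1)) * ρ (el fr.nd (dg a b b)) =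
      ρ (el fr.nd (dg a b b)) * ρ (el fr.nd (dg μ μ 1)) := by
    rw [← map_mul, ← map_mul, ← el_mul fr.nd hk hd, ← el_mul fr.nd hd hk, dg_mul, dg_mul,
      mul_comm μ a, mul_comm μ b, mul_comm (1 : Fˣ) b]
  have e3 : ρ (el fr.nd (dg a b b)) * Kp fr ρ d =
      ρ (el fr.nd (dg μ μ 1)) * (ρ (el fr.nd (dg a b b)) * Kp fr ρ 1) *
        ρ (el fr.nd (dg μ μ 1))⁻¹ := by
    rw [← mul_assoc (ρ (el fr.nd (dg μ μ 1))), e2, mul_assoc (ρ (el fr.nd (dg a b b))), e1,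
      mul_assoc, mul_assoc, ← map_mul, mul_inv_cancel, map_one, mul_one]
  rw [e3, LinearMap.trace_mul_comm, ← mul_assoc, ← map_mul, inv_mul_cancel, map_one, one_mul]

theorem trace_dg_none {a b c : Fˣ} (hd : dg a b c ∈ SG fr.nd) (hab : (a : F) ≠ b) (hac : (a : F) ≠ c) :
    LinearMap.trace ℂ V (ρ (el fr.nd (dg a b c)) * PR fr ρ) = tr0 fr ρ (el fr.nd (dg a b c)) := by
  rw [trace_PR fr ρ hpure (moves_dg fr ρ hd), Finset.filter_false_of_mem, Finset.sum_empty,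
    add_zero]
  intro p hp he
  have hp0 := (Finset.mem_erase.1 hp).1
  simp [dgTau, wsp, Prod.ext_iff] at he
  obtain ⟨h1, h2⟩ := he
  have ha := a.ne_zero
  refine hp0 (Prod.ext ?_ ?_)
  · by_contra h
    field_simp at h1
    exact hab (mul_right_cancel₀ h (by linear_combination -h1))
  · by_contra h
    field_simp at h2
    exact hac (mul_right_cancel₀ h (by linear_combination -h2))

theorem trace_dg_fst {a c : Fˣ} (hd : dg a a c ∈ SG fr.nd) (e : ℂ) (hac : (a : F) ≠ c)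
    (hline : ∀ α : Fˣ, ∀ v ∈ LinearMap.range (EE fr ρ ((α : F) • vP F A)),
      ρ (el fr.nd (dg a a c)) v = e • v) :
    LinearMap.trace ℂ V (ρ (el fr.nd (dg a a c)) * PR fr ρ) =
      tr0 fr ρ (el fr.nd (dg a a c)) + ((Fintype.card F : ℂ) - 1) * e := by
  have hτ : ∀ p : F × F, p ≠ 0 →
      (dgTau a a c (wsp F A p.1 p.2) = wsp F A p.1 p.2 ↔ p.2 = 0) := by
    intro p _
    have ha := a.ne_zero
    simp [dgTau, wsp, Prod.ext_iff]
    constructor
    · intro h2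
      by_contra h
      field_simp at h2
      first | exact hac h2.symm | exact hac h2 | exact hac (mul_right_cancel₀ h (by linear_combination -h2))
    · intro h
      simp [h]
  rw [trace_PR fr ρ hpure (moves_dg fr ρ hd),
    Finset.sum_congr (s₁ := (spanIdx F).filter (fun p : F × F =>
      dgTau a a c (wsp F A p.1 p.2) = wsp F A p.1 p.2)) rfl fun p hp => trace_line fr ρ hpure
      (Finset.mem_erase.1 (Finset.mem_filter.1 hp).1).1 (c := e) fun v hv => ?_,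
    Finset.sum_const, filter_snd_zero hτ, nsmul_eq_mul, Nat.cast_sub Fintype.card_pos,
    Nat.cast_one]
  obtain ⟨hp1, hp2⟩ := Finset.mem_filter.1 hp
  have hp0 := (Finset.mem_erase.1 hp1).1
  have hβ := (hτ p hp0).1 hp2
  have hα : p.1 ≠ 0 := fun ha => hp0 (Prod.ext ha hβ)
  rw [hβ, ← smul_vP, show p.1 = ((Units.mk0 _ hα : Fˣ) : F) from rfl] at hv
  exact hline _ v hv

/-- The scalars on the complementary lines. -/
theorem line_values (hdet1 : ∀ (a b c : Fˣ), a * b * c = 1 → ∀ v ∈ Bsp fr ρ,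
      ρ (el fr.nd (dg a b c)) v = v) :
    LinearMap.trace ℂ V (ρ (el fr.nd (dg (1 : Fˣ) fr.lam fr.lam)) * Kp fr ρ 1) = -1 ∧
      LinearMap.trace ℂ V (ρ (el fr.nd (dg (fr.lam * fr.lam) (1 : Fˣ) 1)) * Kp fr ρ 1) = 1 := by
  have hl := fr.lam_sq
  have hl1 := fr.lam_ne_one
  set l := fr.lam with hldef
  have hm1 : dg (l * l) (1 : Fˣ) 1 ∈ SG fr.nd := dg_lam_mem fr ⟨l, by simp⟩
  have hm2 : dg (1 : Fˣ) (l * l) 1 ∈ SG fr.nd := dg_lam_mem fr ⟨l, by simp⟩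
  obtain ⟨hm3, hJ3⟩ := exists_t33 fr ρ hpure
  set ν2 := LinearMap.trace ℂ V (ρ (el fr.nd (dg (1 : Fˣ) l l)) * Kp fr ρ 1) with hν2
  set ν1 := LinearMap.trace ℂ V (ρ (el fr.nd (dg (l * l) (1 : Fˣ) 1)) * Kp fr ρ 1) with hν1
  have hcy := ((mem_NG fr.nd fr.one_le).1 (cy_NG fr.nd fr.one_le fr.hmu)).2
  have hcm := cy_mem fr.nd fr.hmu
  have hconj : ∀ {a b c : Fˣ}, dg a b c ∈ SG fr.nd → dg c a b ∈ SG fr.nd →
      LinearMap.trace ℂ V (ρ (el fr.nd (dg c a b)) * PR fr ρ) =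
        LinearMap.trace ℂ V (ρ (el fr.nd (dg a b c)) * PR fr ρ) := fun hd hd' =>
    trace_conj fr ρ hcy (el_rel fr hcm hd hd' hcm (cy_dg _ _ _))
  have hQ1 : ((Fintype.card F : ℂ) - 1) ≠ 0 := by
    have := fr.five
    intro h
    rw [sub_eq_zero] at h
    norm_cast at h
    omega
  have hν2v : ν2 = -1 := by
    have h1 := trace_dg_fst fr ρ hpure (t12_mem fr) (-1) (by rw [Units.val_one]; exact hl1)
      (fun α v hv => by rw [neg_one_smul]; exact t12_line fr ρ hpure α v hv)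
    have h2 := trace_dg_none fr ρ hpure (t23_mem fr) (by rw [Units.val_one]; exact Ne.symm hl1)
      (by rw [Units.val_one]; exact Ne.symm hl1)
    rw [tr0_move fr ρ hpure (t12_mem fr) fun h => hl1 (congrArg Units.val (show l = 1 from h))] at h1
    rw [tr0_keep fr ρ hpure (t23_mem fr), hconj (t12_mem fr) (t23_mem fr), h1,
      trB_eq fr ρ hpure hdet1 (t23_mem fr) (by simp)] at h2
    exact mul_left_cancel₀ hQ1 (by linear_combination -h2)
  have hν1v : ν1 = 1 := by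
    have hll : ((l * l : Fˣ) : F) ≠ ((1 : Fˣ) : F) := by
      rw [Units.val_mul, Units.val_one]; exact hl
    have h1 := trace_dg_fst fr ρ hpure hm3 1 (Ne.symm hll)
      (fun α v hv => by rw [one_smul]; exact J_line fr ρ hpure hJ3 α v hv)
    have h2 := trace_dg_none fr ρ hpure hm1 hll hll
    rw [tr0_move fr ρ hpure hm3 fun h => hll (by rw [← h])] at h1
    rw [tr0_keep fr ρ hpure hm1, ← hconj hm1 hm2, ← hconj hm2 hm3, h1, trB_eq fr ρ hpure hdet1 hm1 (by simp [hldef])] at h2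
    exact mul_left_cancel₀ hQ1 (by linear_combination -h2)
  exact ⟨hν2v, hν1v⟩

/-- A torus element of determinant one on the complementary lines. -/
theorem Kp_neg (hdet1 : ∀ (a b c : Fˣ), a * b * c = 1 → ∀ v ∈ Bsp fr ρ,
      ρ (el fr.nd (dg a b c)) v = v) {d : F} (hd0 : d ≠ 0) :
    ρ (el fr.nd (dg (fr.lam * fr.lam)⁻¹ fr.lam fr.lam)) * Kp fr ρ d = -Kp fr ρ d := by
  obtain ⟨hν2v, hν1v⟩ := line_values fr ρ hpure hdet1
  set l := fr.lam with hldef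
  have hm1 : dg (l * l) (1 : Fˣ) 1 ∈ SG fr.nd := dg_lam_mem fr ⟨l, by simp⟩
  have hg0m : dg (l * l)⁻¹ l l ∈ SG fr.nd :=
    det_one_mem_SG fr (by rw [mul_assoc, inv_mul_cancel])
  set g0 := el fr.nd (dg (l * l)⁻¹ l l) with hg0
  set ν2 := LinearMap.trace ℂ V (ρ (el fr.nd (dg (1 : Fˣ) l l)) * Kp fr ρ 1) with hν2
  set ν1 := LinearMap.trace ℂ V (ρ (el fr.nd (dg (l * l) (1 : Fˣ) 1)) * Kp fr ρ 1) with hν1
  have hsc : ∀ {a b : Fˣ} (hd : dg a b b ∈ SG fr.nd),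
      ρ (el fr.nd (dg a b b)) * Kp fr ρ 1 =
        LinearMap.trace ℂ V (ρ (el fr.nd (dg a b b)) * Kp fr ρ 1) • Kp fr ρ 1 := by
    intro a b hd
    refine mul_eq_trace_smul _ _ (Kp_idem fr ρ 1) ?_ ?_
    · rw [trace_Kp fr ρ hpure, if_neg one_ne_zero]
    · have := dg_Kp fr ρ hd 1
      rw [one_mul, mul_inv_cancel₀ b.ne_zero] at this
      exact this
  have h1 : ρ g0 * Kp fr ρ 1 = -Kp fr ρ 1 := by
    have h := hsc (t23_mem fr)
    rw [show dg (1 : Fˣ) l l = dg (l * l)⁻¹ l l * dg (l * l) 1 1 by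
      rw [dg_mul, inv_mul_cancel, mul_one], el_mul fr.nd hg0m hm1, map_mul ρ, mul_assoc,
      hsc hm1, ← hν1, hν1v, one_smul, ← hg0] at h
    rw [h, show LinearMap.trace ℂ V (ρ g0 * Kp fr ρ 1) = ν2 from ?_, hν2v, neg_one_smul]
    rw [hν2, show dg (1 : Fˣ) l l = dg (l * l)⁻¹ l l * dg (l * l) 1 1 by
      rw [dg_mul, inv_mul_cancel, mul_one], el_mul fr.nd hg0m hm1, map_mul ρ, mul_assoc,
      hsc hm1, ← hν1, hν1v, one_smul, ← hg0]
  set μ : Fˣ := (Units.mk0 d hd0)⁻¹ with hμ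
  have hk : dg μ μ (1 : Fˣ) ∈ SG fr.nd := dg_lam_mem fr ⟨μ, by rw [mul_one]⟩
  have e1 := dg_Kp fr ρ hk 1
  rw [show (1 : F) * ((1 : Fˣ) : F) * (μ : F)⁻¹ = d by simp [hμ]] at e1
  have e2 : ρ g0 * ρ (el fr.nd (dg μ μ 1)) = ρ (el fr.nd (dg μ μ 1)) * ρ g0 := by
    rw [hg0, ← map_mul, ← map_mul, ← el_mul fr.nd hg0m hk, ← el_mul fr.nd hk hg0m, dg_mul,
      dg_mul]
    congr 3 <;> exact mul_comm _ _
  have h2 := congrArg (fun X => ρ (el fr.nd (dg μ μ 1)) * X) h1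
  simp only [mul_neg] at h2
  rw [← mul_assoc, ← e2, mul_assoc, e1, ← mul_assoc, ← neg_mul] at h2
  have h3 := congrArg (fun X => X * ρ (el fr.nd (dg μ μ 1))⁻¹) h2
  simpa [mul_assoc, ← map_mul] using h3

theorem fixed_X21 (hdet1 : ∀ (a b c : Fˣ), a * b * c = 1 → ∀ v ∈ Bsp fr ρ,
      ρ (el fr.nd (dg a b c)) v = v) {v : V}
    (hv : v ∈ Bsp fr ρ) (c : F) : ρ (el fr.nd (tv 2 1 h12.symm c)) v = v := by
  set l := fr.lam with hldef
  have hw := wy_mem fr.nd fr.hmu 1 2 h12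
  set s := ρ (el fr.nd (wy 1 2 h12)) v with hs
  obtain ⟨h01', h02', -, hR⟩ := fixed_of_B fr ρ hv
  have hsR := fixed_of_normalises fr ρ
    ((mem_NG fr.nd fr.one_le).1 (wy12_NG fr.nd fr.one_le fr.hmu)).2 hR
  have hs01 : ∀ c, ρ (el fr.nd (tv 0 1 h01 c)) s = s := fun c => by
    rw [hs, ← apply_of_eq ρ (el_rel fr hw (mem_SG_tv fr _ _ _ _) (mem_SG_tv fr _ _ _ _) hw
      (wy12_tv02 c)), h02']
  have hs02 : ∀ c, ρ (el fr.nd (tv 0 2 h02 c)) s = s := fun c => by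
    have e := wy12_tv01 (-c)
    rw [neg_neg] at e
    rw [hs, ← apply_of_eq ρ (el_rel fr hw (mem_SG_tv fr _ _ _ _) (mem_SG_tv fr _ _ _ _) hw e),
      h01']
  have hsx : ∀ a, ρ (Xe fr a) s = s := fun a => by
    rw [xel_split fr, map_mul, map_mul, Module.End.mul_apply, Module.End.mul_apply, hs02, hs01,
      hsR _ (xel_mem_R3 _ _ (by rfl) (by rfl))]
  have hP := P0_of_fixed fr ρ hsR hsx
  set g0 := el fr.nd (dg (l * l)⁻¹ l l) with hg0
  have hg0m : dg (l * l)⁻¹ l l ∈ SG fr.nd :=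
    det_one_mem_SG fr (by rw [mul_assoc, inv_mul_cancel])
  have hg0s : ρ g0 s = s := by
    rw [hs, hg0, ← apply_of_eq ρ (el_rel fr hw hg0m hg0m hw (wy12_dg _ _ _)),
      hdet1 _ _ _ (by rw [mul_assoc, inv_mul_cancel]) v hv]
  have hsum : ∑ d ∈ Finset.univ.erase (0 : F), Kp fr ρ d s = 0 := by
    have h1 : s = Kp fr ρ 0 s + ∑ d ∈ Finset.univ.erase (0 : F), Kp fr ρ d s := by
      rw [Finset.add_sum_erase Finset.univ (fun d => Kp fr ρ d s) (Finset.mem_univ (0 : F)),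
        ← LinearMap.sum_apply, sum_Kp, hP]
    have h2 := congrArg (ρ g0) h1
    rw [hg0s, map_add, map_sum, hdet1 _ _ _ (by rw [mul_assoc, inv_mul_cancel]) _
      (LinearMap.mem_range_self _ _), Finset.sum_congr rfl fun d hd => by
        rw [← Module.End.mul_apply, Kp_neg fr ρ hpure hdet1 (Finset.ne_of_mem_erase hd), LinearMap.neg_apply],
      Finset.sum_neg_distrib] at h2
    have h3 := h1.symm.trans h2
    rw [add_right_inj] at h3
    have h4 : (2 : ℂ) • ∑ d ∈ Finset.univ.erase (0 : F), Kp fr ρ d s = 0 := by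
      rw [two_smul]
      nth_rw 1 [h3]
      exact neg_add_cancel _
    exact (smul_eq_zero.1 h4).resolve_left two_ne_zero
  have hsB : s ∈ Bsp fr ρ := by
    refine ⟨s, ?_⟩
    calc Kp fr ρ 0 s = Kp fr ρ 0 s + ∑ d ∈ Finset.univ.erase (0 : F), Kp fr ρ d s := by
          rw [hsum, add_zero]
      _ = P0 fr ρ s := by
          rw [Finset.add_sum_erase Finset.univ (fun d => Kp fr ρ d s) (Finset.mem_univ (0 : F)),
            ← LinearMap.sum_apply, sum_Kp]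
      _ = s := hP
  have h := apply_of_eq ρ (el_rel fr hw (mem_SG_tv fr 2 1 h12.symm c)
    (mem_SG_tv fr 1 2 h12 (-c)) hw (wy12_tv21 c)) v
  rw [(fixed_of_B fr ρ hsB).2.2.1, hs] at h
  have := congrArg (ρ (el fr.nd (wy 1 2 h12))⁻¹) h
  rwa [apply_of_apply_apply, apply_of_apply_apply] at this

/-- The common fixed space is not fixed by the special linear group. -/
theorem false_of_fixed (h10 : ∀ v ∈ Bsp fr ρ, ∀ c, ρ (el fr.nd (tv 1 0 h01.symm c)) v = v)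
    (h21 : ∀ v ∈ Bsp fr ρ, ∀ c, ρ (el fr.nd (tv 2 1 h12.symm c)) v = v) : False := by
  classical
  -- the special linear group fixes too much
  let W : Submodule ℂ V := LinearMap.range (PR fr ρ)
  have hWinv : ∀ g : Matrix.SpecialLinearGroup (Fin 3) F, ∀ v ∈ W,
      ρ (el fr.nd (Matrix.SpecialLinearGroup.toGL g)) v ∈ W := by
    intro g v hv
    rw [mem_range_avg] at hv ⊢
    exact fixed_of_normalises fr ρ
      ((mem_NG fr.nd fr.one_le).1 (det_one_NG fr.nd fr.one_le fr.hmu _ g.2)).2 hv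
  have hSG : ∀ g : Matrix.SpecialLinearGroup (Fin 3) F,
      Matrix.SpecialLinearGroup.toGL g ∈ SG fr.nd := fun g => det_one_mem fr.nd fr.hmu _ g.2
  let σ : Representation ℂ (Matrix.SpecialLinearGroup (Fin 3) F) W :=
    { toFun := fun g => (ρ (el fr.nd (Matrix.SpecialLinearGroup.toGL g))).restrict (hWinv g)
      map_one' := LinearMap.ext fun v => Subtype.ext (by
        simp [el_one])
      map_mul' := fun g h => LinearMap.ext fun v => Subtype.ext (by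
        simp [el_mul fr.nd (hSG g) (hSG h)]) }
  have hfix : ∀ v ∈ Bsp fr ρ, ∀ g : Matrix.SpecialLinearGroup (Fin 3) F,
      ρ (el fr.nd (Matrix.SpecialLinearGroup.toGL g)) v = v := by
    intro v hv g
    obtain ⟨h01', -, h12', -⟩ := fixed_of_B fr ρ hv
    let K : Subgroup (GL (Fin 3) F) :=
      { carrier := {x | x ∈ SG fr.nd ∧ ρ (el fr.nd x) v = v}
        one_mem' := ⟨one_mem _, by rw [el_one, map_one, Module.End.one_apply]⟩
        mul_mem' := fun {a b} ha hb => ⟨mul_mem ha.1 hb.1, by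
          rw [el_mul fr.nd ha.1 hb.1, map_mul, Module.End.mul_apply, hb.2, ha.2]⟩
        inv_mem' := fun {a} ha => ⟨inv_mem ha.1, by
          rw [el_inv fr.nd ha.1]
          conv_lhs => rw [← ha.2]
          rw [apply_of_apply_apply]⟩ }
    exact (mem_of_tv K (tv_mem_of_simple K (fun c => ⟨mem_SG_tv fr _ _ _ _, h01' c⟩)
      (fun c => ⟨mem_SG_tv fr _ _ _ _, h10 v hv c⟩) (fun c => ⟨mem_SG_tv fr _ _ _ _, h12' c⟩)
      (fun c => ⟨mem_SG_tv fr _ _ _ _, h21 v hv c⟩)) g.2).2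
  have hBW : Bsp fr ρ ≤ W := fun v hv => (mem_range_avg ρ _).2 (fixed_of_B fr ρ hv).2.2.2
  have hnt : ∃ g, σ g ≠ 1 := by
    have hP0 : (vP F A) ≠ 0 := by simp [Prod.ext_iff]
    obtain ⟨v₀, hv₀, -⟩ := finrank_eq_one_iff'.1 (line_eq_one fr ρ hpure hP0 q2_vP)
    have hmem : (v₀ : V) ∈ W := (mem_range_avg ρ _).2 fun g hg => by
      refine R3_line fr ρ hpure (α := 1) (β := 0) (Or.inl one_ne_zero) hg _ ?_
      rw [← smul_vP, one_smul]
      exact v₀.2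
    refine ⟨⟨_, det_tv 0 1 h01 (1 : F)⟩, fun h => chi0_one (F := F) ?_⟩
    have h1 : ρ (el fr.nd (tv 0 1 h01 (1 : F))) (v₀ : V) = v₀ := by
      have := congrArg Subtype.val (LinearMap.congr_fun h ⟨(v₀ : V), hmem⟩)
      have e : Matrix.SpecialLinearGroup.toGL (⟨_, det_tv 0 1 h01 (1 : F)⟩ :
          Matrix.SpecialLinearGroup (Fin 3) F) = tv 0 1 h01 (1 : F) := Units.ext rfl
      rw [← e]
      exact this
    rw [el_tv01 fr.nd fr.one_le fr.hmu, ← EE_apply_of_mem fr ρ v₀.2, ← Module.End.mul_apply,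
      xel_mul_E, LinearMap.smul_apply, EE_apply_of_mem fr ρ v₀.2] at h1
    have h2 := smul_left_injective ℂ (fun e => hv₀ (Subtype.ext e)) (h1.trans (one_smul ℂ _).symm)
    simpa [psi, polar_hyp] using h2
  obtain ⟨n, τ, hτ, hτ', hn⟩ := exists_irreducible_nontrivial σ hnt
  haveI := hτ
  have hfd : finrank ℂ (Bsp fr ρ) ≤ finrank ℂ (fixed σ) := by
    let f : Bsp fr ρ →ₗ[ℂ] fixed σ :=
      { toFun := fun v => ⟨⟨v, hBW v.2⟩, mem_fixed.2 fun g => Subtype.ext (hfix v v.2 g)⟩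
        map_add' := fun _ _ => rfl
        map_smul' := fun _ _ => rfl }
    exact LinearMap.finrank_le_finrank_of_injective (f := f) fun a b h =>
      Subtype.ext (congrArg (fun x : fixed σ => ((x : W) : V)) h)
  have h2 : 2 ≤ finrank ℂ (Fin n → ℂ) :=
    two_le_finrank_of_perfect (sl3_perfect ⟨fr.lam, fr.lam_sq⟩) τ hτ'
  have hq := fr.five
  have hle := le_degree (F := F) 2 le_rfl (by
    simp only [ne_eq, Prod.mk.injEq, not_and]
    refine ⟨?_, ?_, ?_, ?_⟩ <;> intro _ <;> omega) τ h2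
  rw [finrank_fin_fun, G_succ', G_succ', G_succ'] at hle
  simp [G] at hle
  have hdim := dim_PR fr ρ hpure
  have hW : finrank ℂ W = finrank ℂ (LinearMap.range (PR fr ρ)) := rfl
  have hbd := bd_add fr ρ hpure
  have hb : bd fr ρ = finrank ℂ (Bsp fr ρ) := rfl
  have hsq : Fintype.card F ^ 2 = Fintype.card F * Fintype.card F := sq _
  omega


/-- The Weyl element does not fix the common fixed space into weight zero. -/
theorem exists_Phi_ne : ∃ z ∈ Bsp fr ρ, Phi fr ρ z ≠ 0 := by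
  classical
  by_contra hcon
  push Not at hcon
  have h10 : ∀ v ∈ Bsp fr ρ, ∀ c, ρ (el fr.nd (tv 1 0 h01.symm c)) v = v :=
    fun v hv => fixed_X10 fr ρ (hcon v hv)
  have hc01 : ∀ (a : Fˣ), ∀ v ∈ Bsp fr ρ, ρ (el fr.nd (dg a a⁻¹ 1)) v = v := fun a v hv =>
    fixed_dg01 fr ρ (fixed_of_B fr ρ hv).1 (h10 v hv) a
  have hinj12 : ∀ v ∈ Bsp fr ρ, WT fr ρ 1 2 h12 v = 0 → v = 0 := fun v hv h0 =>
    WT_injective fr ρ 1 2 h12 (fixed_of_B fr ρ hv).2.2.1 h0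
  have hc02 : ∀ (a : Fˣ), ∀ v ∈ Bsp fr ρ, ρ (el fr.nd (dg a 1 a⁻¹)) v = v := by
    intro a v hv
    let f : Bsp fr ρ →ₗ[ℂ] Bsp fr ρ :=
      (WT fr ρ 1 2 h12).restrict fun v hv => WT12_mem fr ρ hv
    have hf : Function.Injective f := by
      rw [injective_iff_map_eq_zero]
      exact fun x hx => Subtype.ext (hinj12 x x.2 (congrArg Subtype.val hx))
    obtain ⟨y, hy⟩ := LinearMap.surjective_of_injective hf ⟨v, hv⟩
    have hy' : WT fr ρ 1 2 h12 y = v := congrArg Subtype.val hy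
    rw [← hy', ← WT12_dg fr ρ (det_one_mem_SG fr (by simp)) (det_one_mem_SG fr (by simp)),
      hc01 a y y.2]
  have hdet1 : ∀ (a b c : Fˣ), a * b * c = 1 → ∀ v ∈ Bsp fr ρ,
      ρ (el fr.nd (dg a b c)) v = v := by
    intro a b c h v hv
    have e : dg a b c = dg b⁻¹ b 1 * dg (a * b) 1 (a * b)⁻¹ := by
      rw [dg_mul, mul_one, one_mul, eq_inv_of_mul_eq_one_right h, mul_comm a b,
        inv_mul_cancel_left]
    rw [e, el_mul fr.nd (det_one_mem_SG fr (by simp)) (det_one_mem_SG fr (by simp)), map_mul,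
      Module.End.mul_apply, hc02 _ v hv]
    have := hc01 b⁻¹ v hv
    rwa [inv_inv] at this
  exact false_of_fixed fr ρ hpure h10 fun v hv => fixed_X21 fr ρ hpure hdet1 hv

/-- An eigenvector fixed at the lower level and moved by the first torus element. -/
theorem exists_u : ∃ u ∈ Bsp fr ρ, u ≠ 0 ∧ (∀ j ∈ J Q, ρ j u = u) ∧
    ρ (t12 fr) u = -u ∧ ρ (t23 fr) u = u := by
  classical
  obtain ⟨z, hz, hΦ⟩ := exists_Phi_ne fr ρ hpure
  letI : Fintype (J Q) := Fintype.ofFinite _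
  set z1 := avg ρ (J Q) z with hz1
  have hz1B : z1 ∈ Bsp fr ρ := by
    rw [hz1, avg, LinearMap.smul_apply, LinearMap.sum_apply]
    exact Submodule.smul_mem _ _ (Submodule.sum_mem _ fun j _ => J_mem_Bsp fr ρ j.2 hz)
  have hz1J : ∀ j ∈ J Q, ρ j z1 = z1 := avg_fixed ρ _ z
  have hz1Φ : Phi fr ρ z1 = Phi fr ρ z := by
    rw [hz1, avg, LinearMap.smul_apply, LinearMap.sum_apply, map_smul, map_sum,
      Finset.sum_congr rfl fun j _ => Phi_J fr ρ hpure j.2 hz, Finset.sum_const, Finset.card_univ,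
      ← Nat.cast_smul_eq_nsmul ℂ, smul_smul,
      inv_mul_cancel₀ (Nat.cast_ne_zero.2 Fintype.card_ne_zero), one_smul]
  obtain ⟨m, hm⟩ := fr.odd
  have hTn : (ρ (t12 fr)) ^ (2 * m) = 1 := by
    rw [← map_pow, show 2 * m = Fintype.card F - 1 by omega, t12_pow, map_one]
  obtain ⟨cc, hneg, hcsum⟩ :=
    exists_neg_part (ρ (t12 fr)) hTn (by have := fr.five; omega) z1
  set z2 := ∑ i ∈ Finset.range (2 * m), cc i • ((ρ (t12 fr)) ^ i) z1
  have hpow : ∀ i : ℕ, ((ρ (t12 fr)) ^ i) z1 ∈ Bsp fr ρ ∧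
      (∀ j ∈ J Q, ρ j (((ρ (t12 fr)) ^ i) z1) = ((ρ (t12 fr)) ^ i) z1) ∧
      Phi fr ρ (((ρ (t12 fr)) ^ i) z1) = ((-1 : ℂ) ^ i) • Phi fr ρ z := by
    intro i
    induction i with
    | zero => exact ⟨hz1B, hz1J, by simp [hz1Φ]⟩
    | succ i ih =>
      rw [pow_succ', Module.End.mul_apply]
      refine ⟨dg_mem_Bsp fr ρ (t12_mem fr) ih.1, fun j hj => ?_, ?_⟩
      · have e : j * t12 fr = t12 fr * j := (J_comm_dg fr hj (t12_mem fr)).symm
        rw [apply_of_eq ρ e, ih.2.1 j hj]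
      · rw [Phi_t12 fr ρ hpure ih.1, ih.2.2, pow_succ', neg_one_mul, neg_smul]
  -- the space to search in
  let Z : Submodule ℂ V :=
    Bsp fr ρ ⊓ LinearMap.ker (ρ (t12 fr) + 1) ⊓ ⨅ j : J Q, LinearMap.ker (ρ j - 1)
  have hZ : ∀ v, v ∈ Z ↔ v ∈ Bsp fr ρ ∧ ρ (t12 fr) v = -v ∧ ∀ j ∈ J Q, ρ j v = v := fun v => by
    simp [Z, add_eq_zero_iff_eq_neg, sub_eq_zero, and_assoc]
  have hz2 : z2 ∈ Z := (hZ _).2 ⟨Submodule.sum_mem _ fun i _ =>
    Submodule.smul_mem _ _ (hpow i).1, hneg, fun j hj => by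
      rw [map_sum]
      exact Finset.sum_congr rfl fun i _ => by rw [map_smul, (hpow i).2.1 j hj]⟩
  have hz2Φ : Phi fr ρ z2 = Phi fr ρ z := by
    rw [map_sum, Finset.sum_congr rfl fun i _ => by rw [map_smul, (hpow i).2.2, smul_smul],
      ← Finset.sum_smul, hcsum, one_smul]
  have h13mem := t13_mem fr
  have h23mem := t23_mem fr
  obtain ⟨h33, hJ33⟩ := exists_t33 fr ρ hpure
  have hprod : ∀ v ∈ Z, ρ (el fr.nd (dg fr.lam 1 fr.lam)) (ρ (t23 fr) v) = -v := by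
    intro v hv
    obtain ⟨-, h12', hJv⟩ := (hZ v).1 hv
    rw [t23, dg_comp fr ρ h13mem h23mem, mul_one, one_mul,
      show dg fr.lam fr.lam (fr.lam * fr.lam) = dg fr.lam fr.lam 1 * dg 1 1 (fr.lam * fr.lam) by
        rw [dg_mul, mul_one, one_mul],
      el_mul fr.nd (t12_mem fr) h33, map_mul, Module.End.mul_apply, hJv _ hJ33]
    exact h12'
  by_cases hu : ∃ u ∈ Z, u ≠ 0 ∧ ρ (t23 fr) u = u
  · obtain ⟨u, hu, hu0, hu23⟩ := hu
    obtain ⟨h1, h2, h3⟩ := (hZ u).1 hu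
    exact ⟨u, h1, hu0, h3, h2, hu23⟩
  push Not at hu
  have h23Z : ∀ v ∈ Z, ρ (t23 fr) v ∈ Z := by
    intro v hv
    obtain ⟨hvB, h12', hJv⟩ := (hZ v).1 hv
    refine (hZ _).2 ⟨dg_mem_Bsp fr ρ h23mem hvB, ?_, fun j hj => ?_⟩
    · have e : t12 fr * t23 fr = t23 fr * t12 fr := by
        rw [t12, t23, ← el_mul fr.nd (t12_mem fr) h23mem, ← el_mul fr.nd h23mem (t12_mem fr),
          dg_mul, dg_mul, mul_comm fr.lam, mul_comm fr.lam, mul_comm (1 : Fˣ) fr.lam]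
      rw [apply_of_eq ρ e, h12', map_neg]
    · obtain ⟨g, ⟨hg, μ, hμ⟩, rfl⟩ := hj
      set g' := conjOm (dil fr.lam)⁻¹ g with hg'
      have hd : ∀ z : F × F × A, app g' z =
          (ev (dil (Q := Q) fr.lam)).symm (app g (ev (dil (Q := Q) fr.lam) z)) := fun z => by
        show ev ((dil fr.lam)⁻¹ * (g : OQ (hyp Q)) * (dil fr.lam)⁻¹⁻¹) z = _
        rw [inv_inv]
        rfl
      have hg'J : lev2 g' ∈ J Q := ⟨g', ⟨conjOm_commutator _ hg, μ, by
        rw [hd, LinearEquiv.symm_apply_eq, map_smul,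
          show ev (dil (Q := Q) fr.lam) (hv₀ F A) = (fr.lam : F) • hv₀ F A by
            rw [dil_apply]; simp,
          map_smul, hμ, smul_comm]⟩, rfl⟩
      have e : lev2 g * t23 fr = t23 fr * lev2 g' := ext_app fun z => by
        rw [app_mul, app_mul, app_lev2, app_lev2, t23, app_el fr.nd h23mem, app_el fr.nd h23mem,
          glMap_apply, glMap_apply, coe_dg, coe_dg_inv]
        have h1 : ev (dil (Q := Q) fr.lam) (app g' z.2.2.2.2) =
            app g (ev (dil (Q := Q) fr.lam) z.2.2.2.2) := by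
          rw [hd, LinearEquiv.apply_symm_apply]
        rw [dil_apply, dil_apply] at h1
        simp [mul_comm] at h1 ⊢
        rw [← h1]
      rw [apply_of_eq ρ e, hJv _ hg'J]
  -- the composite vanishes
  let D : Z →ₗ[ℂ] Z := LinearMap.id - (ρ (t23 fr)).restrict h23Z
  have hD : Function.Injective D := by
    rw [injective_iff_map_eq_zero]
    intro x hx
    by_contra hx0
    have h := congrArg Subtype.val hx
    simp [D] at h
    exact hu x x.2 (fun e => hx0 (Subtype.ext e)) (sub_eq_zero.1 h).symm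
  obtain ⟨y, hy⟩ := LinearMap.surjective_of_injective hD ⟨z2, hz2⟩
  have hy' : (y : V) - ρ (t23 fr) y = z2 := congrArg Subtype.val hy
  obtain ⟨hyB, hy12, hyJ⟩ := (hZ _).1 y.2
  set x := ρ (t23 fr) (y : V) with hx
  have hxB : x ∈ Bsp fr ρ := dg_mem_Bsp fr ρ h23mem hyB
  have h13x : ρ (el fr.nd (dg fr.lam 1 fr.lam)) x = -(y : V) := hprod y y.2
  have hΨ : Phi fr ρ (WT fr ρ 1 2 h12 z2) = 0 := by
    have h := WT12_dg fr ρ (t12_mem fr) h13mem x
    rw [h13x, map_neg] at h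
    have h2 := congrArg (Phi fr ρ) h
    rw [map_neg, show el fr.nd (dg fr.lam fr.lam 1) = t12 fr from rfl,
      Phi_t12 fr ρ hpure (WT12_mem fr ρ hxB), neg_inj] at h2
    rw [← hy', map_sub, map_sub, h2, sub_self]
  obtain ⟨hz2B, hz212, hz2J⟩ := (hZ _).1 hz2
  have hTB := WT12_mem fr ρ hz2B
  -- the torus between the outer vectors
  have hc02 : ρ (el fr.nd (dg fr.lam 1 fr.lam⁻¹)) z2 = z2 := by
    have hfix := fixed_dg01 fr ρ (fixed_of_B fr ρ hTB).1 (fixed_X10 fr ρ hΨ) fr.lam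
    have hm : dg fr.lam 1 fr.lam⁻¹ ∈ SG fr.nd := det_one_mem_SG fr (by simp)
    rw [← WT12_dg fr ρ (det_one_mem_SG fr (by simp)) hm] at hfix
    refine sub_eq_zero.1 (WT_injective fr ρ 1 2 h12
      (z := ρ (el fr.nd (dg fr.lam 1 fr.lam⁻¹)) z2 - z2) (fun c => ?_) ?_)
    · rw [map_sub, (fixed_of_B fr ρ (dg_mem_Bsp fr ρ hm hz2B)).2.2.1,
        (fixed_of_B fr ρ hz2B).2.2.1]
    · rw [map_sub, hfix, sub_self]
  have h13z : ρ (el fr.nd (dg fr.lam 1 fr.lam)) z2 = z2 := by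
    rw [show dg fr.lam 1 fr.lam = dg fr.lam 1 fr.lam⁻¹ * dg 1 1 (fr.lam * fr.lam) by
        rw [dg_mul, mul_one, mul_one, inv_mul_cancel_left],
      el_mul fr.nd (det_one_mem_SG fr (by simp)) h33, map_mul, Module.End.mul_apply,
      hz2J _ hJ33, hc02]
  have h23z : ρ (t23 fr) z2 = -z2 := by
    have h := hprod z2 hz2
    rw [t23, apply_of_eq ρ (el_rel fr h13mem h23mem h23mem h13mem (by
      rw [dg_mul, dg_mul, mul_one, one_mul])), h13z] at h
    exact h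
  refine ⟨WT fr ρ 0 1 h01 z2, WT01_mem fr ρ hz2B, fun h0 => ?_, fun j hj => ?_, ?_, ?_⟩
  · have h0' := WT_injective fr ρ 0 1 h01 (fixed_of_B fr ρ hz2B).1 h0
    rw [h0', map_zero] at hz2Φ
    exact hΦ hz2Φ.symm
  · rw [← WT01_J fr ρ hj, hz2J j hj]
  · rw [t12, ← WT01_dg fr ρ (t12_mem fr) (t12_mem fr), show el fr.nd (dg fr.lam fr.lam 1) =
      t12 fr from rfl, hz212, map_neg]
  · rw [t23, ← WT01_dg fr ρ h23mem h13mem, h13z]

/-- The three eigenvectors used in dimension seven. -/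
theorem exists_deltas : ∃ d : Fin 3 → V, (∀ i, d i ∈ Bsp fr ρ ∧ d i ≠ 0) ∧
    (ρ (t12 fr) (d 0) = -d 0 ∧ ρ (t23 fr) (d 0) = d 0) ∧
    (ρ (t12 fr) (d 1) = -d 1 ∧ ρ (t23 fr) (d 1) = -d 1) ∧
    (ρ (t12 fr) (d 2) = d 2 ∧ ρ (t23 fr) (d 2) = -d 2) := by
  obtain ⟨u, huB, hu0, huJ, hu12, hu23⟩ := exists_u fr ρ hpure
  obtain ⟨h33, hJ33⟩ := exists_t33 fr ρ hpure
  have h13mem := t13_mem fr
  have h23mem := t23_mem fr
  have h13u : ρ (el fr.nd (dg fr.lam 1 fr.lam)) u = -u := by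
    have h : ρ (el fr.nd (dg fr.lam 1 fr.lam)) (ρ (t23 fr) u) = -u := by
      rw [t23, dg_comp fr ρ h13mem h23mem, mul_one, one_mul,
        show dg fr.lam fr.lam (fr.lam * fr.lam) = dg fr.lam fr.lam 1 * dg 1 1 (fr.lam * fr.lam) by
          rw [dg_mul, mul_one, one_mul],
        el_mul fr.nd (t12_mem fr) h33, map_mul, Module.End.mul_apply, huJ _ hJ33]
      exact hu12
    rwa [hu23] at h
  set d2 := WT fr ρ 0 1 h01 u with hd2
  have hd2B := WT01_mem fr ρ huB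
  have hd2ne : d2 ≠ 0 := fun h => hu0 (WT_injective fr ρ 0 1 h01 (fixed_of_B fr ρ huB).1 h)
  have h12d2 : ρ (t12 fr) d2 = -d2 := by
    rw [hd2, t12, ← WT01_dg fr ρ (t12_mem fr) (t12_mem fr),
      show el fr.nd (dg fr.lam fr.lam 1) = t12 fr from rfl, hu12, map_neg]
  have h23d2 : ρ (t23 fr) d2 = -d2 := by
    rw [hd2, t23, ← WT01_dg fr ρ h23mem h13mem, h13u, map_neg]
  have h13d2 : ρ (el fr.nd (dg fr.lam 1 fr.lam)) d2 = d2 := by
    rw [hd2, ← WT01_dg fr ρ h13mem h23mem, show el fr.nd (dg 1 fr.lam fr.lam) = t23 fr from rfl,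
      hu23]
  refine ⟨![u, d2, WT fr ρ 1 2 h12 d2], fun i => ?_, ⟨hu12, hu23⟩, ⟨h12d2, h23d2⟩, ?_, ?_⟩
  · fin_cases i
    · exact ⟨huB, hu0⟩
    · exact ⟨hd2B, hd2ne⟩
    · exact ⟨WT12_mem fr ρ hd2B,
        fun h => hd2ne (WT_injective fr ρ 1 2 h12 (fixed_of_B fr ρ hd2B).2.2.1 h)⟩
  · show ρ (t12 fr) (WT fr ρ 1 2 h12 d2) = _
    rw [t12, ← WT12_dg fr ρ (t12_mem fr) h13mem, h13d2]
    rfl
  · show ρ (t23 fr) (WT fr ρ 1 2 h12 d2) = _
    rw [t23, ← WT12_dg fr ρ h23mem h23mem, show el fr.nd (dg 1 fr.lam fr.lam) = t23 fr from rfl,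
      h23d2, map_neg]
    rfl

end CfsgLib.OrthDeg.Odd
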