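import Cfsg.Agent.Lib.Geo.OrthMinDeg.OddGroup

/-!
# Root elements, torus and Weyl elements of the three vectors

Owner: helper23.
-/

set_option autoImplicit false
set_option maxHeartbeats 1000000

namespace CfsgLib.OrthDeg.Odd

open Module CfsgLib.Classical.Quad Matrix
open QuadraticMap (polar polarBilin)

section Relations

variable {F : Type*} [Field F]

theorem h01 : (0 : Fin 3) ≠ 1 := by decide
theorem h02 : (0 : Fin 3) ≠ 2 := by decide
theorem h12 : (1 : Fin 3) ≠ 2 := by decide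

/-- The cyclic permutation. -/
def cy : GL (Fin 3) F := wy 0 1 h01 * wy 1 2 h12

theorem wy01_tv01 (c : F) :
    wy 0 1 h01 * tv 0 1 h01 c = tv 1 0 h01.symm (-c) * wy 0 1 h01 := by
  refine Units.ext ?_
  simp only [wy, Units.val_mul, coe_tv]
  ext i j
  fin_cases i <;> fin_cases j <;>
    simp [transvection, Matrix.mul_apply, Matrix.single_apply, Fin.sum_univ_three]

theorem cy_tv01 (c : F) : cy * tv 0 1 h01 c = tv 1 2 h12 c * cy := by
  refine Units.ext ?_
  simp only [cy, wy, Units.val_mul, coe_tv]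
  ext i j
  fin_cases i <;> fin_cases j <;>
    simp [transvection, Matrix.mul_apply, Matrix.single_apply, Fin.sum_univ_three]

theorem cy_tv12 (c : F) : cy * tv 1 2 h12 c = tv 2 0 h02.symm (-c) * cy := by
  refine Units.ext ?_
  simp only [cy, wy, Units.val_mul, coe_tv]
  ext i j
  fin_cases i <;> fin_cases j <;>
    simp [transvection, Matrix.mul_apply, Matrix.single_apply, Fin.sum_univ_three]

theorem cy_tv10 (c : F) : cy * tv 1 0 h01.symm c = tv 2 1 h12.symm c * cy := by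
  refine Units.ext ?_
  simp only [cy, wy, Units.val_mul, coe_tv]
  ext i j
  fin_cases i <;> fin_cases j <;>
    simp [transvection, Matrix.mul_apply, Matrix.single_apply, Fin.sum_univ_three]

theorem cy_tv21 (c : F) : cy * tv 2 1 h12.symm c = tv 0 2 h02 (-c) * cy := by
  refine Units.ext ?_
  simp only [cy, wy, Units.val_mul, coe_tv]
  ext i j
  fin_cases i <;> fin_cases j <;>
    simp [transvection, Matrix.mul_apply, Matrix.single_apply, Fin.sum_univ_three]

theorem cy_dg (a b c : Fˣ) : cy * dg a b c = dg c a b * cy := by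
  refine Units.ext ?_
  simp only [cy, wy, Units.val_mul, coe_tv, coe_dg]
  ext i j
  fin_cases i <;> fin_cases j <;>
    simp [transvection, Matrix.mul_apply, Matrix.single_apply, Fin.sum_univ_three]

theorem wy01_dg (a b c : Fˣ) : wy 0 1 h01 * dg a b c = dg b a c * wy 0 1 h01 := by
  refine Units.ext ?_
  simp only [wy, Units.val_mul, coe_tv, coe_dg]
  ext i j
  fin_cases i <;> fin_cases j <;>
    simp [transvection, Matrix.mul_apply, Matrix.single_apply, Fin.sum_univ_three]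

theorem wy12_dg (a b c : Fˣ) : wy 1 2 h12 * dg a b c = dg a c b * wy 1 2 h12 := by
  refine Units.ext ?_
  simp only [wy, Units.val_mul, coe_tv, coe_dg]
  ext i j
  fin_cases i <;> fin_cases j <;>
    simp [transvection, Matrix.mul_apply, Matrix.single_apply, Fin.sum_univ_three]

theorem wy01_tv02 (c : F) : wy 0 1 h01 * tv 0 2 h02 c = tv 1 2 h12 (-c) * wy 0 1 h01 := by
  refine Units.ext ?_
  simp only [wy, Units.val_mul, coe_tv]
  ext i j
  fin_cases i <;> fin_cases j <;>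
    simp [transvection, Matrix.mul_apply, Matrix.single_apply, Fin.sum_univ_three]

theorem wy01_tv12 (c : F) : wy 0 1 h01 * tv 1 2 h12 c = tv 0 2 h02 c * wy 0 1 h01 := by
  refine Units.ext ?_
  simp only [wy, Units.val_mul, coe_tv]
  ext i j
  fin_cases i <;> fin_cases j <;>
    simp [transvection, Matrix.mul_apply, Matrix.single_apply, Fin.sum_univ_three]

theorem wy12_tv01 (c : F) : wy 1 2 h12 * tv 0 1 h01 c = tv 0 2 h02 (-c) * wy 1 2 h12 := by
  refine Units.ext ?_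
  simp only [wy, Units.val_mul, coe_tv]
  ext i j
  fin_cases i <;> fin_cases j <;>
    simp [transvection, Matrix.mul_apply, Matrix.single_apply, Fin.sum_univ_three]

theorem wy12_tv02 (c : F) : wy 1 2 h12 * tv 0 2 h02 c = tv 0 1 h01 c * wy 1 2 h12 := by
  refine Units.ext ?_
  simp only [wy, Units.val_mul, coe_tv]
  ext i j
  fin_cases i <;> fin_cases j <;>
    simp [transvection, Matrix.mul_apply, Matrix.single_apply, Fin.sum_univ_three]

theorem det_tv (i j : Fin 3) (h : i ≠ j) (c : F) :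
    ((tv i j h c : GL (Fin 3) F) : Matrix (Fin 3) (Fin 3) F).det = 1 :=
  det_transvection_of_ne i j h c

/-- The relation behind the injectivity of the Weyl operator. -/
theorem weyl_rel (i j : Fin 3) (h : i ≠ j) (a : Fˣ) :
    ∃ d : Fin 3 → Fˣ, d 0 * d 1 * d 2 = 1 ∧ d i = (-a⁻¹) ∧ d j = (-a⁻¹)⁻¹ ∧
      wy i j h * tv i j h (a : F) * wy i j h =
        tv i j h ((-a⁻¹ : Fˣ) : F) * dg (d 0) (d 1) (d 2) * wy i j h * tv i j h ((-a⁻¹ : Fˣ) : F) := by
  refine ⟨Function.update (Function.update (fun _ => 1) i (-a⁻¹)) j (-a⁻¹)⁻¹, ?_, ?_, ?_, ?_⟩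
  · fin_cases i <;> fin_cases j <;> simp_all [Function.update]
  · rw [Function.update_of_ne h, Function.update_self]
  · rw [Function.update_self]
  · refine Units.ext ?_
    simp only [wy, Units.val_mul, coe_tv, coe_dg]
    fin_cases i <;> fin_cases j <;> try exact absurd rfl h
    all_goals
      ext k l
      fin_cases k <;> fin_cases l <;>
        simp [transvection, Matrix.mul_apply, Matrix.single_apply, Fin.sum_univ_three,
          Function.update]

theorem wy_sq (i j : Fin 3) (h : i ≠ j) (c : F) :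
    tv i j h c * (wy i j h * wy i j h) = wy i j h * wy i j h * tv i j h c := by
  refine Units.ext ?_
  simp only [wy, Units.val_mul, coe_tv]
  fin_cases i <;> fin_cases j <;> try exact absurd rfl h
  all_goals
    ext k l
    fin_cases k <;> fin_cases l <;>
      simp [transvection, Matrix.mul_apply, Matrix.single_apply, Fin.sum_univ_three]

end Relations

variable {F : Type*} [Field F] [Fintype F] {A : Type*} [AddCommGroup A] [Module F A]
  [FiniteDimensional F A] [Fintype A] {Q : QuadraticForm F A}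
  (hQ : (polarBilin Q).Nondegenerate) (hA : 1 ≤ finrank F A)
  (hμ : ∃ μ : Fˣ, (μ : F) ≠ 1)
include hQ hA hμ

omit hA in
theorem wy_mem (i j : Fin 3) (h : i ≠ j) : wy i j h ∈ SG hQ :=
  mul_mem (mul_mem (tv_mem hQ hμ _ _ _ _) (tv_mem hQ hμ _ _ _ _)) (tv_mem hQ hμ _ _ _ _)

omit hA in
theorem cy_mem : cy ∈ SG hQ :=
  mul_mem (wy_mem hQ hμ _ _ _) (wy_mem hQ hμ _ _ _)

theorem el_tv01 (c : F) : el hQ (tv 0 1 h01 c) =
    xel (q2_nondeg hQ) (three_le_U2 hQ hA) ((0, c, (0, 0, 0)) : U2 F A) := by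
  refine ext_app fun z => ?_
  rw [app_el hQ (tv_mem hQ hμ _ _ _ _), glMap_apply, coe_tv, coe_tv_inv, app_xel]
  simp [transvection, Matrix.single_apply, polar_hyp, hyp_apply, Prod.ext_iff]
  refine ⟨?_, ?_⟩ <;> ring

theorem el_tv02 (c : F) : el hQ (tv 0 2 h02 c) =
    xel (q2_nondeg hQ) (three_le_U2 hQ hA) ((0, 0, (0, c, 0)) : U2 F A) := by
  refine ext_app fun z => ?_
  rw [app_el hQ (tv_mem hQ hμ _ _ _ _), glMap_apply, coe_tv, coe_tv_inv, app_xel]
  simp [transvection, Matrix.single_apply, polar_hyp, hyp_apply, Prod.ext_iff]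
  refine ⟨?_, ?_⟩ <;> ring

theorem el_tv12 (c : F) : el hQ (tv 1 2 h12 c) =
    lev (xel' hQ hA ((0, c, 0) : F × F × A)) := by
  refine ext_app fun z => ?_
  rw [app_el hQ (tv_mem hQ hμ _ _ _ _), glMap_apply, coe_tv, coe_tv_inv, app_lev_xel']
  simp [transvection, Matrix.single_apply, polar_hyp, hyp_apply, Prod.ext_iff]
  refine ⟨?_, ?_⟩ <;> ring

omit hμ in
/-- A diagonal element on the radical. -/
theorem dg_xel {a b c : Fˣ} (hd : dg a b c ∈ SG hQ) (v : U2 F A) :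
    el hQ (dg a b c) * xel (q2_nondeg hQ) (three_le_U2 hQ hA) v =
      xel (q2_nondeg hQ) (three_le_U2 hQ hA) ((a : F) •
        (((b : F) * v.1, (b : F)⁻¹ * v.2.1, ((c : F) * v.2.2.1, (c : F)⁻¹ * v.2.2.2.1,
          v.2.2.2.2)) : U2 F A)) * el hQ (dg a b c) := by
  refine ext_app fun z => ?_
  rw [app_mul, app_mul, app_el hQ hd, app_el hQ hd, app_xel, app_xel, glMap_apply, glMap_apply,
    coe_dg, coe_dg_inv]
  simp [polar_hyp, hyp_apply, polar_smul_right', apply_smul, Prod.ext_iff, smul_smul]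
  (repeat' apply And.intro) <;> field_simp <;> ring

omit hμ in
theorem dg_xel' {a b c : Fˣ} (hd : dg a b c ∈ SG hQ) (v : F × F × A) :
    el hQ (dg a b c) * lev (xel' hQ hA v) = lev (xel' hQ hA ((b : F) •
      (((c : F) * v.1, (c : F)⁻¹ * v.2.1, v.2.2) : F × F × A))) * el hQ (dg a b c) := by
  refine ext_app fun z => ?_
  rw [app_mul, app_mul, app_el hQ hd, app_el hQ hd, app_lev_xel', app_lev_xel', glMap_apply,
    glMap_apply, coe_dg, coe_dg_inv]
  simp [polar_hyp, hyp_apply, polar_smul_right', apply_smul, Prod.ext_iff, smul_smul]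
  (repeat' apply And.intro) <;> field_simp <;> ring

omit hμ in
theorem dg_xel'' {a b c : Fˣ} (hd : dg a b c ∈ SG hQ) (v : A) :
    el hQ (dg a b c) * lev (xel'' hQ hA v) =
      lev (xel'' hQ hA ((c : F) • v)) * el hQ (dg a b c) := by
  refine ext_app fun z => ?_
  rw [app_mul, app_mul, app_el hQ hd, app_el hQ hd, app_lev_xel'', app_lev_xel'', glMap_apply,
    glMap_apply, coe_dg, coe_dg_inv]
  simp [polar_smul_right', apply_smul, Prod.ext_iff, smul_smul]
  (repeat' apply And.intro) <;> field_simp <;> ring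

/-- The matrices normalising the radical. -/
noncomputable def NG : Subgroup (GL (Fin 3) F) :=
  ((Subgroup.normalizer (R3 hQ hA : Set (Om (q2 Q)))).comap (em hQ)).map (SG hQ).subtype

omit hμ in
theorem mem_NG {g : GL (Fin 3) F} :
    g ∈ NG hQ hA ↔ g ∈ SG hQ ∧ el hQ g ∈ Subgroup.normalizer (R3 hQ hA : Set (Om (q2 Q))) := by
  constructor
  · rintro ⟨x, hx, rfl⟩
    exact ⟨x.2, (el_of_mem hQ x.2).symm ▸ hx⟩
  · rintro ⟨h, hn⟩
    rw [el_of_mem hQ h] at hn
    exact ⟨⟨g, h⟩, hn, rfl⟩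

omit hμ in
theorem conj_mem_R3 {g : GL (Fin 3) F} (hg : g ∈ NG hQ hA) {h : Om (q2 Q)}
    (hh : h ∈ R3 hQ hA) : el hQ g * h * (el hQ g)⁻¹ ∈ R3 hQ hA :=
  (Subgroup.mem_normalizer_iff.1 ((mem_NG hQ hA).1 hg).2 h).1 hh

omit hμ in
theorem dg_NG {a b c : Fˣ} (hd : dg a b c ∈ SG hQ) : dg a b c ∈ NG hQ hA := by
  refine (mem_NG hQ hA).2 ⟨hd, mem_normalizer_of_monomial hQ hA (Equiv.refl _)
    ![(a : F), b, c] fun i => ?_⟩
  rw [app_el hQ hd, glMap_apply, coe_dg, coe_dg_inv]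
  fin_cases i <;> simp [bv, Prod.ext_iff]

theorem wy01_NG : wy 0 1 h01 ∈ NG hQ hA := by
  refine (mem_NG hQ hA).2 ⟨wy_mem hQ hμ _ _ _, mem_normalizer_of_monomial hQ hA
    (Equiv.swap 0 1) ![-1, 1, 1] fun i => ?_⟩
  rw [wy, app_el hQ (by exact wy_mem hQ hμ _ _ _), glMap_apply]
  simp only [_root_.mul_inv_rev, Units.val_mul, coe_tv, coe_tv_inv]
  fin_cases i <;>
    simp [bv, transvection, Matrix.mul_apply, Matrix.single_apply, Fin.sum_univ_three,
      Prod.ext_iff, Equiv.swap_apply_of_ne_of_ne, polar_hyp]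

theorem wy12_NG : wy 1 2 h12 ∈ NG hQ hA := by
  refine (mem_NG hQ hA).2 ⟨wy_mem hQ hμ _ _ _, mem_normalizer_of_monomial hQ hA
    (Equiv.swap 1 2) ![1, -1, 1] fun i => ?_⟩
  rw [wy, app_el hQ (by exact wy_mem hQ hμ _ _ _), glMap_apply]
  simp only [_root_.mul_inv_rev, Units.val_mul, coe_tv, coe_tv_inv]
  fin_cases i <;>
    simp [bv, transvection, Matrix.mul_apply, Matrix.single_apply, Fin.sum_univ_three,
      Prod.ext_iff, Equiv.swap_apply_of_ne_of_ne, polar_hyp]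

theorem cy_NG : cy ∈ NG hQ hA := mul_mem (wy01_NG hQ hA hμ) (wy12_NG hQ hA hμ)

theorem tv01_NG (c : F) : tv 0 1 h01 c ∈ NG hQ hA := by
  refine (mem_NG hQ hA).2 ⟨tv_mem hQ hμ _ _ _ _, mem_normalizer_of_conj hQ hA fun x hx => ?_⟩
  rw [el_tv01 hQ hA hμ]
  set X := xel (q2_nondeg hQ) (three_le_U2 hQ hA) ((0, c, (0, 0, 0)) : U2 F A) with hX
  have key : ∀ h : commutator (OQ (q2 Q)), X * lev h * X⁻¹ =
      xel (q2_nondeg hQ) (three_le_U2 hQ hA) (((0, c, (0, 0, 0)) : U2 F A) -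
        ((h : OQ (q2 Q)) : U2 F A ≃ₗ[F] U2 F A) (0, c, (0, 0, 0))) * lev h := by
    intro h
    rw [mul_inv_eq_iff_eq_mul, mul_assoc, hX, lev_xel, ← mul_assoc, ← xel_add, sub_add_cancel]
  rcases hx with ⟨a, h1, h2, rfl⟩ | ⟨a, h, rfl⟩ | ⟨a, rfl⟩
  · rw [hX, ← xel_add, add_comm, xel_add, mul_inv_cancel_right]
    exact xel_mem_R3 hQ hA h1 h2
  · rw [key]
    refine mul_mem (xel_mem_R3 hQ hA ?_ ?_) (xel'_mem_R3 hQ hA h)
    all_goals
      rw [show ((xel' hQ hA a : OQ (q2 Q)) : U2 F A ≃ₗ[F] U2 F A) ((0, c, (0, 0, 0)) : U2 F A) =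
        _ from xo_apply (hyp_nondegenerate hQ) a _]
      simp [h]
  · rw [key]
    refine mul_mem (xel_mem_R3 hQ hA ?_ ?_) (xel''_mem_R3 hQ hA a)
    all_goals
      rw [show ((xel'' hQ hA a : OQ (q2 Q)) : U2 F A ≃ₗ[F] U2 F A) ((0, c, (0, 0, 0)) : U2 F A) =
        _ from eich_apply (q2_nondeg hQ) (q2_vR hQ hA) (polar_vR hQ hA a) _]
      simp [polar_hyp, hyp_apply]

theorem tv_NG (i j : Fin 3) (h : i ≠ j) (c : F) : tv i j h c ∈ NG hQ hA := by
  have conj : ∀ (w : GL (Fin 3) F) (i j i' j' : Fin 3) (h : i ≠ j) (h' : i' ≠ j') (c c' : F),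
      w ∈ NG hQ hA → w * tv i j h c = tv i' j' h' c' * w → tv i j h c ∈ NG hQ hA →
      tv i' j' h' c' ∈ NG hQ hA := by
    intro w i j i' j' h h' c c' hw e ht
    rw [eq_mul_inv_of_mul_eq e.symm]
    exact mul_mem (mul_mem hw ht) (inv_mem hw)
  have t01 := tv01_NG hQ hA hμ
  have t10 : ∀ c : F, tv 1 0 h01.symm c ∈ NG hQ hA := fun c =>
    conj _ _ _ _ _ _ _ _ _ (wy01_NG hQ hA hμ) (by rw [wy01_tv01 (-c), neg_neg]) (t01 (-c))
  have t12 : ∀ c : F, tv 1 2 h12 c ∈ NG hQ hA := fun c =>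
    conj _ _ _ _ _ _ _ _ _ (cy_NG hQ hA hμ) (cy_tv01 c) (t01 c)
  have t20 : ∀ c : F, tv 2 0 h02.symm c ∈ NG hQ hA := fun c =>
    conj _ _ _ _ _ _ _ _ _ (cy_NG hQ hA hμ) (by rw [cy_tv12 (-c), neg_neg]) (t12 (-c))
  have t21 : ∀ c : F, tv 2 1 h12.symm c ∈ NG hQ hA := fun c =>
    conj _ _ _ _ _ _ _ _ _ (cy_NG hQ hA hμ) (cy_tv10 c) (t10 c)
  have t02 : ∀ c : F, tv 0 2 h02 c ∈ NG hQ hA := fun c =>
    conj _ _ _ _ _ _ _ _ _ (cy_NG hQ hA hμ) (by rw [cy_tv21 (-c), neg_neg]) (t21 (-c))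
  fin_cases i <;> fin_cases j
  all_goals first
    | exact absurd rfl h
    | exact t01 c
    | exact t10 c
    | exact t12 c
    | exact t20 c
    | exact t21 c
    | exact t02 c

theorem det_one_NG (g : GL (Fin 3) F) (hg : (g : Matrix (Fin 3) (Fin 3) F).det = 1) :
    g ∈ NG hQ hA := by
  obtain ⟨u, hu, hu'⟩ := Matrix.diagonal_transvection_induction
    (fun M => ∃ u : GL (Fin 3) F, (u : Matrix (Fin 3) (Fin 3) F) = M ∧ u ∈ NG hQ hA)
    (g : Matrix (Fin 3) (Fin 3) F)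
    (fun D hD => by
      rw [hg, det_diagonal, Fin.prod_univ_three] at hD
      have hne : ∀ i, D i ≠ 0 := fun i h0 => by
        refine zero_ne_one (α := F) (hD ▸ ?_)
        fin_cases i <;> simp_all
      refine ⟨dg (Units.mk0 _ (hne 0)) (Units.mk0 _ (hne 1)) (Units.mk0 _ (hne 2)), ?_,
        dg_NG hQ hA (dg_mem hQ hμ _ _ _ ?_)⟩
      · rw [coe_dg]
        congr 1
        funext i
        fin_cases i <;> rfl
      · exact ⟨1, Units.ext (by simpa using hD)⟩)
    (fun t => ⟨tv t.i t.j t.hij t.c, rfl, tv_NG hQ hA hμ _ _ _ _⟩)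
    (fun M N ⟨u, hu, hu'⟩ ⟨v, hv, hv'⟩ => ⟨u * v, by rw [Units.val_mul, hu, hv], mul_mem hu' hv'⟩)
  rwa [← Units.ext hu]

end CfsgLib.OrthDeg.Odd
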