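import Mathlib.RepresentationTheory.Basic
import Mathlib.GroupTheory.Perm.Cycle.Type
import Mathlib.LinearAlgebra.Matrix.Permutation
import Mathlib.LinearAlgebra.Determinant
import Mathlib.LinearAlgebra.Trace
import Mathlib.FieldTheory.Finite.Basic
import Mathlib.Algebra.Module.ZMod
import Mathlib.Algebra.BigOperators.Ring.Nat
import Mathlib.Tactic

/-!
# General tools for the odd-dimensional bound

Owner: helper23. Averages over subgroups, a Weyl-element argument, determinants of monomial maps.
-/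

set_option autoImplicit false

namespace CfsgLib.OrthDeg.Odd

open Module

section Avg

variable {G : Type*} [Group G] [Finite G] {V : Type*} [AddCommGroup V] [Module ℂ V]
  (ρ : Representation ℂ G V) (H : Subgroup G)

/-- The average over a subgroup. -/
noncomputable def avg : Module.End ℂ V :=
  letI := Fintype.ofFinite H
  ((Fintype.card H : ℕ) : ℂ)⁻¹ • ∑ h : H, ρ h

theorem apply_avg {h : G} (hh : h ∈ H) : ρ h * avg ρ H = avg ρ H := by
  letI := Fintype.ofFinite H
  rw [avg, mul_smul_comm, Finset.mul_sum]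
  refine congrArg (fun x : Module.End ℂ V => ((Fintype.card H : ℕ) : ℂ)⁻¹ • x) ?_
  refine Fintype.sum_equiv (Equiv.mulLeft (⟨h, hh⟩ : H)) _ _ fun x => ?_
  rw [← map_mul]
  rfl

theorem avg_apply_of_fixed {v : V} (hv : ∀ h ∈ H, ρ h v = v) : avg ρ H v = v := by
  letI := Fintype.ofFinite H
  rw [avg, LinearMap.smul_apply, LinearMap.sum_apply, Finset.sum_congr rfl fun (h : H) _ => hv (h : G) h.2,
    Finset.sum_const, Finset.card_univ, ← Nat.cast_smul_eq_nsmul ℂ, smul_smul,
    inv_mul_cancel₀ (Nat.cast_ne_zero.2 Fintype.card_ne_zero), one_smul]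

theorem avg_fixed (v : V) : ∀ h ∈ H, ρ h (avg ρ H v) = avg ρ H v := fun _ hh =>
  LinearMap.congr_fun (apply_avg ρ H hh) v

theorem mem_range_avg {v : V} : v ∈ LinearMap.range (avg ρ H) ↔ ∀ h ∈ H, ρ h v = v := by
  refine ⟨?_, fun hv => ⟨v, avg_apply_of_fixed ρ H hv⟩⟩
  rintro ⟨u, rfl⟩
  exact avg_fixed ρ H u

theorem avg_idem : avg ρ H * avg ρ H = avg ρ H :=
  LinearMap.ext fun v => avg_apply_of_fixed ρ H (avg_fixed ρ H v)

theorem trace_avg [FiniteDimensional ℂ V] :
    LinearMap.trace ℂ V (avg ρ H) = (finrank ℂ (LinearMap.range (avg ρ H)) : ℂ) := by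
  have h : LinearMap.IsProj (LinearMap.range (avg ρ H)) (avg ρ H) :=
    ⟨fun v => LinearMap.mem_range_self _ v, fun v hv =>
      avg_apply_of_fixed ρ H ((mem_range_avg ρ H).1 hv)⟩
  exact h.trace

theorem avg_apply_elem {h : G} (hh : h ∈ H) : avg ρ H * ρ h = avg ρ H := by
  letI := Fintype.ofFinite H
  rw [avg, smul_mul_assoc, Finset.sum_mul]
  refine congrArg (fun x : Module.End ℂ V => ((Fintype.card H : ℕ) : ℂ)⁻¹ • x) ?_
  refine Fintype.sum_equiv (Equiv.mulRight (⟨h, hh⟩ : H)) _ _ fun x => ?_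
  rw [← map_mul]
  rfl

/-- The average commutes with what normalises the subgroup. -/
theorem apply_avg_comm {g : G} (hg : ∀ h ∈ H, g * h * g⁻¹ ∈ H) :
    ρ g * avg ρ H = avg ρ H * ρ g := by
  letI := Fintype.ofFinite H
  let φ : H → H := fun h => ⟨g * h * g⁻¹, hg h h.2⟩
  have hφ : Function.Bijective φ := Finite.injective_iff_bijective.1 fun a b h => by
    simpa [φ] using h
  rw [avg, mul_smul_comm, smul_mul_assoc, Finset.mul_sum, Finset.sum_mul]
  refine congrArg (fun x : Module.End ℂ V => ((Fintype.card H : ℕ) : ℂ)⁻¹ • x) ?_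
  refine Fintype.sum_equiv (Equiv.ofBijective φ hφ) _ _ fun x => ?_
  rw [← map_mul, ← map_mul, Equiv.ofBijective_apply]
  congr 1
  simp [φ]

end Avg

/-- A projection moved to an orthogonal one has trace zero. -/
theorem trace_eq_zero_of_move {V : Type*} [AddCommGroup V] [Module ℂ V] (g P R : Module.End ℂ V)
    (hP : P * P = P) (hm : g * P = R * g) (hPR : P * R = 0) :
    LinearMap.trace ℂ V (g * P) = 0 := by
  rw [← hP, ← mul_assoc, LinearMap.trace_mul_comm, hm, ← mul_assoc, hPR, zero_mul, map_zero]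

/-- A map fixing every vector of the range of a projection. -/
theorem trace_of_scalar {V : Type*} [AddCommGroup V] [Module ℂ V] (g P : Module.End ℂ V) (c : ℂ)
    (h : ∀ v ∈ LinearMap.range P, g v = c • v) :
    LinearMap.trace ℂ V (g * P) = c * LinearMap.trace ℂ V P := by
  rw [show g * P = c • P from LinearMap.ext fun v => h _ (LinearMap.mem_range_self _ v),
    map_smul, smul_eq_mul]

/-- The Weyl element followed by the average over a root group is injective on the fixed vectors
of the root group. -/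
theorem weyl_injective {F : Type*} [AddCommGroup F] [Fintype F] {G : Type*} [Group G] {V : Type*}
    [AddCommGroup V] [Module ℂ V] (ρ : Representation ℂ G V) (u : F → G)
    (hu : ∀ a b, u (a + b) = u a * u b) (s : G)
    (hss : ∀ a, u a * (s * s) = s * s * u a)
    (hrel : ∀ a, a ≠ 0 → ∃ k h, (∃ φ : F → F, Function.Bijective φ ∧ ∀ x, u x * h = h * u (φ x)) ∧
      s * u a * s = u k * h * s * u k)
    {z : V} (hz : ∀ a, ρ (u a) z = z) (h0 : ∑ a, ρ (u a) (ρ s z) = 0) : z = 0 := by
  classical
  set P : Module.End ℂ V := ∑ a, ρ (u a) with hP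
  have hPu : ∀ k, P * ρ (u k) = P := fun k => by
    rw [hP, Finset.sum_mul]
    refine Fintype.sum_equiv (Equiv.addRight k) _ _ fun a => ?_
    rw [← map_mul, ← hu, Equiv.coe_addRight]
  have h0' : P (ρ s z) = 0 := by rw [hP, LinearMap.sum_apply]; exact h0
  have hu0 : u 0 = 1 := by
    have := hu 0 0
    rw [add_zero] at this
    exact mul_left_cancel (this.symm.trans (mul_one _).symm)
  have h1 : P (ρ s (∑ a, ρ (u a) (ρ s z))) = 0 := by rw [h0, map_zero, map_zero]
  rw [map_sum, map_sum, Finset.sum_eq_single (0 : F) ?_ (by simp)] at h1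
  · rw [hu0, map_one, Module.End.one_apply, ← Module.End.mul_apply (ρ s), ← map_mul, hP,
      LinearMap.sum_apply, Finset.sum_congr rfl fun a _ => (show ρ (u a) (ρ (s * s) z) =
        ρ (s * s) z by rw [← Module.End.mul_apply, ← map_mul, hss, map_mul, Module.End.mul_apply,
          hz]), Finset.sum_const, ← Nat.cast_smul_eq_nsmul ℂ, smul_eq_zero] at h1
    rcases h1 with h | h
    · exact absurd h (Nat.cast_ne_zero.2 Fintype.card_ne_zero)
    · have := congrArg (ρ (s * s)⁻¹) h
      rwa [← Module.End.mul_apply, ← map_mul, inv_mul_cancel, map_one, Module.End.one_apply,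
        map_zero] at this
  · intro a _ ha
    obtain ⟨k, h, hh, he⟩ := hrel a ha
    rw [← Module.End.mul_apply (ρ s), ← map_mul, ← Module.End.mul_apply (ρ (s * u a)), ← map_mul,
      he, map_mul, Module.End.mul_apply, hz, mul_assoc, map_mul, Module.End.mul_apply,
      ← Module.End.mul_apply P, hPu, map_mul, Module.End.mul_apply, ← Module.End.mul_apply P]
    obtain ⟨φ, hφ, hh⟩ := hh
    rw [show P * ρ h = ρ h * P by
      rw [hP, Finset.sum_mul, Finset.mul_sum]
      refine Fintype.sum_equiv (Equiv.ofBijective φ hφ) _ _ fun x => ?_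
      rw [← map_mul, ← map_mul, hh, Equiv.ofBijective_apply],
      Module.End.mul_apply, h0', map_zero]

/-- The component on which an element of even order is minus one. -/
theorem exists_neg_part {V : Type*} [AddCommGroup V] [Module ℂ V] (T : Module.End ℂ V) {n : ℕ}
    (hn : T ^ (2 * n) = 1) (hn0 : n ≠ 0) (z : V) :
    ∃ c : ℕ → ℂ, T (∑ i ∈ Finset.range (2 * n), c i • (T ^ i) z) =
        -(∑ i ∈ Finset.range (2 * n), c i • (T ^ i) z) ∧
      ∑ i ∈ Finset.range (2 * n), c i * (-1) ^ i = 1 := by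
  refine ⟨fun i => ((2 * n : ℕ) : ℂ)⁻¹ * (-1) ^ i, ?_, ?_⟩
  · set f : ℕ → V := fun i => (((2 * n : ℕ) : ℂ)⁻¹ * (-1) ^ i) • (T ^ i) z with hf
    have h1 : ∀ i, T (f i) = -f (i + 1) := fun i => by
      simp only [hf, map_smul, ← Module.End.mul_apply, ← pow_succ', pow_succ (-1 : ℂ)]
      rw [← neg_smul]
      congr 1
      ring
    have h2 : f (2 * n) = f 0 := by
      simp only [hf, hn, pow_zero, pow_mul, neg_one_sq, one_pow]
    show T (∑ i ∈ Finset.range (2 * n), f i) = -∑ i ∈ Finset.range (2 * n), f i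
    rw [map_sum, Finset.sum_congr rfl fun i _ => h1 i, Finset.sum_neg_distrib, neg_inj]
    have := Finset.sum_range_succ' f (2 * n)
    rw [Finset.sum_range_succ, h2] at this
    exact add_right_cancel this.symm
  · have : ∀ i : ℕ, (((2 * n : ℕ) : ℂ)⁻¹ * (-1) ^ i) * (-1) ^ i = ((2 * n : ℕ) : ℂ)⁻¹ := fun i => by
      rw [mul_assoc, ← mul_pow, neg_one_mul, neg_neg, one_pow, mul_one]
    rw [Finset.sum_congr rfl fun i _ => this i, Finset.sum_const, Finset.card_range, nsmul_eq_mul,
      mul_inv_cancel₀]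
    exact Nat.cast_ne_zero.2 (by omega)

/-- The determinant of a monomial map. -/
theorem det_of_perm {ι : Type*} [Fintype ι] [DecidableEq ι] {V : Type*} [AddCommGroup V]
    [Module ℂ V] (b : Basis ι ℂ V) (f : Module.End ℂ V) (σ : Equiv.Perm ι) (c : ℂ)
    (h : ∀ i, f (b i) = c • b (σ i)) :
    LinearMap.det f = c ^ Fintype.card ι * ((Equiv.Perm.sign σ : ℤ) : ℂ) := by
  rw [← LinearMap.det_toMatrix b]
  have : LinearMap.toMatrix b b f = c • (σ⁻¹).permMatrix ℂ := by
    ext i j
    rw [LinearMap.toMatrix_apply, h, map_smul, Basis.repr_self]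
    by_cases hij : σ j = i
    · subst hij; simp [PEquiv.toMatrix_apply, Equiv.Perm.inv_def]
    · simp [hij, PEquiv.toMatrix_apply, Finsupp.single_apply, Equiv.symm_apply_eq, Ne.symm hij]
  rw [this, Matrix.det_smul, Matrix.det_permutation, Equiv.Perm.sign_inv]

/-- A scalar generating the units permutes an odd-dimensional space oddly. -/
theorem sign_smul {F : Type*} [Field F] [Fintype F] (hodd : Odd (Fintype.card F)) {W : Type*}
    [AddCommGroup W] [Module F W] [Fintype W] [DecidableEq W] (hW : Odd (finrank F W)) (μ : Fˣ)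
    (hμ : ∀ i : ℕ, (μ : F) ^ i = 1 → Fintype.card F - 1 ∣ i) :
    Equiv.Perm.sign (MulAction.toPerm μ : Equiv.Perm W) = -1 := by
  classical
  have hq : 1 < Fintype.card F := Fintype.one_lt_card
  have hFW : FiniteDimensional F W := Module.Finite.of_finite
  set σ : Equiv.Perm W := MulAction.toPerm μ with hσ
  set o := Fintype.card F - 1 with ho
  have hpow : ∀ (i : ℕ) (x : W), (σ ^ i) x = (μ : F) ^ i • x := by
    intro i x
    induction i with
    | zero => simp
    | succ i ih => rw [pow_succ', Equiv.Perm.mul_apply, ih, pow_succ', mul_smul]; rfl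
  have hfix : ∀ (i : ℕ) (x : W), x ≠ 0 → ((σ ^ i) x = x ↔ o ∣ i) := by
    intro i x hx
    rw [hpow]
    refine ⟨fun h => hμ i ?_, ?_⟩
    · by_contra hne
      have : ((μ : F) ^ i - 1) • x = 0 := by rw [sub_smul, one_smul, h, sub_self]
      rcases smul_eq_zero.1 this with h' | h'
      · exact hne (sub_eq_zero.1 h')
      · exact hx h'
    · rintro ⟨t, rfl⟩
      rw [pow_mul, FiniteField.pow_card_sub_one_eq_one (μ : F) (Units.ne_zero μ), one_pow, one_smul]
  have hcyc : ∀ n ∈ σ.cycleType, n = o := by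
    intro n hn
    obtain ⟨c, τ, hc, hd, hC, rfl⟩ := Equiv.Perm.mem_cycleType_iff.1 hn
    obtain ⟨x, hx, -⟩ := id hC
    have hτx : τ x = x := (hd x).resolve_left hx
    have hcx : ∀ i : ℕ, (σ ^ i) x = (c ^ i) x := fun i => by
      rw [hc, hd.commute.mul_pow, Equiv.Perm.mul_apply,
        Equiv.Perm.pow_apply_eq_self_of_apply_eq_self hτx]
    have hx0 : x ≠ 0 := by
      rintro rfl
      have := hcx 1
      rw [hpow, pow_one, smul_zero, pow_one] at this
      exact hx this.symm
    have horder : ∀ i, o ∣ i ↔ orderOf c ∣ i := fun i => by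
      rw [← hfix i x hx0, hcx, orderOf_dvd_iff_pow_eq_one, hC.pow_eq_one_iff' hx]
    rw [← hC.orderOf]
    exact Nat.dvd_antisymm ((horder _).1 dvd_rfl) ((horder _).2 dvd_rfl)
  have hrep : σ.cycleType = Multiset.replicate (Multiset.card σ.cycleType) o :=
    Multiset.eq_replicate_card.2 hcyc
  have hsupp : σ.support = Finset.univ.erase 0 := by
    ext x
    rw [Equiv.Perm.mem_support, Finset.mem_erase]
    refine ⟨fun h => ⟨fun h0 => h (h0 ▸ smul_zero (μ : Fˣ)), Finset.mem_univ _⟩,
      fun ⟨hx, _⟩ h => ?_⟩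
    have := (hfix 1 x hx).1 (by rw [pow_one]; exact h)
    rw [Nat.dvd_one] at this
    obtain ⟨t, ht⟩ := hodd
    omega
  have hsum : Multiset.card σ.cycleType * o = Fintype.card F ^ finrank F W - 1 := by
    have h := σ.sum_cycleType
    rw [hrep, Multiset.sum_replicate, hsupp, Finset.card_erase_of_mem (Finset.mem_univ _),
      Finset.card_univ, Module.card_eq_pow_finrank (K := F), smul_eq_mul] at h
    simpa using h
  have hgeom := geom_sum_mul_neg (Fintype.card F : ℤ) (finrank F W)
  have hk : Odd (Multiset.card σ.cycleType) := by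
    have h1 : ((Multiset.card σ.cycleType : ℕ) : ℤ) * ((Fintype.card F : ℤ) - 1) =
        (Fintype.card F : ℤ) ^ finrank F W - 1 := by
      have := congrArg (fun n : ℕ => (n : ℤ)) hsum
      push_cast [ho, Nat.cast_sub hq.le, Nat.cast_sub (Nat.one_le_pow _ _ (by omega : 0 < Fintype.card F))] at this
      exact this
    have h2 : ((Multiset.card σ.cycleType : ℕ) : ℤ) =
        ∑ i ∈ Finset.range (finrank F W), (Fintype.card F : ℤ) ^ i := by
      refine mul_right_cancel₀ (b := (Fintype.card F : ℤ) - 1) (by omega) ?_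
      rw [h1]
      linear_combination -(geom_sum_mul (Fintype.card F : ℤ) (finrank F W))
    have h3 : Multiset.card σ.cycleType = ∑ i ∈ Finset.range (finrank F W), Fintype.card F ^ i := by
      exact_mod_cast h2
    rw [h3, Finset.odd_sum_iff_odd_card_odd,
      Finset.filter_true_of_mem fun i _ => hodd.pow, Finset.card_range]
    exact hW
  have hsg := Equiv.Perm.sign_of_cycleType σ
  rw [hrep, Multiset.sum_replicate, Multiset.card_replicate, smul_eq_mul] at hsg
  rw [hsg]
  refine Odd.neg_one_pow ?_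
  have ho' : Even o := by
    obtain ⟨t, ht⟩ := hodd
    exact ⟨t, by omega⟩
  exact (ho'.mul_left _).add_odd hk

/-- A root of unity with an odd power equal to minus one. -/
theorem eq_neg_one {c : ℂ} {N m : ℕ} (hN : c ^ N = -1) (hm : c ^ m = 1) (hcop : N.Coprime m)
    (hodd : Odd N) (heven : Even m) : c = -1 := by
  have h1 : (-c) ^ N = 1 := by rw [hodd.neg_pow, hN, neg_neg]
  have h2 : (-c) ^ m = 1 := by rw [heven.neg_pow, hm]
  have h3 := pow_gcd_eq_one.2 ⟨h1, h2⟩
  rw [hcop.gcd_eq_one, pow_one] at h3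
  rw [← h3, neg_neg]

end CfsgLib.OrthDeg.Odd
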