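import Cfsg.Agent.Lib.Geo.OrthMinDeg.Trace
import Cfsg.Agent.Lib.Geo.OrthMinDeg.OddTools
import Mathlib.LinearAlgebra.Matrix.Transvection
import Mathlib.LinearAlgebra.Matrix.GeneralLinearGroup.Defs

/-!
# The linear group of three orthogonal singular vectors

Owner: helper23. The isometries acting on the span of the first singular vectors of three hyperbolic
planes, and those among them in `Ω`.
-/

set_option autoImplicit false

namespace CfsgLib.OrthDeg.Odd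

open Module CfsgLib.Classical.Quad Matrix
open QuadraticMap (polar polarBilin)
open scoped commutatorElement

section Matrices

variable {F : Type*} [Field F]

/-- A transvection. -/
def tv (i j : Fin 3) (h : i ≠ j) (c : F) : GL (Fin 3) F :=
  ⟨transvection i j c, transvection i j (-c),
    by rw [transvection_mul_transvection_same _ _ h, add_neg_cancel, transvection_zero],
    by rw [transvection_mul_transvection_same _ _ h, neg_add_cancel, transvection_zero]⟩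

/-- A diagonal matrix. -/
def dg (a b c : Fˣ) : GL (Fin 3) F :=
  ⟨diagonal ![(a : F), b, c], diagonal ![((a⁻¹ : Fˣ) : F), (b⁻¹ : Fˣ), (c⁻¹ : Fˣ)],
    by rw [diagonal_mul_diagonal, ← diagonal_one]; congr 1; funext i; fin_cases i <;> simp,
    by rw [diagonal_mul_diagonal, ← diagonal_one]; congr 1; funext i; fin_cases i <;> simp⟩

theorem coe_tv (i j : Fin 3) (h : i ≠ j) (c : F) :
    ((tv i j h c : GL (Fin 3) F) : Matrix (Fin 3) (Fin 3) F) = transvection i j c := rfl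

theorem coe_tv_inv (i j : Fin 3) (h : i ≠ j) (c : F) :
    (((tv i j h c)⁻¹ : GL (Fin 3) F) : Matrix (Fin 3) (Fin 3) F) = transvection i j (-c) := rfl

theorem coe_dg (a b c : Fˣ) :
    ((dg a b c : GL (Fin 3) F) : Matrix (Fin 3) (Fin 3) F) = diagonal ![(a : F), b, c] := rfl

theorem coe_dg_inv (a b c : Fˣ) :
    (((dg a b c)⁻¹ : GL (Fin 3) F) : Matrix (Fin 3) (Fin 3) F) =
      diagonal ![((a⁻¹ : Fˣ) : F), (b⁻¹ : Fˣ), (c⁻¹ : Fˣ)] := rfl

theorem dg_mul (a b c a' b' c' : Fˣ) :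
    dg a b c * dg a' b' c' = dg (a * a') (b * b') (c * c') := by
  refine Units.ext ?_
  rw [Units.val_mul, coe_dg, coe_dg, coe_dg, diagonal_mul_diagonal]
  congr 1
  funext i
  fin_cases i <;> simp

theorem tv_add (i j : Fin 3) (h : i ≠ j) (c d : F) : tv i j h (c + d) = tv i j h c * tv i j h d :=
  Units.ext (transvection_mul_transvection_same _ _ h c d).symm

/-- The signed transposition of two indices. -/
def wy (i j : Fin 3) (h : i ≠ j) : GL (Fin 3) F :=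
  tv i j h 1 * tv j i h.symm (-1) * tv i j h 1

theorem dg_tv (a : Fin 3 → Fˣ) (i j : Fin 3) (h : i ≠ j) (c : F) :
    dg (a 0) (a 1) (a 2) * tv i j h c =
      tv i j h ((a i : F) * c * (a j : F)⁻¹) * dg (a 0) (a 1) (a 2) := by
  have e : ![((a 0 : Fˣ) : F), (a 1 : Fˣ), (a 2 : Fˣ)] = fun k => ((a k : Fˣ) : F) := by
    funext k
    fin_cases k <;> rfl
  refine Units.ext ?_
  rw [Units.val_mul, Units.val_mul, coe_dg, coe_tv, coe_tv, e, transvection, transvection,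
    Matrix.mul_add, Matrix.add_mul, Matrix.mul_one, Matrix.one_mul]
  congr 1
  ext k l
  rw [diagonal_mul, mul_diagonal, Matrix.single_apply, Matrix.single_apply]
  split_ifs with hk
  · rw [← hk.1, ← hk.2]
    field_simp
  · simp

end Matrices

variable {F : Type*} [Field F] {A : Type*} [AddCommGroup A] [Module F A]

/-- The action on three planes and `A`. -/
def glMap (M N : Matrix (Fin 3) (Fin 3) F) : (F × F × U2 F A) →ₗ[F] F × F × U2 F A where
  toFun z :=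
    ((M *ᵥ ![z.1, z.2.2.1, z.2.2.2.2.1]) 0, (![z.2.1, z.2.2.2.1, z.2.2.2.2.2.1] ᵥ* N) 0,
      ((M *ᵥ ![z.1, z.2.2.1, z.2.2.2.2.1]) 1, (![z.2.1, z.2.2.2.1, z.2.2.2.2.2.1] ᵥ* N) 1,
        ((M *ᵥ ![z.1, z.2.2.1, z.2.2.2.2.1]) 2, (![z.2.1, z.2.2.2.1, z.2.2.2.2.2.1] ᵥ* N) 2,
          z.2.2.2.2.2.2)))
  map_add' x y := by
    simp [Matrix.mulVec, Matrix.vecMul, dotProduct, Fin.sum_univ_three, Prod.ext_iff]
    refine ⟨?_, ?_, ?_, ?_, ?_, ?_⟩ <;> ring
  map_smul' c x := by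
    simp [Matrix.mulVec, Matrix.vecMul, dotProduct, Fin.sum_univ_three, Prod.ext_iff]
    refine ⟨?_, ?_, ?_, ?_, ?_, ?_⟩ <;> ring

theorem glMap_apply (M N : Matrix (Fin 3) (Fin 3) F) (z : F × F × U2 F A) :
    glMap M N z =
      (M 0 0 * z.1 + M 0 1 * z.2.2.1 + M 0 2 * z.2.2.2.2.1,
        z.2.1 * N 0 0 + z.2.2.2.1 * N 1 0 + z.2.2.2.2.2.1 * N 2 0,
        (M 1 0 * z.1 + M 1 1 * z.2.2.1 + M 1 2 * z.2.2.2.2.1,
          z.2.1 * N 0 1 + z.2.2.2.1 * N 1 1 + z.2.2.2.2.2.1 * N 2 1,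
          (M 2 0 * z.1 + M 2 1 * z.2.2.1 + M 2 2 * z.2.2.2.2.1,
            z.2.1 * N 0 2 + z.2.2.2.1 * N 1 2 + z.2.2.2.2.2.1 * N 2 2,
            z.2.2.2.2.2.2))) := by
  show (_, _, (_, _, (_, _, _))) = _
  simp [Matrix.mulVec, Matrix.vecMul, dotProduct, Fin.sum_univ_three]

variable [FiniteDimensional F A] {Q : QuadraticForm F A} (hQ : (polarBilin Q).Nondegenerate)
include hQ

omit [FiniteDimensional F A] hQ in
theorem glMap_preserves {M N : Matrix (Fin 3) (Fin 3) F} (h : N * M = 1) (z : F × F × U2 F A) :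
    hyp (q2 Q) (glMap M N z) = hyp (q2 Q) z := by
  set x : Fin 3 → F := ![z.1, z.2.2.1, z.2.2.2.2.1]
  set y : Fin 3 → F := ![z.2.1, z.2.2.2.1, z.2.2.2.2.2.1]
  have hd : (y ᵥ* N) ⬝ᵥ (M *ᵥ x) = y ⬝ᵥ x := by
    rw [Matrix.dotProduct_mulVec, Matrix.vecMul_vecMul, h, Matrix.vecMul_one]
  simp only [dotProduct, Fin.sum_univ_three] at hd
  show _ = z.1 * z.2.1 + (z.2.2.1 * z.2.2.2.1 + (z.2.2.2.2.1 * z.2.2.2.2.2.1 + Q z.2.2.2.2.2.2))
  show (M *ᵥ x) 0 * (y ᵥ* N) 0 + ((M *ᵥ x) 1 * (y ᵥ* N) 1 +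
    ((M *ᵥ x) 2 * (y ᵥ* N) 2 + Q z.2.2.2.2.2.2)) = _
  have e : y 0 * x 0 + y 1 * x 1 + y 2 * x 2 =
      z.1 * z.2.1 + z.2.2.1 * z.2.2.2.1 + z.2.2.2.2.1 * z.2.2.2.2.2.1 := by
    simp [x, y]
    ring
  linear_combination hd + e

/-- The isometry of an invertible matrix. -/
noncomputable def glO (g : GL (Fin 3) F) : OQ (hyp (q2 Q)) :=
  ofPreserves (hyp_nondegenerate (q2_nondeg hQ)) (glMap (g : Matrix (Fin 3) (Fin 3) F) (g⁻¹ : GL (Fin 3) F))
    (glMap_preserves (by rw [← Units.val_mul, inv_mul_cancel, Units.val_one]))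

theorem glO_apply (g : GL (Fin 3) F) (z : F × F × U2 F A) :
    ev (glO hQ g) z =
      glMap (g : Matrix (Fin 3) (Fin 3) F) ((g⁻¹ : GL (Fin 3) F) : Matrix (Fin 3) (Fin 3) F) z := rfl

theorem glO_mul (g h : GL (Fin 3) F) : glO hQ (g * h) = glO hQ g * glO hQ h := by
  refine Subtype.ext (LinearEquiv.ext fun z => ?_)
  show glMap _ _ z = glMap _ _ (glMap _ _ z)
  rw [_root_.mul_inv_rev, Units.val_mul, Units.val_mul]
  simp only [glMap_apply, Matrix.mul_apply, Fin.sum_univ_three]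
  refine Prod.ext ?_ (Prod.ext ?_ (Prod.ext ?_ (Prod.ext ?_ (Prod.ext ?_ (Prod.ext ?_ rfl))))) <;>
    ring

/-- The embedding of the linear group. -/
noncomputable def iota : GL (Fin 3) F →* OQ (hyp (q2 Q)) :=
  MonoidHom.mk' (glO hQ) (glO_mul hQ)

/-- The matrices acting inside `Ω`. -/
noncomputable def SG : Subgroup (GL (Fin 3) F) := (Om (q2 Q)).comap (iota hQ)

/-- The embedding into `Ω`. -/
noncomputable def em : SG hQ →* Om (q2 Q) :=
  ((iota hQ).comp (SG hQ).subtype).codRestrict (Om (q2 Q)) fun g => g.2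

theorem app_em (g : SG hQ) (z : F × F × U2 F A) :
    app (em hQ g) z = glMap ((g : GL (Fin 3) F) : Matrix (Fin 3) (Fin 3) F)
      (((g : GL (Fin 3) F)⁻¹ : GL (Fin 3) F) : Matrix (Fin 3) (Fin 3) F) z := rfl


/-- The swap of the first plane. -/
theorem exists_flip0 : ∃ f : OQ (hyp (q2 Q)), ∀ z, ev f z = (z.2.1, z.1, z.2.2) := by
  let g : (F × F × U2 F A) →ₗ[F] F × F × U2 F A :=
    { toFun := fun z => (z.2.1, z.1, z.2.2)
      map_add' := fun _ _ => rfl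
      map_smul' := fun _ _ => rfl }
  refine ⟨ofPreserves (hyp_nondegenerate (q2_nondeg hQ)) g fun z => ?_, fun z => rfl⟩
  show z.2.1 * z.1 + q2 Q z.2.2 = z.1 * z.2.1 + q2 Q z.2.2
  ring

theorem dg_sq_mem (a : Fˣ) : dg (a * a) 1 1 ∈ SG hQ := by
  obtain ⟨f, hf⟩ := exists_flip0 hQ
  have hfi : f⁻¹ = f := inv_eq_of_mul_eq_one_right (Subtype.ext (LinearEquiv.ext fun z => by
    show ev f (ev f z) = z
    rw [hf, hf]))
  have h : iota hQ (dg (a * a) 1 1) = ⁅iota hQ (dg a 1 1), f⁆ := by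
    rw [commutatorElement_def, hfi, ← map_inv]
    refine Subtype.ext (LinearEquiv.ext fun z => ?_)
    show glMap _ _ z = glMap _ _ (ev f (glMap _ _ (ev f z)))
    rw [inv_inv, hf, hf]
    simp only [glMap_apply, coe_dg, coe_dg_inv]
    simp
    constructor <;> ring
  show iota hQ (dg (a * a) 1 1) ∈ commutator (OQ (hyp (q2 Q)))
  rw [h]
  exact Subgroup.commutator_mem_commutator (Subgroup.mem_top _) (Subgroup.mem_top _)

theorem commutator_mem (g h : GL (Fin 3) F) : ⁅g, h⁆ ∈ SG hQ := by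
  show iota hQ ⁅g, h⁆ ∈ commutator (OQ (hyp (q2 Q)))
  rw [map_commutatorElement]
  exact Subgroup.commutator_mem_commutator (Subgroup.mem_top _) (Subgroup.mem_top _)

theorem tv_mem (hμ : ∃ μ : Fˣ, (μ : F) ≠ 1) (i j : Fin 3) (h : i ≠ j) (c : F) :
    tv i j h c ∈ SG hQ := by
  obtain ⟨μ, hμ⟩ := hμ
  set a : Fin 3 → Fˣ := Function.update (fun _ => 1) i μ with ha
  have e : tv i j h c = ⁅dg (a 0) (a 1) (a 2), tv i j h (c / ((μ : F) - 1))⁆ := by
    rw [commutatorElement_def, dg_tv, mul_inv_cancel_right, eq_mul_inv_iff_mul_eq, ← tv_add]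
    congr 1
    rw [ha, Function.update_self, Function.update_of_ne h.symm]
    simp
    field_simp [sub_ne_zero.2 hμ]
    ring
  rw [e]
  exact commutator_mem hQ _ _

theorem dg_mem (hμ : ∃ μ : Fˣ, (μ : F) ≠ 1) (a b c : Fˣ) (hsq : IsSquare (a * b * c)) :
    dg a b c ∈ SG hQ := by
  have h01 : (0 : Fin 3) ≠ 1 := by decide
  have h12 : (1 : Fin 3) ≠ 2 := by decide
  have hc : ∀ (i j : Fin 3) (h : i ≠ j) (x : Fˣ), tv i j h (x : F) * tv j i h.symm (-((x⁻¹ : Fˣ) : F)) *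
      tv i j h (x : F) * (wy i j h)⁻¹ ∈ SG hQ := fun i j h x =>
    mul_mem (mul_mem (mul_mem (tv_mem hQ hμ _ _ _ _) (tv_mem hQ hμ _ _ _ _))
      (tv_mem hQ hμ _ _ _ _)) (inv_mem (mul_mem (mul_mem (tv_mem hQ hμ _ _ _ _)
        (tv_mem hQ hμ _ _ _ _)) (tv_mem hQ hμ _ _ _ _)))
  have h1 : ∀ x : Fˣ, dg x x⁻¹ 1 ∈ SG hQ := fun x => by
    have e : dg x x⁻¹ 1 * wy 0 1 h01 = tv 0 1 h01 (x : F) * tv 1 0 h01.symm (-((x⁻¹ : Fˣ) : F)) *
        tv 0 1 h01 (x : F) := by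
      refine Units.ext ?_
      simp only [wy, Units.val_mul, coe_dg, coe_tv]
      ext i j
      fin_cases i <;> fin_cases j <;>
        simp [transvection, Matrix.mul_apply, Matrix.single_apply, Fin.sum_univ_three] <;> ring
    rw [eq_mul_inv_of_mul_eq e]
    exact hc 0 1 h01 x
  have h2 : ∀ x : Fˣ, dg 1 x x⁻¹ ∈ SG hQ := fun x => by
    have e : dg 1 x x⁻¹ * wy 1 2 h12 = tv 1 2 h12 (x : F) * tv 2 1 h12.symm (-((x⁻¹ : Fˣ) : F)) *
        tv 1 2 h12 (x : F) := by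
      refine Units.ext ?_
      simp only [wy, Units.val_mul, coe_dg, coe_tv]
      ext i j
      fin_cases i <;> fin_cases j <;>
        simp [transvection, Matrix.mul_apply, Matrix.single_apply, Fin.sum_univ_three] <;> ring
    rw [eq_mul_inv_of_mul_eq e]
    exact hc 1 2 h12 x
  obtain ⟨r, hr⟩ := hsq
  have e : dg a b c = dg (r * r) 1 1 * (dg (b * c)⁻¹ (b * c) 1 * dg 1 c⁻¹ c) := by
    rw [dg_mul, dg_mul, ← hr]
    congr 1 <;> simp [mul_assoc, mul_comm, mul_left_comm]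
  rw [e]
  refine mul_mem (dg_sq_mem hQ r) (mul_mem ?_ ?_)
  · simpa using h1 (b * c)⁻¹
  · simpa using h2 c⁻¹

theorem det_one_mem (hμ : ∃ μ : Fˣ, (μ : F) ≠ 1) (g : GL (Fin 3) F)
    (hg : (g : Matrix (Fin 3) (Fin 3) F).det = 1) : g ∈ SG hQ := by
  obtain ⟨u, hu, hu'⟩ := Matrix.diagonal_transvection_induction
    (fun M => ∃ u : GL (Fin 3) F, (u : Matrix (Fin 3) (Fin 3) F) = M ∧ u ∈ SG hQ)
    (g : Matrix (Fin 3) (Fin 3) F)
    (fun D hD => by
      rw [hg, det_diagonal, Fin.prod_univ_three] at hD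
      have hne : ∀ i, D i ≠ 0 := fun i h0 => by
        refine zero_ne_one (α := F) (hD ▸ ?_)
        fin_cases i <;> simp_all
      refine ⟨dg (Units.mk0 _ (hne 0)) (Units.mk0 _ (hne 1)) (Units.mk0 _ (hne 2)), ?_,
        dg_mem hQ hμ _ _ _ ?_⟩
      · rw [coe_dg]
        congr 1
        funext i
        fin_cases i <;> rfl
      · exact ⟨1, Units.ext (by simpa using hD)⟩)
    (fun t => ⟨tv t.i t.j t.hij t.c, rfl, tv_mem hQ hμ _ _ _ _⟩)
    (fun M N ⟨u, hu, hu'⟩ ⟨v, hv, hv'⟩ => ⟨u * v, by rw [Units.val_mul, hu, hv], mul_mem hu' hv'⟩)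
  rwa [← Units.ext hu]

end CfsgLib.OrthDeg.Odd
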