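import Cfsg.Agent.Lib.Geo.OrthMinDeg.OddFrame
import Cfsg.Agent.Lib.Geo.OrthMinDeg.Tools

/-!
# The unipotent radical of the stabiliser of three orthogonal singular vectors

Owner: helper23.
-/

set_option autoImplicit false
set_option maxHeartbeats 1000000

namespace CfsgLib.OrthDeg.Odd

open Module CfsgLib.Classical.Quad Matrix
open QuadraticMap (polar polarBilin)

variable {F : Type*} [Field F] [Fintype F] {A : Type*} [AddCommGroup A] [Module F A]
  [FiniteDimensional F A] {Q : QuadraticForm F A}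

/-- The whole space. -/
abbrev VV (F A : Type*) : Type _ := F × F × U2 F A

omit [Fintype F] [FiniteDimensional F A] in
theorem ext_app {g h : Om (q2 Q)} (e : ∀ z, app g z = app h z) : g = h :=
  Subtype.ext (Subtype.ext (LinearEquiv.ext e))

variable (hQ : (polarBilin Q).Nondegenerate)
include hQ

/-- A matrix as an element of `Ω`, when it is one. -/
noncomputable def el (g : GL (Fin 3) F) : Om (q2 Q) := by
  classical exact if h : g ∈ SG hQ then em hQ ⟨g, h⟩ else 1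

theorem el_of_mem {g : GL (Fin 3) F} (h : g ∈ SG hQ) : el hQ g = em hQ ⟨g, h⟩ := by
  rw [el, dif_pos h]

theorem el_mul {g h : GL (Fin 3) F} (hg : g ∈ SG hQ) (hh : h ∈ SG hQ) :
    el hQ (g * h) = el hQ g * el hQ h := by
  rw [el_of_mem hQ (mul_mem hg hh), el_of_mem hQ hg, el_of_mem hQ hh, ← map_mul]
  rfl

theorem el_one : el hQ (1 : GL (Fin 3) F) = 1 := by
  rw [el_of_mem hQ (one_mem _)]
  exact map_one (em hQ)

theorem el_inv {g : GL (Fin 3) F} (hg : g ∈ SG hQ) : el hQ g⁻¹ = (el hQ g)⁻¹ :=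
  eq_inv_of_mul_eq_one_left (by rw [← el_mul hQ (inv_mem hg) hg, inv_mul_cancel, el_one])

theorem app_el {g : GL (Fin 3) F} (h : g ∈ SG hQ) (z : VV F A) :
    app (el hQ g) z = glMap (g : Matrix (Fin 3) (Fin 3) F)
      ((g⁻¹ : GL (Fin 3) F) : Matrix (Fin 3) (Fin 3) F) z := by
  rw [el_of_mem hQ h]
  rfl

variable (hA : 1 ≤ finrank F A)
include hA

/-- An Eichler map of the whole space, in `Ω`. -/
noncomputable def ee {w a : VV F A} (hw : hyp (q2 Q) w = 0) (ha : polar (hyp (q2 Q)) w a = 0) :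
    Om (q2 Q) :=
  ⟨eich (hyp_nondegenerate (q2_nondeg hQ)) hw ha,
    eich_mem_commutator (hyp_nondegenerate (q2_nondeg hQ)) (five_le (three_le_U2 hQ hA)) hw ha⟩

theorem app_ee {w a : VV F A} (hw : hyp (q2 Q) w = 0) (ha : polar (hyp (q2 Q)) w a = 0)
    (z : VV F A) : app (ee hQ hA hw ha) z =
      z + (polar (hyp (q2 Q)) z a - hyp (q2 Q) a * polar (hyp (q2 Q)) z w) • w +
        (-polar (hyp (q2 Q)) z w) • a :=
  eich_apply (hyp_nondegenerate (q2_nondeg hQ)) hw ha z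

theorem ee_congr {w a w' a' : VV F A} {hw : hyp (q2 Q) w = 0}
    {ha : polar (hyp (q2 Q)) w a = 0} {hw' : hyp (q2 Q) w' = 0}
    {ha' : polar (hyp (q2 Q)) w' a' = 0} (h₁ : w = w') (h₂ : a = a') :
    ee hQ hA hw ha = ee hQ hA hw' ha' := by
  subst h₁ h₂
  rfl

theorem ee_conj (g : Om (q2 Q)) {w a : VV F A} (hw : hyp (q2 Q) w = 0)
    (ha : polar (hyp (q2 Q)) w a = 0) :
    g * ee hQ hA hw ha * g⁻¹ = ee hQ hA (w := app g w) (a := app g a)
      ((OQ.map_apply (g : OQ (hyp (q2 Q))) w).trans hw)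
      ((OQ.map_polar (g : OQ (hyp (q2 Q))) w a).trans ha) :=
  Subtype.ext (eich_conj (hyp_nondegenerate (q2_nondeg hQ)) (g : OQ (hyp (q2 Q))) hw ha)

/-- The radical of the point stabiliser at level `U`, inside `Ω(U)`. -/
noncomputable def xel' (a : F × F × A) : commutator (OQ (q2 Q)) :=
  xel (hyp_nondegenerate hQ) (by simp; omega) a

theorem app_lev_xel' (a : F × F × A) (z : VV F A) :
    app (lev (xel' hQ hA a)) z = (z.1, z.2.1, (z.2.2.1 + (polar (hyp Q) z.2.2.2.2 a -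
      hyp Q a * z.2.2.2.1), z.2.2.2.1, z.2.2.2.2 + (-z.2.2.2.1) • a)) := by
  rw [lev_apply, xel']
  exact Prod.ext rfl (Prod.ext rfl (xo_apply (hyp_nondegenerate hQ) a z.2.2))

theorem polar_vR (a : A) : polar (q2 Q) (vR F A) ((0, 0, (0, 0, a)) : U2 F A) = 0 := by
  simp [polar_hyp]

theorem q2_vR : q2 Q (vR F A) = 0 := by simp [hyp_apply]

/-- The root elements at the third vector. -/
noncomputable def xel'' (a : A) : commutator (OQ (q2 Q)) :=
  eU hQ hA (q2_vR hQ hA) (polar_vR hQ hA a)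

theorem app_lev_xel'' (a : A) (z : VV F A) :
    app (lev (xel'' hQ hA a)) z = (z.1, z.2.1, (z.2.2.1, z.2.2.2.1,
      (z.2.2.2.2.1 + (polar Q z.2.2.2.2.2.2 a - Q a * z.2.2.2.2.2.1), z.2.2.2.2.2.1,
        z.2.2.2.2.2.2 + (-z.2.2.2.2.2.1) • a))) := by
  rw [lev_apply]
  refine Prod.ext rfl (Prod.ext rfl ?_)
  show (eich (q2_nondeg hQ) (q2_vR hQ hA) (polar_vR hQ hA a) : U2 F A ≃ₗ[F] U2 F A) z.2.2 = _
  rw [eich_apply]
  refine Prod.ext ?_ (Prod.ext ?_ (Prod.ext ?_ (Prod.ext ?_ ?_))) <;>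
    simp [polar_hyp, hyp_apply]

omit hQ hA [FiniteDimensional F A] [Fintype F] in
variable (F A) in
/-- The three singular vectors. -/
def bv : Fin 3 → VV F A := ![(1, 0, 0), (0, 0, vP F A), (0, 0, vR F A)]

omit hQ hA [FiniteDimensional F A] [Fintype F] in
/-- Orthogonality to the three singular vectors. -/
def Perp (a : VV F A) : Prop := a.2.1 = 0 ∧ a.2.2.2.1 = 0 ∧ a.2.2.2.2.2.1 = 0

omit hQ hA [FiniteDimensional F A] [Fintype F] in
theorem perp_iff (a : VV F A) : Perp a ↔ ∀ i, polar (hyp (q2 Q)) (bv F A i) a = 0 := by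
  simp [Perp, bv, Fin.forall_fin_succ, polar_hyp]

omit hQ hA [FiniteDimensional F A] [Fintype F] in
theorem bv_singular (i : Fin 3) : hyp (q2 Q) (bv F A i) = 0 := by
  fin_cases i <;> simp [bv, hyp_apply]

omit hQ hA [FiniteDimensional F A] [Fintype F] in
theorem polar_bv {i : Fin 3} {a : VV F A} (h : Perp a) :
    polar (hyp (q2 Q)) (bv F A i) a = 0 := (perp_iff a).1 h i

/-- The generating families of the radical. -/
def genSet : Set (Om (q2 Q)) :=
  {g | (∃ a : U2 F A, a.2.1 = 0 ∧ a.2.2.2.1 = 0 ∧ g = xel (q2_nondeg hQ) (three_le_U2 hQ hA) a) ∨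
    (∃ a : F × F × A, a.2.1 = 0 ∧ g = lev (xel' hQ hA a)) ∨
    ∃ a : A, g = lev (xel'' hQ hA a)}

/-- The unipotent radical of the stabiliser of the three vectors. -/
def R3 : Subgroup (Om (q2 Q)) := Subgroup.closure (genSet hQ hA)

theorem xel_mem_R3 {a : U2 F A} (h1 : a.2.1 = 0) (h2 : a.2.2.2.1 = 0) :
    xel (q2_nondeg hQ) (three_le_U2 hQ hA) a ∈ R3 hQ hA :=
  Subgroup.subset_closure (Or.inl ⟨a, h1, h2, rfl⟩)

theorem xel'_mem_R3 {a : F × F × A} (h : a.2.1 = 0) : lev (xel' hQ hA a) ∈ R3 hQ hA :=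
  Subgroup.subset_closure (Or.inr (Or.inl ⟨a, h, rfl⟩))

theorem xel''_mem_R3 (a : A) : lev (xel'' hQ hA a) ∈ R3 hQ hA :=
  Subgroup.subset_closure (Or.inr (Or.inr ⟨a, rfl⟩))

theorem ee_zero_eq {a1 : F} {a3 : F} {a5 : F} {a7 : A}
    (hw : hyp (q2 Q) (bv F A 0) = 0)
    (ha : polar (hyp (q2 Q)) (bv F A 0) ((a1, 0, (a3, 0, (a5, 0, a7))) : VV F A) = 0) :
    ee hQ hA hw ha = xel (q2_nondeg hQ) (three_le_U2 hQ hA) (a3, 0, (a5, 0, a7)) := by
  refine ext_app fun z => ?_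
  rw [app_ee, app_xel]
  simp [bv, polar_hyp, hyp_apply, Prod.ext_iff]
  ring

theorem ee_one_eq {a1 : F} {a3 : F} {a5 : F} {a7 : A}
    (hw : hyp (q2 Q) (bv F A 1) = 0)
    (ha : polar (hyp (q2 Q)) (bv F A 1) ((a1, 0, (a3, 0, (a5, 0, a7))) : VV F A) = 0) :
    ee hQ hA hw ha = xel (q2_nondeg hQ) (three_le_U2 hQ hA) (-a1, 0, (0, 0, 0)) *
      lev (xel' hQ hA (a5, 0, a7)) := by
  refine ext_app fun z => ?_
  rw [app_mul, app_ee, app_lev_xel', app_xel]
  simp [bv, polar_hyp, hyp_apply, Prod.ext_iff]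
  refine ⟨?_, ?_⟩ <;> ring

theorem ee_two_eq {a1 : F} {a3 : F} {a5 : F} {a7 : A}
    (hw : hyp (q2 Q) (bv F A 2) = 0)
    (ha : polar (hyp (q2 Q)) (bv F A 2) ((a1, 0, (a3, 0, (a5, 0, a7))) : VV F A) = 0) :
    ee hQ hA hw ha = xel (q2_nondeg hQ) (three_le_U2 hQ hA) (0, 0, (-a1, 0, 0)) *
      lev (xel' hQ hA (-a3, 0, 0)) * lev (xel'' hQ hA a7) := by
  refine ext_app fun z => ?_
  rw [app_mul, app_mul, app_ee, app_lev_xel'', app_lev_xel', app_xel]
  simp [bv, polar_hyp, hyp_apply, Prod.ext_iff]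
  refine ⟨?_, ?_, ?_⟩ <;> ring

/-- Each Eichler map of a basic vector and an orthogonal vector is in the radical. -/
theorem ee_mem_R3 (i : Fin 3) {a : VV F A} (hw : hyp (q2 Q) (bv F A i) = 0)
    (ha : polar (hyp (q2 Q)) (bv F A i) a = 0) (h : Perp a) : ee hQ hA hw ha ∈ R3 hQ hA := by
  obtain ⟨a1, a2, a3, a4, a5, a6, a7⟩ := a
  obtain ⟨h2, h4, h6⟩ := h
  change a2 = 0 at h2
  change a4 = 0 at h4
  change a6 = 0 at h6
  subst h2 h4 h6
  match i, hw, ha with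
  | 0, hw, ha =>
    rw [ee_zero_eq hQ hA hw ha]
    exact xel_mem_R3 hQ hA rfl rfl
  | 1, hw, ha =>
    rw [ee_one_eq hQ hA hw ha]
    exact mul_mem (xel_mem_R3 hQ hA rfl rfl) (xel'_mem_R3 hQ hA rfl)
  | 2, hw, ha =>
    rw [ee_two_eq hQ hA hw ha]
    exact mul_mem (mul_mem (xel_mem_R3 hQ hA rfl rfl) (xel'_mem_R3 hQ hA rfl))
      (xel''_mem_R3 hQ hA a7)

/-- A generator is an Eichler map of a basic vector. -/
theorem exists_ee_of_mem_genSet {g : Om (q2 Q)} (hg : g ∈ genSet hQ hA) :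
    ∃ (i : Fin 3) (a : VV F A) (h : Perp a),
      g = ee hQ hA (bv_singular i) (polar_bv (Q := Q) (i := i) h) := by
  rcases hg with ⟨a, h1, h2, rfl⟩ | ⟨a, h, rfl⟩ | ⟨a, rfl⟩
  · obtain ⟨a3, a4, a5, a6, a7⟩ := a
    simp only at h1 h2
    subst h1 h2
    refine ⟨0, (0, 0, (a3, 0, (a5, 0, a7))), ⟨rfl, rfl, rfl⟩, ?_⟩
    exact Subtype.ext rfl
  · obtain ⟨a5, a6, a7⟩ := a
    simp only at h
    subst h
    refine ⟨1, (0, 0, (0, 0, (a5, 0, a7))), ⟨rfl, rfl, rfl⟩, ?_⟩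
    refine Subtype.ext (Subtype.ext (LinearEquiv.ext fun z => ?_))
    show app (lev _) z = app (ee hQ hA _ _) z
    rw [app_ee, app_lev_xel']
    simp [bv, polar_hyp, hyp_apply, Prod.ext_iff]
  · refine ⟨2, (0, 0, (0, 0, (0, 0, a))), ⟨rfl, rfl, rfl⟩, ?_⟩
    refine Subtype.ext (Subtype.ext (LinearEquiv.ext fun z => ?_))
    show app (lev _) z = app (ee hQ hA _ _) z
    rw [app_ee, app_lev_xel'']
    simp [bv, polar_hyp, hyp_apply, Prod.ext_iff]

variable [Fintype A]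

theorem mem_normalizer_of_conj {g : Om (q2 Q)}
    (h : ∀ x ∈ genSet hQ hA, g * x * g⁻¹ ∈ R3 hQ hA) :
    g ∈ Subgroup.normalizer (R3 hQ hA : Set (Om (q2 Q))) := by
  have hle : ∀ x ∈ R3 hQ hA, g * x * g⁻¹ ∈ R3 hQ hA := by
    intro x hx
    have : R3 hQ hA ≤ (R3 hQ hA).comap (MulAut.conj g).toMonoidHom :=
      (Subgroup.closure_le _).2 fun y hy => h y hy
    exact this hx
  rw [Subgroup.mem_normalizer_iff]
  refine fun x => ⟨hle x, fun hx => ?_⟩
  have hbij : Function.Bijective fun y : R3 hQ hA => (⟨g * y * g⁻¹, hle y y.2⟩ : R3 hQ hA) :=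
    Finite.injective_iff_bijective.1 fun a b hab => by simpa using hab
  obtain ⟨y, hy⟩ := hbij.2 ⟨_, hx⟩
  have : (y : Om (q2 Q)) = x := by simpa using congrArg Subtype.val hy
  exact this ▸ y.2

/-- A monomial element normalises the radical. -/
theorem mem_normalizer_of_monomial {g : Om (q2 Q)} (σ : Equiv.Perm (Fin 3)) (c : Fin 3 → F)
    (hg : ∀ i, app g (bv F A i) = c i • bv F A (σ i)) :
    g ∈ Subgroup.normalizer (R3 hQ hA : Set (Om (q2 Q))) := by
  refine mem_normalizer_of_conj hQ hA fun x hx => ?_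
  obtain ⟨i, a, ha, rfl⟩ := exists_ee_of_mem_genSet hQ hA hx
  rw [ee_conj]
  have hc : ∀ j, c j ≠ 0 := fun j hj => by
    have := hg j
    rw [hj, zero_smul, LinearEquiv.map_eq_zero_iff] at this
    fin_cases j <;> simp [bv, Prod.ext_iff] at this
  have hperp : Perp (c i • app g a) := by
    rw [perp_iff (Q := Q)]
    intro j
    obtain ⟨k, rfl⟩ := σ.surjective j
    have h0 : polar (hyp (q2 Q)) (app g (bv F A k)) (app g a) = 0 :=
      (OQ.map_polar (g : OQ (hyp (q2 Q))) _ _).trans (polar_bv ha)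
    rw [hg, polar_smul_left', mul_eq_zero] at h0
    rw [polar_smul_right', h0.resolve_left (hc k), mul_zero]
  have h0 : polar (hyp (q2 Q)) (app g (bv F A i)) (app g a) = 0 :=
    (OQ.map_polar (g : OQ (hyp (q2 Q))) _ _).trans (polar_bv ha)
  rw [hg, polar_smul_left', mul_eq_zero] at h0
  have h1 := h0.resolve_left (hc i)
  have hw' : hyp (q2 Q) (c i • bv F A (σ i)) = 0 := by rw [apply_smul, bv_singular, mul_zero]
  have ha' : polar (hyp (q2 Q)) (c i • bv F A (σ i)) (app g a) = 0 := by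
    rw [polar_smul_left', h1, mul_zero]
  rw [ee_congr hQ hA (hw' := hw') (ha' := ha') (hg i) rfl]
  have e : ee hQ hA hw' ha' = ee hQ hA (bv_singular (σ i))
      (show polar (hyp (q2 Q)) (bv F A (σ i)) (c i • app g a) = 0 by
        rw [polar_smul_right', h1, mul_zero]) :=
    Subtype.ext (eich_smul_left (hyp_nondegenerate (q2_nondeg hQ)) (bv_singular (σ i)) h1 (c i))
  rw [e]
  exact ee_mem_R3 hQ hA (σ i) _ _ hperp

end CfsgLib.OrthDeg.Odd
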