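import Cfsg.Agent.Lib.Geo.OrthMinDeg.OddElem

/-!
# The inner orthogonal group

Owner: helper23. The part of `Ω(hyp A)` in its derived group fixing the third vector up to a scalar.
-/

set_option autoImplicit false
set_option maxHeartbeats 1000000

namespace CfsgLib.OrthDeg.Odd

open Module CfsgLib.Classical.Quad Matrix
open QuadraticMap (polar polarBilin)
open scoped commutatorElement

variable {F : Type*} [Field F] {A : Type*} [AddCommGroup A] [Module F A] {Q : QuadraticForm F A}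

/-- `Ω(hyp A)` inside `Ω` of the whole space. -/
noncomputable def lev2 : Om Q →* Om (q2 Q) := (lev (Q := q2 Q)).comp (lev (Q := hyp Q))

theorem app_lev2 (g : Om Q) (z : VV F A) :
    app (lev2 g) z = (z.1, z.2.1, (z.2.2.1, z.2.2.2.1, app g z.2.2.2.2)) := rfl

/-- An isometry conjugates `Ω` to itself. -/
noncomputable def conjOm (t : OQ (hyp Q)) : Om Q →* Om Q where
  toFun g := ⟨t * g * t⁻¹, Subgroup.Normal.conj_mem inferInstance _ g.2 t⟩
  map_one' := Subtype.ext (by simp)
  map_mul' a b := Subtype.ext (by simp [mul_assoc])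

theorem conjOm_commutator (t : OQ (hyp Q)) {g : Om Q} (hg : g ∈ commutator (Om Q)) :
    conjOm t g ∈ commutator (Om Q) := by
  have : (commutator (Om Q)).map (conjOm t) ≤ commutator (Om Q) := by
    rw [commutator_def, Subgroup.map_commutator]
    exact Subgroup.commutator_mono le_top le_top
  exact this ⟨g, hg, rfl⟩

/-- The elements of the derived inner group fixing the third vector up to a scalar. -/
def Jsub (Q : QuadraticForm F A) : Subgroup (Om Q) where
  carrier := {g | g ∈ commutator (Om Q) ∧ ∃ μ : F, app g (hv₀ F A) = μ • hv₀ F A}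
  one_mem' := ⟨one_mem _, 1, by rw [one_smul]; rfl⟩
  mul_mem' := fun {a b} ⟨ha, μ, hμ⟩ ⟨hb, ν, hν⟩ =>
    ⟨mul_mem ha hb, ν * μ, by rw [app_mul, hν, map_smul, hμ, smul_smul]⟩
  inv_mem' := fun {a} ⟨ha, μ, hμ⟩ => by
    refine ⟨inv_mem ha, μ⁻¹, ?_⟩
    have hμ0 : μ ≠ 0 := fun h => by
      rw [h, zero_smul, LinearEquiv.map_eq_zero_iff] at hμ
      simp [Prod.ext_iff] at hμ
    show (app a).symm _ = _
    rw [LinearEquiv.symm_apply_eq, map_smul, hμ, smul_smul, inv_mul_cancel₀ hμ0, one_smul]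

/-- Its image in the whole group. -/
noncomputable def J (Q : QuadraticForm F A) : Subgroup (Om (q2 Q)) := (Jsub Q).map lev2

theorem dil_conj_xo [FiniteDimensional F A] (hQ : (polarBilin Q).Nondegenerate) (μ : Fˣ) (a : A) :
    dil μ * xo hQ a * (dil (Q := Q) μ)⁻¹ = xo hQ ((μ : F) • a) :=
  conj_xo hQ (dil μ) (μ : F) a a (by rw [dil_apply]; simp) (by rw [dil_apply]; simp)

variable [FiniteDimensional F A] (hQ : (polarBilin Q).Nondegenerate) (lam : Fˣ)
  (hl : (lam : F) * lam ≠ 1)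
include hQ hl

omit [FiniteDimensional F A] in
/-- The flip of the plane. -/
theorem exists_flip : ∃ f : OQ (hyp Q), f⁻¹ = f ∧ (∀ z, ev f z = (z.2.1, z.1, z.2.2)) ∧
    ∀ μ : Fˣ, f * dil μ * f = dil μ⁻¹ := by
  let e : (F × F × A) ≃ₗ[F] F × F × A :=
    { toFun := fun z => (z.2.1, z.1, z.2.2)
      invFun := fun z => (z.2.1, z.1, z.2.2)
      left_inv := fun _ => rfl
      right_inv := fun _ => rfl
      map_add' := fun _ _ => rfl
      map_smul' := fun _ _ => rfl }
  refine ⟨⟨e, fun z _ => ?_⟩, inv_eq_of_mul_eq_one_right (Subtype.ext (LinearEquiv.ext fun z => rfl)),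
    fun z => rfl, fun μ => Subtype.ext (LinearEquiv.ext fun z => ?_)⟩
  · show z.2.1 * z.1 + Q z.2.2 = z.1 * z.2.1 + Q z.2.2
    ring
  · show e (ev (dil (Q := Q) μ) (e z)) = ev (dil (Q := Q) μ⁻¹) z
    rw [dil_apply, dil_apply, Units.val_inv_eq_inv_val, inv_inv]
    rfl

omit [FiniteDimensional F A] in
theorem dil_sq_mem : dil (Q := Q) (lam * lam) ∈ commutator (OQ (hyp Q)) := by
  obtain ⟨f, hfi, hf, hfd⟩ := exists_flip hQ lam hl
  have hinv : (dil (Q := Q) lam)⁻¹ = dil lam⁻¹ := inv_eq_of_mul_eq_one_right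
    (Subtype.ext (LinearEquiv.ext fun z => by
      show ev (dil (Q := Q) lam) (ev (dil (Q := Q) lam⁻¹) z) = z
      rw [dil_apply, dil_apply, Units.val_inv_eq_inv_val]
      simp))
  have e : dil (Q := Q) (lam * lam) = ⁅dil (Q := Q) lam, f⁆ := by
    rw [commutatorElement_def, hfi, hinv, mul_assoc (dil lam), mul_assoc (dil lam), hfd, inv_inv]
    refine Subtype.ext (LinearEquiv.ext fun z => ?_)
    show ev (dil (Q := Q) (lam * lam)) z = ev (dil (Q := Q) lam) (ev (dil (Q := Q) lam) z)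
    simp [dil_apply, mul_assoc, mul_comm, mul_left_comm]
  rw [e]
  exact Subgroup.commutator_mem_commutator (Subgroup.mem_top _) (Subgroup.mem_top _)

theorem xo_eq_commutator (a : A) : ∃ b, xo hQ a = ⁅dil (Q := Q) (lam * lam), xo hQ b⁆ := by
  have hν : ((lam * lam : Fˣ) : F) - 1 ≠ 0 := sub_ne_zero.2 (by simpa using hl)
  refine ⟨(((lam * lam : Fˣ) : F) - 1)⁻¹ • a, ?_⟩
  rw [commutatorElement_def, dil_conj_xo, eq_mul_inv_iff_mul_eq, xo, xo, xo, eich_mul]
  refine eich_congr _ rfl (Prod.ext (by simp) (Prod.ext (by simp) ?_))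
  show a + (((lam * lam : Fˣ) : F) - 1)⁻¹ • a =
    ((lam * lam : Fˣ) : F) • ((((lam * lam : Fˣ) : F) - 1)⁻¹ • a)
  set ν : F := ((lam * lam : Fˣ) : F)
  match_scalars
  field_simp
  ring

theorem xo_mem' (a : A) : xo hQ a ∈ commutator (OQ (hyp Q)) := by
  obtain ⟨b, hb⟩ := xo_eq_commutator hQ lam hl a
  rw [hb]
  exact Subgroup.commutator_mem_commutator (Subgroup.mem_top _) (Subgroup.mem_top _)

/-- The Eichler maps lie in the derived inner group. -/
theorem xo_mem_derived (a : A) :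
    (⟨xo hQ a, xo_mem' hQ lam hl a⟩ : Om Q) ∈ commutator (Om Q) := by
  obtain ⟨b, hb⟩ := xo_eq_commutator hQ lam hl a
  have : (⟨xo hQ a, xo_mem' hQ lam hl a⟩ : Om Q) =
      ⁅(⟨dil (Q := Q) (lam * lam), dil_sq_mem hQ lam hl⟩ : Om Q), ⟨xo hQ b, xo_mem' hQ lam hl b⟩⁆ :=
    Subtype.ext hb
  rw [this]
  exact Subgroup.commutator_mem_commutator (Subgroup.mem_top _) (Subgroup.mem_top _)

/-- A square dilation is in the derived group. -/
theorem exists_dil_derived {c : A} (hc : Q c ≠ 0) : ∃ g ∈ Jsub Q,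
    ∀ z, app g z = (((lam * lam : Fˣ) : F) * z.1, ((lam * lam : Fˣ) : F)⁻¹ * z.2.1, z.2.2) := by
  obtain ⟨f, hfi, hf, -⟩ := exists_flip hQ lam hl
  set k := Q c with hk
  let X : F → Om Q := fun x => ⟨xo hQ (x • c), xo_mem' hQ lam hl _⟩
  let Y : F → Om Q := fun y => conjOm f (X y)
  have hX : ∀ x, X x ∈ commutator (Om Q) := fun x => xo_mem_derived hQ lam hl _
  have hY : ∀ x, Y x ∈ commutator (Om Q) := fun x => conjOm_commutator f (hX x)
  have haX : ∀ x z, app (X x) z = (z.1 + (x * polar Q z.2.2 c - x * x * k * z.2.1), z.2.1,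
      z.2.2 + (-z.2.1) • (x • c)) := fun x z => by
    show ev (xo hQ (x • c)) z = _
    rw [xo_apply, polar_smul_right', apply_smul]
  have haY : ∀ x z, app (Y x) z = (z.1, z.2.1 + (x * polar Q z.2.2 c - x * x * k * z.1),
      z.2.2 + (-z.1) • (x • c)) := fun x z => by
    show ev (f * xo hQ (x • c) * f⁻¹) z = _
    rw [hfi]
    show ev f (ev (xo hQ (x • c)) (ev f z)) = _
    rw [hf, xo_apply, polar_smul_right', apply_smul, hf]
  let W : F → Om Q := fun x => X x * Y (k * x)⁻¹ * X x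
  have hW : ∀ x, x ≠ 0 → ∀ z, app (W x) z =
      (-(k * x * x) * z.2.1, -(k * x * x)⁻¹ * z.1, z.2.2 - ((polar Q z.2.2 c) / k) • c) := by
    intro x hx z
    show app (X x * Y (k * x)⁻¹ * X x) z = _
    rw [app_mul, app_mul, haX x z, haY, haX]
    simp only [polar_add_left', polar_smul_left', polar_self', ← hk]
    refine Prod.ext ?_ (Prod.ext ?_ ?_)
    · field_simp
      ring
    · field_simp
      ring
    · match_scalars <;> field_simp <;> ring
  have hl0 : (lam : F) ≠ 0 := lam.ne_zero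
  have h : ∀ z, app (W lam * W 1) z =
      (((lam * lam : Fˣ) : F) * z.1, ((lam * lam : Fˣ) : F)⁻¹ * z.2.1, z.2.2) := fun z => by
    rw [app_mul, hW 1 one_ne_zero, hW _ hl0]
    simp only [polar_self', sub_eq_add_neg, ← neg_smul, polar_add_left', polar_smul_left', ← hk,
      Units.val_mul]
    refine Prod.ext ?_ (Prod.ext ?_ ?_)
    · field_simp
    · field_simp
    · match_scalars <;> field_simp <;> ring
  refine ⟨W lam * W 1, ⟨mul_mem (mul_mem (mul_mem (hX _) (hY _)) (hX _))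
    (mul_mem (mul_mem (hX _) (hY _)) (hX _)), ((lam * lam : Fˣ) : F), ?_⟩, h⟩
  rw [h]
  simp

/-- In dimension three and more the inner group is perfect. -/
theorem derived_eq_top [Fintype F] [Fintype A] (h3 : 3 ≤ finrank F A) : commutator (Om Q) = ⊤ :=
  eq_top_of_xel_mem hQ h3 _ fun a => xo_mem_derived hQ lam hl a

end CfsgLib.OrthDeg.Odd
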