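import Cfsg.Agent.Lib.Geo.OrthMinDeg.OddInner
import Cfsg.Agent.Lib.Geo.OrthMinDeg.Fixers

/-!
# The weight lines in the span of the second and third vectors

Owner: helper23. For a representation with singular weights only, each once, the scalars of the
torus and of the radical on these lines.
-/

set_option autoImplicit false
set_option maxHeartbeats 1000000

namespace CfsgLib.OrthDeg.Odd

open Module CfsgLib.Classical.Quad CfsgLib.SLMinDeg
open QuadraticMap (polar polarBilin)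
open scoped commutatorElement

variable {F : Type*} [Field F] [Fintype F] [DecidableEq F] {A : Type*} [AddCommGroup A]
  [Module F A] [FiniteDimensional F A] [Fintype A] [DecidableEq A] {Q : QuadraticForm F A}

/-- The frame data: odd dimension and a generator of the units. -/
structure Frame (Q : QuadraticForm F A) : Prop where
  nd : (polarBilin Q).Nondegenerate
  dim : Odd (finrank F A)
  odd : Odd (Fintype.card F)
  five : 5 ≤ Fintype.card F

namespace Frame

theorem one_le (fr : Frame Q) : 1 ≤ finrank F A := fr.dim.pos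

theorem exists_gen (fr : Frame Q) : ∃ l : Fˣ, ∀ i : ℕ, (l : F) ^ i = 1 → Fintype.card F - 1 ∣ i := by
  obtain ⟨l, hl⟩ := IsCyclic.exists_generator (α := Fˣ)
  refine ⟨l, fun i hi => ?_⟩
  have h1 : l ^ i = 1 := Units.ext (by simpa using hi)
  have := orderOf_dvd_of_pow_eq_one h1
  rwa [orderOf_eq_card_of_forall_mem_zpowers hl, Nat.card_units, Nat.card_eq_fintype_card] at this

/-- A generator of the units. -/
noncomputable def lam (fr : Frame Q) : Fˣ := fr.exists_gen.choose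

theorem lam_sq (fr : Frame Q) : (fr.lam : F) * fr.lam ≠ 1 := fun h => by
  have := Nat.le_of_dvd (by norm_num) (fr.exists_gen.choose_spec 2 (by rw [pow_two]; exact h))
  have := fr.five
  omega

theorem lam_ne_one (fr : Frame Q) : (fr.lam : F) ≠ 1 := fun h => fr.lam_sq (by rw [h, one_mul])

theorem hmu (fr : Frame Q) : ∃ μ : Fˣ, (μ : F) ≠ 1 := ⟨fr.lam, fr.lam_ne_one⟩

end Frame

variable (fr : Frame Q) {V : Type*} [AddCommGroup V] [Module ℂ V]
  (ρ : Representation ℂ (Om (q2 Q)) V)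

/-- The projection on a weight space. -/
noncomputable abbrev EE (w : U2 F A) : Module.End ℂ V :=
  E (q2_nondeg fr.nd) (three_le_U2 fr.nd fr.one_le) ρ w

/-- The multiplicity of a weight. -/
noncomputable abbrev mm (w : U2 F A) : ℕ :=
  mult (q2_nondeg fr.nd) (three_le_U2 fr.nd fr.one_le) ρ w

/-- An element of the first radical. -/
noncomputable abbrev Xe (a : U2 F A) : Om (q2 Q) :=
  xel (q2_nondeg fr.nd) (three_le_U2 fr.nd fr.one_le) a

/-- Only singular weights, each once. -/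
def Pure : Prop := ∀ w : U2 F A, w ≠ 0 → mm fr ρ w = if q2 Q w = 0 then 1 else 0

/-- The average over the radical. -/
noncomputable abbrev PR : Module.End ℂ V := avg ρ (R3 fr.nd fr.one_le)

/-- An element permuting the weights. -/
def Moves (g : Om (q2 Q)) (τ : U2 F A → U2 F A) : Prop :=
  ∀ w, ρ g * EE fr ρ w = EE fr ρ (τ w) * ρ g

theorem moves_lev (h : commutator (OQ (q2 Q))) :
    Moves fr ρ (lev h) fun w => ((h : OQ (q2 Q)) : U2 F A ≃ₗ[F] U2 F A) w :=
  lev_mul_E _ _ ρ h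

theorem moves_xel (b : U2 F A) : Moves fr ρ (Xe fr b) id := fun w =>
  mul_E _ _ ρ (Xe fr b) id id Function.bijective_id
    (fun a => by rw [id, ← xel_add, ← xel_add, add_comm]) (fun _ _ => rfl) w

/-- The weights moved by a diagonal matrix. -/
def dgTau (a b c : Fˣ) (w : U2 F A) : U2 F A :=
  (a : F)⁻¹ • (((b : F) * w.1, (b : F)⁻¹ * w.2.1, ((c : F) * w.2.2.1, (c : F)⁻¹ * w.2.2.2.1,
    w.2.2.2.2)) : U2 F A)

theorem moves_dg {a b c : Fˣ} (hd : dg a b c ∈ SG fr.nd) :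
    Moves fr ρ (el fr.nd (dg a b c)) (dgTau a b c) := fun w => by
  refine mul_E _ _ ρ _ (fun v : U2 F A => (a : F) • (((b : F) * v.1, (b : F)⁻¹ * v.2.1,
    ((c : F) * v.2.2.1, (c : F)⁻¹ * v.2.2.2.1, v.2.2.2.2)) : U2 F A)) (dgTau a b c) ?_
    (dg_xel fr.nd fr.one_le hd) (fun v u => ?_) w
  · refine Finite.injective_iff_bijective.1 fun v u h => ?_
    simp [Prod.ext_iff] at h
    obtain ⟨h1, h2, h3, h4, h5⟩ := h
    exact Prod.ext h1 (Prod.ext h2 (Prod.ext h3 (Prod.ext h4 h5)))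
  · simp [dgTau, polar_hyp, polar_smul_left', polar_smul_right']
    field_simp

theorem apply_mem_line {g : Om (q2 Q)} {τ : U2 F A → U2 F A} (hg : Moves fr ρ g τ) {w : U2 F A}
    {v : V} (hv : v ∈ LinearMap.range (EE fr ρ w)) :
    ρ g v ∈ LinearMap.range (EE fr ρ (τ w)) := by
  obtain ⟨u, rfl⟩ := hv
  exact ⟨_, (LinearMap.congr_fun (hg w) u).symm⟩

theorem EE_apply_of_mem {w : U2 F A} {v : V} (hv : v ∈ LinearMap.range (EE fr ρ w)) :
    EE fr ρ w v = v := by
  obtain ⟨u, rfl⟩ := hv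
  exact LinearMap.congr_fun (E_idem _ _ ρ w) u

theorem apply_of_apply_apply {g : Om (q2 Q)} {v : V} : ρ g⁻¹ (ρ g v) = v := by
  rw [← Module.End.mul_apply, ← map_mul, inv_mul_cancel, map_one, Module.End.one_apply]

theorem surj_line {g : Om (q2 Q)} {τ : U2 F A → U2 F A} (hg : Moves fr ρ g τ) {w : U2 F A}
    {v : V} (hv : v ∈ LinearMap.range (EE fr ρ (τ w))) :
    ρ g⁻¹ v ∈ LinearMap.range (EE fr ρ w) := by
  refine ⟨ρ g⁻¹ v, ?_⟩
  have h : ρ g (EE fr ρ w (ρ g⁻¹ v)) = ρ g (ρ g⁻¹ v) := by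
    have h1 := LinearMap.congr_fun (hg w) (ρ g⁻¹ v)
    rw [Module.End.mul_apply, Module.End.mul_apply, ← Module.End.mul_apply (ρ g) (ρ g⁻¹),
      ← map_mul, mul_inv_cancel, map_one, Module.End.one_apply, EE_apply_of_mem fr ρ hv] at h1
    rw [h1, ← Module.End.mul_apply (ρ g) (ρ g⁻¹), ← map_mul, mul_inv_cancel, map_one,
      Module.End.one_apply]
  have := congrArg (ρ g⁻¹) h
  rwa [apply_of_apply_apply, apply_of_apply_apply] at this

/-- A scalar on one line is the scalar on the lines it is moved to. -/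
theorem scalar_transport {g k : Om (q2 Q)} {τ : U2 F A → U2 F A} (hk : Moves fr ρ k τ)
    {w : U2 F A} {c : ℂ} {g' : Om (q2 Q)} (hgk : g * k = k * g')
    (h : ∀ v ∈ LinearMap.range (EE fr ρ w), ρ g' v = c • v) :
    ∀ v ∈ LinearMap.range (EE fr ρ (τ w)), ρ g v = c • v := by
  intro v hv
  have h1 := h _ (surj_line fr ρ hk hv)
  have h2 := congrArg (ρ k) h1
  rw [map_smul, ← Module.End.mul_apply (ρ k) (ρ g'), ← map_mul, ← hgk, map_mul,
    Module.End.mul_apply, ← Module.End.mul_apply (ρ k) (ρ k⁻¹), ← map_mul, mul_inv_cancel,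
    map_one, Module.End.one_apply] at h2
  exact h2

theorem chi0_eq_one {c : F} (h : ∀ ξ, chi0 F (ξ * c) = 1) : c = 0 := by
  by_contra hc
  have := h c⁻¹
  rw [inv_mul_cancel₀ hc] at this
  exact chi0_one this

theorem psi_p' (w : U2 F A) (ξ : F) :
    psi (q2 Q) w ((0, ξ, (0, 0, 0)) : U2 F A) = chi0 F (ξ * w.1) := by
  simp [psi, polar_hyp, mul_comm]

/-- The eigenspace of the first root group. -/
noncomputable def SS : Submodule ℂ V :=
  ⨅ ξ : F, LinearMap.ker (ρ (Xe fr ((0, ξ, (0, 0, 0)) : U2 F A)) - chi0 F ξ • 1)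

theorem mem_SS {v : V} :
    v ∈ SS fr ρ ↔ ∀ ξ, ρ (Xe fr ((0, ξ, (0, 0, 0)) : U2 F A)) v = chi0 F ξ • v := by
  simp [SS, sub_eq_zero]

/-- The singular weights with first coordinate one. -/
def wS (Q : QuadraticForm F A) (u : F × F × A) : U2 F A := (1, -(hyp Q u), -u)

theorem wS_singular (u : F × F × A) : q2 Q (wS Q u) = 0 := by
  show (1 : F) * -(hyp Q u) + hyp Q (-u) = 0
  rw [QuadraticMap.map_neg]
  ring

theorem wS_ne (u : F × F × A) : wS Q u ≠ 0 := fun h => one_ne_zero (congrArg Prod.fst h)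

theorem wS_injective : Function.Injective (wS Q) := fun u v h =>
  neg_injective (congrArg (fun z : U2 F A => z.2.2) h)

theorem wS_zero : wS Q 0 = vP F A := by simp [wS, Prod.ext_iff]

include fr in
theorem q2_vP' : q2 Q (vP' F A) = 0 := by simp [hyp_apply]

include fr in
theorem polar_vP' (u : F × F × A) : polar (q2 Q) (vP' F A) ((0, 0, u) : U2 F A) = 0 := by
  simp [polar_hyp]

/-- The elements moving the first weight. -/
noncomputable def yS (u : F × F × A) : commutator (OQ (q2 Q)) :=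
  eU fr.nd fr.one_le (q2_vP' fr) (polar_vP' fr u)

theorem yS_apply (u : F × F × A) (z : U2 F A) :
    ((yS fr u : OQ (q2 Q)) : U2 F A ≃ₗ[F] U2 F A) z =
      (z.1, z.2.1 + (polar (hyp Q) z.2.2 u - hyp Q u * z.1), z.2.2 + (-z.1) • u) := by
  show (eich (q2_nondeg fr.nd) (q2_vP' fr) (polar_vP' fr u) : U2 F A ≃ₗ[F] U2 F A) z = _
  rw [eich_apply]
  refine Prod.ext ?_ (Prod.ext ?_ ?_) <;> simp [polar_hyp, hyp_apply]

theorem yS_vP (u : F × F × A) :
    ((yS fr u : OQ (q2 Q)) : U2 F A ≃ₗ[F] U2 F A) (vP F A) = wS Q u := by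
  rw [yS_apply]
  simp [wS, Prod.ext_iff]

variable [FiniteDimensional ℂ V]

/-- The flip of the second plane. -/
theorem exists_flipP : ∃ s : OQ (hyp (q2 Q)), s⁻¹ = s ∧
    ∀ z, ev s z = (z.1, z.2.1, (z.2.2.2.1, z.2.2.1, z.2.2.2.2)) := by
  let e : (VV F A) ≃ₗ[F] VV F A :=
    { toFun := fun z => (z.1, z.2.1, (z.2.2.2.1, z.2.2.1, z.2.2.2.2))
      invFun := fun z => (z.1, z.2.1, (z.2.2.2.1, z.2.2.1, z.2.2.2.2))
      left_inv := fun _ => rfl
      right_inv := fun _ => rfl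
      map_add' := fun _ _ => rfl
      map_smul' := fun _ _ => rfl }
  refine ⟨⟨e, fun z _ => ?_⟩, inv_eq_of_mul_eq_one_right (Subtype.ext (LinearEquiv.ext fun z => rfl)),
    fun z => rfl⟩
  show z.1 * z.2.1 + (z.2.2.2.1 * z.2.2.1 + hyp Q z.2.2.2.2) =
    z.1 * z.2.1 + (z.2.2.1 * z.2.2.2.1 + hyp Q z.2.2.2.2)
  ring

theorem dg_lam_mem {a b c : Fˣ} (h : IsSquare (a * b * c)) : dg a b c ∈ SG fr.nd :=
  dg_mem fr.nd fr.hmu a b c h

/-- The first torus element. -/
noncomputable def t12 : Om (q2 Q) := el fr.nd (dg fr.lam fr.lam 1)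

theorem t12_mem : dg fr.lam fr.lam (1 : Fˣ) ∈ SG fr.nd :=
  dg_lam_mem fr ⟨fr.lam, by rw [mul_one]⟩

variable (hpure : Pure fr ρ)
include hpure

theorem EE_eq_zero {w : U2 F A} (hw : w ≠ 0) (hs : q2 Q w ≠ 0) : EE fr ρ w = 0 :=
  E_eq_zero _ _ ρ (by
    show mm fr ρ w = 0
    rw [hpure w hw, if_neg hs])

theorem line_eq_one {w : U2 F A} (hw : w ≠ 0) (hs : q2 Q w = 0) : mm fr ρ w = 1 := by
  rw [hpure w hw, if_pos hs]

/-- Scalars exist on lines. -/
theorem exists_scalar {g : Om (q2 Q)} {τ : U2 F A → U2 F A} (hg : Moves fr ρ g τ) {w : U2 F A}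
    (hτ : τ w = w) (hw : w ≠ 0) (hs : q2 Q w = 0) :
    ∃ c : ℂ, c ≠ 0 ∧ ∀ v ∈ LinearMap.range (EE fr ρ w), ρ g v = c • v := by
  obtain ⟨v₀, hv₀, hspan⟩ := finrank_eq_one_iff'.1 (line_eq_one fr ρ hpure hw hs)
  have hmem := apply_mem_line fr ρ hg v₀.2
  rw [hτ] at hmem
  obtain ⟨c, hc⟩ := hspan ⟨_, hmem⟩
  have hc' : c • (v₀ : V) = ρ g v₀ := congrArg Subtype.val hc
  refine ⟨c, fun h0 => hv₀ (Subtype.ext ?_), fun v hv => ?_⟩
  · rw [h0, zero_smul] at hc'
    have := congrArg (ρ g⁻¹) hc'.symm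
    rwa [apply_of_apply_apply, map_zero] at this
  · obtain ⟨d, hd⟩ := hspan ⟨v, hv⟩
    have hd' : d • (v₀ : V) = v := congrArg Subtype.val hd
    rw [← hd', map_smul, ← hc', smul_comm]

/-- A basis of the eigenspace. -/
theorem exists_basis {v₀ : V} (hv0 : v₀ ∈ LinearMap.range (EE fr ρ (vP F A))) (hv₀' : v₀ ≠ 0) :
    ∃ B : Basis (F × F × A) ℂ (SS fr ρ), ∀ u, (B u : V) = ρ (lev (yS fr u)) v₀ := by
  classical
  let b : F × F × A → V := fun u => ρ (lev (yS fr u)) v₀
  have hbmem : ∀ u, b u ∈ LinearMap.range (EE fr ρ (wS Q u)) := fun u => by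
    have := apply_mem_line fr ρ (moves_lev fr ρ (yS fr u)) hv0
    rwa [yS_vP] at this
  have hbne : ∀ u, b u ≠ 0 := fun u h => hv₀' (by
    have := congrArg (ρ (lev (yS fr u))⁻¹) h
    rwa [apply_of_apply_apply, map_zero] at this)
  have hbS : ∀ u, b u ∈ SS fr ρ := fun u => by
    rw [mem_SS]
    intro ξ
    rw [← EE_apply_of_mem fr ρ (hbmem u), ← Module.End.mul_apply, xel_mul_E, psi_p',
      LinearMap.smul_apply]
    simp [wS]
  have hind : LinearIndependent ℂ b := by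
    rw [Fintype.linearIndependent_iff]
    intro g hg u
    have h := congrArg (EE fr ρ (wS Q u)) hg
    rw [map_sum, map_zero, Finset.sum_eq_single u (fun u' _ hu' => by
      rw [map_smul, ← EE_apply_of_mem fr ρ (hbmem u'), ← Module.End.mul_apply,
        E_orth _ _ ρ fun e => hu' (wS_injective e).symm, LinearMap.zero_apply, smul_zero]) (by simp),
      map_smul, EE_apply_of_mem fr ρ (hbmem u), smul_eq_zero] at h
    exact h.resolve_right (hbne u)
  have hsp : SS fr ρ ≤ Submodule.span ℂ (Set.range b) := by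
    intro v hv
    rw [mem_SS] at hv
    have h1 : v = ∑ w, EE fr ρ w v := by
      rw [← LinearMap.sum_apply, sum_E, Module.End.one_apply]
    rw [h1]
    refine Submodule.sum_mem _ fun w _ => ?_
    by_cases h0 : EE fr ρ w v = 0
    · rw [h0]; exact zero_mem _
    have hw1 : w.1 = 1 := by
      refine sub_eq_zero.1 (chi0_eq_one fun ξ => ?_)
      have h2 : ρ (Xe fr ((0, ξ, (0, 0, 0)) : U2 F A)) (EE fr ρ w v) =
          chi0 F ξ • EE fr ρ w v := by
        rw [← Module.End.mul_apply, moves_xel fr ρ _ w, Module.End.mul_apply, hv, map_smul]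
        rfl
      rw [← Module.End.mul_apply, xel_mul_E, psi_p', LinearMap.smul_apply] at h2
      have h3 := smul_left_injective ℂ h0 h2
      rw [mul_sub, mul_one, sub_eq_add_neg, AddChar.map_add_eq_mul]
      rw [show chi0 F (ξ * w.1) = chi0 F ξ from h3, ← AddChar.map_add_eq_mul, add_neg_cancel, AddChar.map_zero_eq_one]
    have hw0 : w ≠ 0 := fun h => by rw [h] at hw1; exact zero_ne_one hw1
    by_cases hs : q2 Q w = 0
    · obtain ⟨w1, w2, u⟩ := w
      simp only at hw1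
      subst hw1
      have hw2 : w2 = -(hyp Q u) := by
        rw [q2, hyp_apply] at hs
        linear_combination hs
      have e : wS Q (-u) = ((1, w2, u) : U2 F A) := by simp [wS, hw2]
      obtain ⟨c, hc⟩ := (finrank_eq_one_iff_of_nonzero' (⟨b (-u), e ▸ hbmem (-u)⟩ :
        LinearMap.range (EE fr ρ ((1, w2, u) : U2 F A))) (fun h => hbne (-u) (congrArg Subtype.val h))).1
        (line_eq_one fr ρ hpure hw0 (by rw [q2, hyp_apply, hw2]; ring)) ⟨_, LinearMap.mem_range_self _ v⟩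
      have hc' : c • b (-u) = EE fr ρ ((1, w2, u) : U2 F A) v := congrArg Subtype.val hc
      rw [← hc']
      exact Submodule.smul_mem _ _ (Submodule.subset_span ⟨_, rfl⟩)
    · rw [EE_eq_zero fr ρ hpure hw0 hs, LinearMap.zero_apply]
      exact zero_mem _
  exact ⟨Basis.mk (v := fun u => (⟨b u, hbS u⟩ : SS fr ρ))
    (LinearIndependent.of_comp (SS fr ρ).subtype hind)
    (fun x _ => by
      refine (Submodule.apply_mem_span_image_iff_mem_span (SS fr ρ).injective_subtype).1 ?_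
      rw [← Set.range_comp]
      exact hsp x.2), fun u => by rw [Basis.mk_apply]⟩

omit hpure [FiniteDimensional ℂ V] in
/-- The torus element is a product of commutators in the centraliser of the root group. -/
theorem t12_mem_derived :
    ∃ h : Subgroup.centralizer (Set.range fun ξ : F => Xe fr ((0, ξ, (0, 0, 0)) : U2 F A)),
      (h : Om (q2 Q)) = t12 fr ∧ h ∈ commutator _ := by
  classical
  set Cn : Subgroup (Om (q2 Q)) :=
    Subgroup.centralizer (Set.range fun ξ : F => Xe fr ((0, ξ, (0, 0, 0)) : U2 F A)) with hCn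
  obtain ⟨s, hsi, hs⟩ := exists_flipP (Q := Q)
  let cS : Om (q2 Q) →* Om (q2 Q) := conjOm (Q := q2 Q) s
  have hcS : ∀ g z, app (cS g) z = ev s (app g (ev s z)) := fun g z => by
    show ev (s * (g : OQ (hyp (q2 Q))) * s⁻¹) z = _
    rw [hsi]
    rfl
  have hXe : ∀ η, cS (Xe fr ((η, 0, (0, 0, 0)) : U2 F A)) = Xe fr ((0, η, (0, 0, 0)) : U2 F A) :=
    fun η => ext_app fun z => by
      rw [hcS, app_xel, app_xel, hs, hs]
      simp [polar_hyp, hyp_apply, Prod.ext_iff, mul_comm]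
  have hm := fr.hmu
  have hc12 : dg fr.lam fr.lam⁻¹ (1 : Fˣ) ∈ SG fr.nd := dg_lam_mem fr ⟨1, by simp⟩
  have hcen : ∀ g : GL (Fin 3) F, g ∈ SG fr.nd →
      (∀ η, el fr.nd g * Xe fr ((η, 0, (0, 0, 0)) : U2 F A) =
        Xe fr ((η, 0, (0, 0, 0)) : U2 F A) * el fr.nd g) → cS (el fr.nd g) ∈ Cn := by
    intro g _ hg
    rw [Subgroup.mem_centralizer_iff]
    rintro _ ⟨ξ, rfl⟩
    show Xe fr ((0, ξ, (0, 0, 0)) : U2 F A) * _ = _ * Xe fr ((0, ξ, (0, 0, 0)) : U2 F A)
    rw [← hXe, ← map_mul, ← hg, map_mul]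
  have hd : cS (el fr.nd (dg fr.lam fr.lam⁻¹ 1)) ∈ Cn := hcen _ hc12 fun η => by
    rw [dg_xel fr.nd fr.one_le hc12]
    congr 2
    simp [Prod.ext_iff]
  have h01' : ∀ c, cS (el fr.nd (tv 0 1 h01 c)) ∈ Cn := fun c =>
    hcen _ (tv_mem fr.nd hm _ _ _ _) fun η => by
      rw [el_tv01 fr.nd fr.one_le hm, ← xel_add, ← xel_add, add_comm]
  have h10' : ∀ c, cS (el fr.nd (tv 1 0 h01.symm c)) ∈ Cn := fun c =>
    hcen _ (tv_mem fr.nd hm _ _ _ _) fun η => ext_app fun z => by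
      rw [app_mul, app_mul, app_el fr.nd (tv_mem fr.nd hm _ _ _ _),
        app_el fr.nd (tv_mem fr.nd hm _ _ _ _), app_xel, app_xel, glMap_apply, glMap_apply,
        coe_tv, coe_tv_inv]
      simp [Matrix.transvection, Matrix.single_apply, polar_hyp, hyp_apply, Prod.ext_iff]
      (repeat' apply And.intro) <;> ring
  have hone : ∀ (i j : Fin 3) (hij : i ≠ j) (hmem : ∀ c, cS (el fr.nd (tv i j hij c)) ∈ Cn),
      (i = 0 ∧ j = 1 ∨ i = 1 ∧ j = 0) → ∀ c, (⟨_, hmem c⟩ : Cn) ∈ commutator Cn := by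
    intro i j hij hmem hij' c
    set a : Fin 3 → Fˣ := ![fr.lam, fr.lam⁻¹, 1] with ha
    have hne : (a i : F) * (a j : F)⁻¹ - 1 ≠ 0 := by
      refine sub_ne_zero.2 fun h => fr.lam_sq ?_
      rcases hij' with ⟨rfl, rfl⟩ | ⟨rfl, rfl⟩ <;> simp [a] at h
      · exact h
      · have := congrArg (fun x => x⁻¹) h
        simpa [mul_comm] using this
    have e : tv i j hij c =
        ⁅dg (a 0) (a 1) (a 2), tv i j hij (c / ((a i : F) * (a j : F)⁻¹ - 1))⁆ := by
      rw [commutatorElement_def, dg_tv, mul_inv_cancel_right, eq_mul_inv_iff_mul_eq, ← tv_add]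
      congr 1
      rw [mul_right_comm]
      generalize (a i : F) * (a j : F)⁻¹ = r at hne ⊢
      field_simp
      ring
    have e' : (⟨_, hmem c⟩ : Cn) = ⁅(⟨_, hd⟩ : Cn), ⟨_, hmem (c / ((a i : F) * (a j : F)⁻¹ - 1))⟩⁆ := by
      refine Subtype.ext ?_
      show cS _ = ⁅cS _, cS _⁆
      rw [← map_commutatorElement]
      refine congrArg cS ?_
      rw [el_of_mem fr.nd (tv_mem fr.nd hm _ _ _ _), el_of_mem fr.nd hc12,
        el_of_mem fr.nd (tv_mem fr.nd hm _ _ _ _), ← map_commutatorElement]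
      exact congrArg (em fr.nd) (Subtype.ext e)
    rw [e']
    exact Subgroup.commutator_mem_commutator (Subgroup.mem_top _) (Subgroup.mem_top _)
  have heq : dg fr.lam fr.lam⁻¹ (1 : Fˣ) = tv 0 1 h01 (fr.lam : F) * tv 1 0 h01.symm (-(fr.lam : F)⁻¹) *
      tv 0 1 h01 ((fr.lam : F) - 1) * tv 1 0 h01.symm 1 * tv 0 1 h01 (-1) := by
    refine Units.ext ?_
    simp only [Units.val_mul, coe_dg, coe_tv]
    ext i j
    fin_cases i <;> fin_cases j <;>
      simp [Matrix.transvection, Matrix.mul_apply, Matrix.single_apply, Fin.sum_univ_three] <;>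
      field_simp <;> ring
  have ht12 : t12 fr = cS (el fr.nd (dg fr.lam fr.lam⁻¹ 1)) := ext_app fun z => by
    rw [hcS, t12, app_el fr.nd (t12_mem fr), app_el fr.nd hc12, hs, hs, glMap_apply, glMap_apply,
      coe_dg, coe_dg_inv, coe_dg, coe_dg_inv]
    simp [Prod.ext_iff, mul_comm]
  have hm' := tv_mem fr.nd hm
  refine ⟨⟨_, h01' fr.lam⟩ * ⟨_, h10' (-(fr.lam : F)⁻¹)⟩ *
    ⟨_, h01' ((fr.lam : F) - 1)⟩ * ⟨_, h10' 1⟩ * ⟨_, h01' (-1)⟩, ?_, ?_⟩
  · rw [ht12]
    simp only [Subgroup.coe_mul]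
    rw [← map_mul, ← map_mul, ← map_mul, ← map_mul]
    refine congrArg cS ?_
    rw [el_of_mem fr.nd hc12, el_of_mem fr.nd (hm' 0 1 h01 (fr.lam : F)),
      el_of_mem fr.nd (hm' 1 0 h01.symm (-(fr.lam : F)⁻¹)),
      el_of_mem fr.nd (hm' 0 1 h01 ((fr.lam : F) - 1)), el_of_mem fr.nd (hm' 1 0 h01.symm 1),
      el_of_mem fr.nd (hm' 0 1 h01 (-1)), ← map_mul, ← map_mul, ← map_mul, ← map_mul]
    exact congrArg (em fr.nd) (Subtype.ext heq.symm)
  · exact mul_mem (mul_mem (mul_mem (mul_mem (hone 0 1 h01 h01' (Or.inl ⟨rfl, rfl⟩) _)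
      (hone 1 0 h01.symm h10' (Or.inr ⟨rfl, rfl⟩) _)) (hone 0 1 h01 h01' (Or.inl ⟨rfl, rfl⟩) _))
      (hone 1 0 h01.symm h10' (Or.inr ⟨rfl, rfl⟩) _)) (hone 0 1 h01 h01' (Or.inl ⟨rfl, rfl⟩) _)

omit hpure [FiniteDimensional ℂ V] in
theorem t12_yS (u : F × F × A) :
    t12 fr * lev (yS fr u) = lev (yS fr ((fr.lam⁻¹ : Fˣ) • u)) * t12 fr := by
  refine ext_app fun z => ?_
  rw [app_mul, app_mul, t12, app_el fr.nd (t12_mem fr), app_el fr.nd (t12_mem fr), lev_apply,
    lev_apply, yS_apply, yS_apply, glMap_apply, glMap_apply, coe_dg, coe_dg_inv]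
  simp [Units.smul_def, polar_hyp, polar_smul_right', hyp_apply, apply_smul, Prod.ext_iff,
    smul_smul]
  have e : ∀ x : F, (fr.lam : F) * x * (fr.lam : F)⁻¹ = x := fun x => by field_simp
  simp only [e]
  refine ⟨?_, Or.inl trivial, Or.inl trivial, trivial⟩
  field_simp


omit hpure [FiniteDimensional ℂ V] in
theorem t12_pow : t12 fr ^ (Fintype.card F - 1) = 1 := by
  rw [t12, el_of_mem fr.nd (t12_mem fr), ← map_pow]
  refine (congrArg (em fr.nd) (Subtype.ext ?_)).trans (map_one _)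
  show (dg fr.lam fr.lam (1 : Fˣ)) ^ (Fintype.card F - 1) = 1
  refine Units.ext ?_
  rw [Units.val_pow_eq_pow_val, coe_dg, Matrix.diagonal_pow]
  refine (congrArg Matrix.diagonal ?_).trans Matrix.diagonal_one
  funext i
  fin_cases i <;> simp [FiniteField.pow_card_sub_one_eq_one]

/-- The torus acts by minus one on the line of the second vector. -/
theorem t12_line_one : ∀ v ∈ LinearMap.range (EE fr ρ (vP F A)), ρ (t12 fr) v = -v := by
  classical
  have hP0 : (vP F A) ≠ 0 := by simp [Prod.ext_iff]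
  obtain ⟨v₀, hv₀, hspan⟩ :=
    finrank_eq_one_iff'.1 (line_eq_one fr ρ hpure hP0 q2_vP)
  obtain ⟨ν, hν0, hν⟩ := exists_scalar fr ρ hpure (moves_dg fr ρ (t12_mem fr)) (w := vP F A)
    (by simp [dgTau, Prod.ext_iff]) hP0 q2_vP
  change ∀ v ∈ LinearMap.range (EE fr ρ (vP F A)), ρ (t12 fr) v = ν • v at hν
  have hv0' : (v₀ : V) ≠ 0 := fun h => hv₀ (Subtype.ext h)
  obtain ⟨B, hB⟩ := exists_basis fr ρ hpure v₀.2 hv0'
  set Cn : Subgroup (Om (q2 Q)) :=
    Subgroup.centralizer (Set.range fun ξ : F => Xe fr ((0, ξ, (0, 0, 0)) : U2 F A)) with hCn'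
  obtain ⟨h, hh, hhd⟩ := t12_mem_derived fr
  have hCn : ∀ (g : Cn) (v : V), v ∈ SS fr ρ → ρ g v ∈ SS fr ρ := fun g v hv => by
    rw [mem_SS] at hv ⊢
    intro ξ
    rw [← Module.End.mul_apply, ← map_mul, Subgroup.mem_centralizer_iff.1 g.2 _ ⟨ξ, rfl⟩, map_mul,
      Module.End.mul_apply, hv, map_smul]
  let σ : Cn →* Module.End ℂ (SS fr ρ) :=
    { toFun := fun g => (ρ g).restrict (hCn g)
      map_one' := LinearMap.ext fun v => Subtype.ext (by simp)
      map_mul' := fun g h => LinearMap.ext fun v => Subtype.ext (by simp) }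
  let dh : Cn →* ℂˣ := ((LinearMap.det : Module.End ℂ (SS fr ρ) →* ℂ).comp σ).toHomUnits
  have hdet : dh h = 1 := Abelianization.commutator_subset_ker dh hhd
  have hperm : ∀ u, σ h (B u) = ν • B ((MulAction.toPerm fr.lam⁻¹ : Equiv.Perm (F × F × A)) u) := by
    intro u
    refine Subtype.ext ?_
    show ρ (h : Om (q2 Q)) (B u : V) = ν • (B ((fr.lam⁻¹ : Fˣ) • u) : V)
    rw [hB, hB, hh, ← Module.End.mul_apply, ← map_mul, t12_yS, map_mul, Module.End.mul_apply,
      hν _ v₀.2, map_smul]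
  have hdet' : LinearMap.det (σ h) = 1 := by
    have := congrArg Units.val hdet
    simpa [dh] using this
  rw [det_of_perm B (σ h) (MulAction.toPerm fr.lam⁻¹) ν hperm] at hdet'
  have hgen : ∀ i : ℕ, ((fr.lam⁻¹ : Fˣ) : F) ^ i = 1 → Fintype.card F - 1 ∣ i := fun i hi =>
    fr.exists_gen.choose_spec i (show (fr.lam : F) ^ i = 1 by simpa [inv_pow, inv_eq_one] using hi)
  have hdimA : Odd (finrank F (F × F × A)) := by
    simp only [finrank_prod, finrank_self]
    obtain ⟨t, ht⟩ := fr.dim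
    exact ⟨t + 1, by omega⟩
  rw [sign_smul fr.odd hdimA _ hgen, Units.val_neg, Units.val_one, Int.cast_neg, Int.cast_one,
    mul_neg_one, neg_eq_iff_eq_neg] at hdet'
  have hν1 : ν ^ (Fintype.card F - 1) = 1 := by
    have hiter : ∀ i : ℕ, ρ (t12 fr ^ i) (v₀ : V) = ν ^ i • (v₀ : V) := by
      intro i
      induction i with
      | zero => simp
      | succ i ih => rw [pow_succ', map_mul, Module.End.mul_apply, ih, map_smul, hν _ v₀.2,
          smul_smul, ← pow_succ]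
    have h := hiter (Fintype.card F - 1)
    rw [t12_pow, map_one, Module.End.one_apply] at h
    refine (smul_left_injective ℂ hv0' (?_ : _ • (v₀ : V) = _ • (v₀ : V)))
    rw [one_smul]
    exact h.symm
  have hcard : Fintype.card (F × F × A) = Fintype.card F ^ finrank F (F × F × A) :=
    Module.card_eq_pow_finrank
  have hν' : ν = -1 := by
    refine eq_neg_one (by rw [← hdet']) hν1 ?_ (by rw [hcard]; exact fr.odd.pow) ?_
    · rw [hcard]
      refine Nat.Coprime.pow_left _ ?_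
      have hq := fr.five
      rw [Nat.coprime_comm, Nat.coprime_self_sub_left (by omega)]
      exact Nat.coprime_one_left _
    · obtain ⟨t, ht⟩ := fr.odd
      exact ⟨t, by omega⟩
  intro v hv
  rw [hν v hv, hν', neg_one_smul]

end CfsgLib.OrthDeg.Odd
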