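import Cfsg.Agent.Lib.Geo.OrthMinDeg.OddBase
import Cfsg.Agent.Lib.Classical.Quad.StandardForms

/-!
# The smallest degree in odd dimension

Owner: helper23.
-/

set_option autoImplicit false

namespace CfsgLib.OrthDeg.Odd

open Module CfsgLib.Classical.Quad CfsgLib.SLMinDeg
open QuadraticMap (polar polarBilin)

universe u

variable {F : Type u} [Field F] [Fintype F] [DecidableEq F]

theorem finrank_oddZero : finrank F (Unit ⊕ (Fin 0 ⊕ Fin 0) → F) = 1 := by simp

theorem zc_oddZero : zc (qOdd 0 F) 0 = 1 := by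
  rw [zc, Nat.card_eq_one_iff_unique]
  refine ⟨⟨fun x y => Subtype.ext (funext fun s => ?_)⟩, ⟨⟨0, map_zero _⟩⟩⟩
  have h : ∀ z : {v // qOdd 0 F v = 0}, z.1 (Sum.inl ()) = 0 := fun z => by
    simpa [coe_qOdd, Cfsg.quadFormOdd] using z.2
  rcases s with _ | s
  · exact (h x).trans (h y).symm
  · exact s.elim Fin.elim0 Fin.elim0

/-- The strengthened bound holds in every odd dimension from seven on. -/
theorem exists_bound (hodd : Odd (Fintype.card F)) (h5 : 5 ≤ Fintype.card F) (i : ℕ) :
    ∃ (A : Type u) (_ : AddCommGroup A) (_ : Module F A) (_ : FiniteDimensional F A)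
      (_ : Fintype A) (_ : DecidableEq A) (Q : QuadraticForm F A) (fr : Frame Q)
      (e : (Unit ⊕ (Fin (i + 3) ⊕ Fin (i + 3)) → F) ≃ₗ[F] VV F A),
      finrank F A = 2 * i + 1 ∧ zc Q 0 = Fintype.card F ^ (2 * i) ∧
        (∀ v, hyp (q2 Q) (e v) = qOdd (i + 3) F v) ∧ Bound fr (i + 3) := by
  induction i with
  | zero =>
    classical
    have h2 : (2 : F) ≠ 0 := Ring.two_ne_zero fun h => by
      have := FiniteField.even_card_iff_char_two.1 h
      obtain ⟨t, ht⟩ := hodd
      omega
    let fr : Frame (qOdd 0 F) :=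
      ⟨qOdd_nondeg h2 0, by rw [finrank_oddZero]; exact odd_one, hodd, h5⟩
    refine ⟨_, inferInstance, inferInstance, inferInstance, inferInstance, inferInstance,
      qOdd 0 F, fr,
      (oddSplit 2 F).trans (hypCongr ((oddSplit 1 F).trans (hypCongr (oddSplit 0 F)))),
      by simpa using finrank_oddZero, by simpa using zc_oddZero, fun v => ?_,
      bound_base fr finrank_oddZero zc_oddZero⟩
    exact (hypCongr_preserves _ (fun u => (hypCongr_preserves _ (oddSplit_preserves 0) _).trans
      (oddSplit_preserves 1 u)) _).trans (oddSplit_preserves 2 v)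
  | succ i ih =>
    obtain ⟨A, iA, iM, iFD, iFt, iDE, Q, fr, e, hd, hz, he, hb⟩ := ih
    refine ⟨F × F × A, inferInstance, inferInstance, inferInstance, inferInstance, inferInstance,
      hyp Q, fr.succ, (oddSplit (i + 3) F).trans (hypCongr e), by simp [hd]; ring,
      (zc_q2 hd hz).1, fun v => ?_, bound_step fr hd hz hb⟩
    exact (hypCongr_preserves _ he _).trans (oddSplit_preserves (i + 3) v)

/-- The bound in odd dimension. -/
theorem minDeg_odd (hodd : Odd (Fintype.card F)) (h5 : 5 ≤ Fintype.card F) (i : ℕ) :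
    MinDeg (commutator (OQ (qOdd (i + 3) F))) (Bk (Fintype.card F) (i + 3)) := by
  obtain ⟨A, iA, iM, iFD, iFt, iDE, Q, fr, e, -, -, he, hb⟩ := exists_bound hodd h5 i
  have h : MinDeg (Om (q2 Q)) (Bk (Fintype.card F) (i + 3)) := fun V _ _ _ ρ hρ => by
    have := hb V ρ hρ
    omega
  exact h.of_equiv (omegaCongr e he).symm

end CfsgLib.OrthDeg.Odd
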