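import Cfsg.Agent.Lib.Geo.OrthMinDeg.OddElem

/-!
# Generation of the special linear group of degree three

Owner: helper23.
-/

set_option autoImplicit false

namespace CfsgLib.OrthDeg.Odd

open Matrix
open scoped commutatorElement

variable {F : Type*} [Field F]

theorem wy01_tv10 (c : F) :
    wy 0 1 h01 * tv 1 0 h01.symm c = tv 0 1 h01 (-c) * wy 0 1 h01 := by
  refine Units.ext ?_
  simp only [wy, Units.val_mul, coe_tv]
  ext i j
  fin_cases i <;> fin_cases j <;>
    simp [transvection, Matrix.mul_apply, Matrix.single_apply, Fin.sum_univ_three]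

theorem wy12_tv21 (c : F) :
    wy 1 2 h12 * tv 2 1 h12.symm c = tv 1 2 h12 (-c) * wy 1 2 h12 := by
  refine Units.ext ?_
  simp only [wy, Units.val_mul, coe_tv]
  ext i j
  fin_cases i <;> fin_cases j <;>
    simp [transvection, Matrix.mul_apply, Matrix.single_apply, Fin.sum_univ_three]

theorem dg01_eq (a : Fˣ) : dg a a⁻¹ (1 : Fˣ) = tv 0 1 h01 (a : F) *
    tv 1 0 h01.symm (-(a : F)⁻¹) * tv 0 1 h01 ((a : F) - 1) * tv 1 0 h01.symm 1 *
      tv 0 1 h01 (-1) := by
  refine Units.ext ?_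
  simp only [Units.val_mul, coe_dg, coe_tv]
  ext i j
  fin_cases i <;> fin_cases j <;>
    simp [transvection, Matrix.mul_apply, Matrix.single_apply, Fin.sum_univ_three] <;>
    field_simp <;> ring

theorem dg12_eq (a : Fˣ) : dg (1 : Fˣ) a a⁻¹ = tv 1 2 h12 (a : F) *
    tv 2 1 h12.symm (-(a : F)⁻¹) * tv 1 2 h12 ((a : F) - 1) * tv 2 1 h12.symm 1 *
      tv 1 2 h12 (-1) := by
  refine Units.ext ?_
  simp only [Units.val_mul, coe_dg, coe_tv]
  ext i j
  fin_cases i <;> fin_cases j <;>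
    simp [transvection, Matrix.mul_apply, Matrix.single_apply, Fin.sum_univ_three] <;>
    field_simp <;> ring

theorem dg_split {a b c : Fˣ} (h : a * b * c = 1) :
    dg a b c = dg a a⁻¹ 1 * dg 1 (a * b) (a * b)⁻¹ := by
  have hc : c = (a * b)⁻¹ := eq_inv_of_mul_eq_one_right h
  rw [dg_mul, hc, mul_one, one_mul, inv_mul_cancel_left]

/-- The root groups of the simple roots generate all of them. -/
theorem tv_mem_of_simple (K : Subgroup (GL (Fin 3) F)) (t01 : ∀ c, tv 0 1 h01 c ∈ K)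
    (t10 : ∀ c, tv 1 0 h01.symm c ∈ K) (t12 : ∀ c, tv 1 2 h12 c ∈ K)
    (t21 : ∀ c, tv 2 1 h12.symm c ∈ K) : ∀ (i j : Fin 3) (h : i ≠ j) (c : F), tv i j h c ∈ K := by
  have hcy : (cy : GL (Fin 3) F) ∈ K := mul_mem
    (mul_mem (mul_mem (t01 _) (t10 _)) (t01 _)) (mul_mem (mul_mem (t12 _) (t21 _)) (t12 _))
  have t20 : ∀ c : F, tv 2 0 h02.symm c ∈ K := fun c => by
    have e := cy_tv12 (-c)
    rw [neg_neg] at e
    rw [eq_mul_inv_of_mul_eq e.symm]
    exact mul_mem (mul_mem hcy (t12 _)) (inv_mem hcy)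
  have t02 : ∀ c : F, tv 0 2 h02 c ∈ K := fun c => by
    have e := cy_tv21 (-c)
    rw [neg_neg] at e
    rw [eq_mul_inv_of_mul_eq e.symm]
    exact mul_mem (mul_mem hcy (t21 _)) (inv_mem hcy)
  intro i j h c
  fin_cases i <;> fin_cases j
  all_goals first
    | exact absurd rfl h
    | exact t01 c
    | exact t10 c
    | exact t12 c
    | exact t20 c
    | exact t21 c
    | exact t02 c

/-- The transvections generate the special linear group. -/
theorem mem_of_tv (K : Subgroup (GL (Fin 3) F)) (ht : ∀ (i j : Fin 3) (h : i ≠ j) (c : F),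
    tv i j h c ∈ K) {g : GL (Fin 3) F} (hg : (g : Matrix (Fin 3) (Fin 3) F).det = 1) : g ∈ K := by
  obtain ⟨u, hu, hu'⟩ := Matrix.diagonal_transvection_induction
    (fun M => ∃ u : GL (Fin 3) F, (u : Matrix (Fin 3) (Fin 3) F) = M ∧ u ∈ K)
    (g : Matrix (Fin 3) (Fin 3) F)
    (fun D hD => by
      rw [hg, det_diagonal, Fin.prod_univ_three] at hD
      have hne : ∀ i, D i ≠ 0 := fun i h0 => by
        refine zero_ne_one (α := F) (hD ▸ ?_)
        fin_cases i <;> simp_all
      refine ⟨dg (Units.mk0 _ (hne 0)) (Units.mk0 _ (hne 1)) (Units.mk0 _ (hne 2)), ?_, ?_⟩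
      · rw [coe_dg]
        congr 1
        funext i
        fin_cases i <;> rfl
      · rw [dg_split (Units.ext (by simpa using hD)), dg01_eq, dg12_eq]
        exact mul_mem
          (mul_mem (mul_mem (mul_mem (mul_mem (ht _ _ _ _) (ht _ _ _ _)) (ht _ _ _ _))
            (ht _ _ _ _)) (ht _ _ _ _))
          (mul_mem (mul_mem (mul_mem (mul_mem (ht _ _ _ _) (ht _ _ _ _)) (ht _ _ _ _))
            (ht _ _ _ _)) (ht _ _ _ _)))
    (fun t => ⟨tv t.i t.j t.hij t.c, rfl, ht _ _ _ _⟩)
    (fun M N ⟨u, hu, hu'⟩ ⟨v, hv, hv'⟩ => ⟨u * v, by rw [Units.val_mul, hu, hv], mul_mem hu' hv'⟩)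
  rwa [← Units.ext hu]

/-- The special linear group of degree three is perfect. -/
theorem sl3_perfect (hμ : ∃ μ : Fˣ, (μ : F) * μ ≠ 1) :
    commutator (SpecialLinearGroup (Fin 3) F) = ⊤ := by
  obtain ⟨l, hl⟩ := hμ
  let K : Subgroup (GL (Fin 3) F) :=
    (commutator (SpecialLinearGroup (Fin 3) F)).map SpecialLinearGroup.toGL
  have ht : ∀ (i j : Fin 3) (h : i ≠ j) (c : F), tv i j h c ∈ K := by
    intro i j h c
    set a : Fin 3 → Fˣ := Function.update (Function.update (fun _ => 1) i l) j l⁻¹ with ha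
    have hi : a i = l := by rw [ha, Function.update_of_ne h, Function.update_self]
    have hj : a j = l⁻¹ := by rw [ha, Function.update_self]
    have hd : ((dg (a 0) (a 1) (a 2) : GL (Fin 3) F) : Matrix (Fin 3) (Fin 3) F).det = 1 := by
      rw [coe_dg, det_diagonal, Fin.prod_univ_three]
      fin_cases i <;> fin_cases j <;> simp_all [Function.update]
    have e : tv i j h c = ⁅dg (a 0) (a 1) (a 2), tv i j h (c / ((l : F) * l - 1))⁆ := by
      rw [commutatorElement_def, dg_tv, mul_inv_cancel_right, eq_mul_inv_iff_mul_eq, ← tv_add, hi,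
        hj, Units.val_inv_eq_inv_val, inv_inv]
      congr 1
      rw [mul_right_comm]
      generalize (l : F) * l = r at hl ⊢
      field_simp [sub_ne_zero.2 hl]
      ring
    let d : SpecialLinearGroup (Fin 3) F := ⟨_, hd⟩
    let t : SpecialLinearGroup (Fin 3) F :=
      ⟨transvection i j (c / ((l : F) * l - 1)), det_transvection_of_ne i j h _⟩
    refine ⟨⁅d, t⁆, Subgroup.commutator_mem_commutator (Subgroup.mem_top _) (Subgroup.mem_top _), ?_⟩
    rw [map_commutatorElement, e]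
    have hd' : SpecialLinearGroup.toGL d = dg (a 0) (a 1) (a 2) := Units.ext rfl
    have ht' : SpecialLinearGroup.toGL t = tv i j h (c / ((l : F) * l - 1)) := Units.ext rfl
    rw [hd', ht']
  rw [eq_top_iff]
  intro g _
  obtain ⟨x, hx, e⟩ := mem_of_tv K ht (g := SpecialLinearGroup.toGL g) g.2
  rwa [← SpecialLinearGroup.toGL_injective e]

end CfsgLib.OrthDeg.Odd
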