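import Cfsg.Agent.Lib.Geo.OrthMinDeg.OddLines

/-!
# The radical and the inner group on the weight lines

Owner: helper23.
-/

set_option autoImplicit false
set_option maxHeartbeats 1000000

namespace CfsgLib.OrthDeg.Odd

open Module CfsgLib.Classical.Quad CfsgLib.SLMinDeg
open QuadraticMap (polar polarBilin)
open scoped commutatorElement

variable {F : Type*} [Field F] [Fintype F] [DecidableEq F] {A : Type*} [AddCommGroup A]
  [Module F A] [FiniteDimensional F A] [Fintype A] [DecidableEq A] {Q : QuadraticForm F A}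

/-- The weights in the span of the second and third vectors. -/
def wsp (F A : Type*) [Field F] [AddCommGroup A] [Module F A] (α β : F) : U2 F A :=
  (α, 0, (β, 0, 0))

theorem wsp_singular (α β : F) : q2 Q (wsp F A α β) = 0 := by simp [wsp, hyp_apply]

theorem wsp_ne {α β : F} (h : α ≠ 0 ∨ β ≠ 0) : wsp F A α β ≠ 0 := fun e => by
  rcases h with h | h <;> simp [wsp, Prod.ext_iff] at e <;> tauto

theorem smul_vP (α : F) : α • vP F A = wsp F A α 0 := by simp [wsp, Prod.ext_iff]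

/-- A weight in the span. -/
def InSpan (w : U2 F A) : Prop := w.2.1 = 0 ∧ w.2.2.2.1 = 0 ∧ w.2.2.2.2 = 0

theorem eq_wsp {w : U2 F A} (h : InSpan w) : w = wsp F A w.1 w.2.2.1 := by
  obtain ⟨w1, w2, w3, w4, w5⟩ := w
  obtain ⟨h2, h4, h5⟩ := h
  simp only at h2 h4 h5
  subst h2 h4 h5
  rfl

variable (fr : Frame Q) {V : Type*} [AddCommGroup V] [Module ℂ V]
  (ρ : Representation ℂ (Om (q2 Q)) V)


theorem moves_one (h : commutator (OQ (q2 Q))) {w : U2 F A}
    (hw : ((h : OQ (q2 Q)) : U2 F A ≃ₗ[F] U2 F A) w = w) {v : V}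
    (hv : v ∈ LinearMap.range (EE fr ρ w)) : ρ (lev h) v ∈ LinearMap.range (EE fr ρ w) := by
  have := apply_mem_line fr ρ (moves_lev fr ρ h) hv
  rwa [hw] at this

theorem xel'_smul_vP (a : F × F × A) (α : F) :
    ((xel' fr.nd fr.one_le a : OQ (q2 Q)) : U2 F A ≃ₗ[F] U2 F A) (α • vP F A) = α • vP F A := by
  rw [show ((xel' fr.nd fr.one_le a : OQ (q2 Q)) : U2 F A ≃ₗ[F] U2 F A) (α • vP F A) =
    _ from xo_apply (hyp_nondegenerate fr.nd) a _]
  simp [polar_hyp, hyp_apply, Prod.ext_iff]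

theorem xel''_smul_vP (a : A) (α : F) :
    ((xel'' fr.nd fr.one_le a : OQ (q2 Q)) : U2 F A ≃ₗ[F] U2 F A) (α • vP F A) = α • vP F A := by
  rw [show ((xel'' fr.nd fr.one_le a : OQ (q2 Q)) : U2 F A ≃ₗ[F] U2 F A) (α • vP F A) =
    _ from eich_apply (q2_nondeg fr.nd) (q2_vR fr.nd fr.one_le) (polar_vR fr.nd fr.one_le a) _]
  simp [polar_hyp, hyp_apply, Prod.ext_iff]

theorem lev_fix_smul_vP (g : commutator (OQ (hyp Q))) (α : F) :
    ((lev g : OQ (q2 Q)) : U2 F A ≃ₗ[F] U2 F A) (α • vP F A) = α • vP F A := by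
  show app (lev g) (α • vP F A) = _
  rw [lev_apply]
  simp [Prod.ext_iff]

variable [FiniteDimensional ℂ V] (hpure : Pure fr ρ)
include hpure

theorem t12_line (α : Fˣ) :
    ∀ v ∈ LinearMap.range (EE fr ρ ((α : F) • vP F A)), ρ (t12 fr) v = -v := by
  have hk : dg α⁻¹ 1 α⁻¹ ∈ SG fr.nd := dg_lam_mem fr ⟨α⁻¹, by rw [mul_one]⟩
  have hτ : dgTau α⁻¹ 1 α⁻¹ (vP F A) = (α : F) • vP F A := by
    simp [dgTau, Prod.ext_iff, Units.val_inv_eq_inv_val]
  have hcomm : t12 fr * el fr.nd (dg α⁻¹ 1 α⁻¹) = el fr.nd (dg α⁻¹ 1 α⁻¹) * t12 fr := by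
    rw [t12, ← el_mul fr.nd (t12_mem fr) hk, ← el_mul fr.nd hk (t12_mem fr), dg_mul, dg_mul]
    congr 2 <;> exact mul_comm _ _
  have := scalar_transport fr ρ (moves_dg fr ρ hk) hcomm (c := (-1 : ℂ)) (w := vP F A)
    (fun v hv => by rw [t12_line_one fr ρ hpure v hv, neg_one_smul])
  intro v hv
  rw [this v (by rwa [hτ]), neg_one_smul]

/-- The radical at the second vector fixes the lines of that vector. -/
theorem xel'_line (a : F × F × A) (α : Fˣ) :
    ∀ v ∈ LinearMap.range (EE fr ρ ((α : F) • vP F A)),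
      ρ (lev (xel' fr.nd fr.one_le a)) v = v := by
  intro v hv
  have hl1 : (fr.lam : F) - 1 ≠ 0 := sub_ne_zero.2 fr.lam_ne_one
  set b := ((fr.lam : F) - 1)⁻¹ • a with hb
  have hc : t12 fr * lev (xel' fr.nd fr.one_le b) =
      lev (xel' fr.nd fr.one_le ((fr.lam : F) • b)) * t12 fr := by
    rw [t12, dg_xel' fr.nd fr.one_le (t12_mem fr)]
    simp
  have ha : (fr.lam : F) • b = a + b := by
    rw [hb]
    match_scalars
    generalize (fr.lam : F) = x at hl1 ⊢
    field_simp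
    ring
  have hm := moves_one fr ρ (xel' fr.nd fr.one_le b) (xel'_smul_vP fr b _) hv
  have h := LinearMap.congr_fun (congrArg ρ hc) v
  rw [map_mul, map_mul, Module.End.mul_apply, Module.End.mul_apply, t12_line fr ρ hpure α _ hm,
    t12_line fr ρ hpure α v hv, map_neg, neg_inj, ha] at h
  rw [show lev (xel' fr.nd fr.one_le (a + b)) =
      lev (xel' fr.nd fr.one_le a) * lev (xel' fr.nd fr.one_le b) by
    rw [← map_mul]; exact congrArg lev (xel_add _ _ a b), map_mul, Module.End.mul_apply] at h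
  -- the first factor moves back
  have h2 : ρ (lev (xel' fr.nd fr.one_le b)) (ρ (lev (xel' fr.nd fr.one_le a)) v) =
      ρ (lev (xel' fr.nd fr.one_le b)) v := by
    rw [← Module.End.mul_apply, ← map_mul, ← map_mul, xel', xel', ← xel_add, add_comm, xel_add,
      map_mul, map_mul, Module.End.mul_apply]
    exact h.symm
  have h3 := congrArg (ρ (lev (xel' fr.nd fr.one_le b))⁻¹) h2
  rwa [apply_of_apply_apply, apply_of_apply_apply] at h3

/-- The inner group fixes the lines of the second vector. -/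
theorem J_line {g : Om (q2 Q)} (hg : g ∈ J Q) (α : Fˣ) :
    ∀ v ∈ LinearMap.range (EE fr ρ ((α : F) • vP F A)), ρ g v = v := by
  obtain ⟨g, ⟨hgd, -⟩, rfl⟩ := hg
  have hw : (α : F) • vP F A ≠ 0 := smul_ne_zero α.ne_zero (by simp [Prod.ext_iff])
  obtain ⟨ν, hν⟩ := exists_nu (q2_nondeg fr.nd) (three_le_U2 fr.nd fr.one_le) ρ
    (line_eq_one fr ρ hpure hw (by rw [apply_smul, q2_vP, mul_zero]))
  let f : Om Q →* fixer (q2 Q) ((α : F) • vP F A) :=
    (lev (Q := hyp Q)).codRestrict _ fun g => mem_fixer.2 (lev_fix_smul_vP g _)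
  intro v hv
  have h1 : ν.comp f g = 1 := Abelianization.commutator_subset_ker (ν.comp f) hgd
  have h2 := hν (f g) v hv
  rw [show ν (f g) = 1 from h1, Units.val_one, one_smul] at h2
  exact h2

/-- A square dilation of the third plane in the inner group. -/
theorem exists_t33 : dg 1 1 (fr.lam * fr.lam) ∈ SG fr.nd ∧
    el fr.nd (dg 1 1 (fr.lam * fr.lam)) ∈ J Q := by
  have hd : dg 1 1 (fr.lam * fr.lam) ∈ SG fr.nd := dg_lam_mem fr ⟨fr.lam, by simp⟩
  refine ⟨hd, ?_⟩
  obtain ⟨c, hc⟩ : ∃ c : A, Q c ≠ 0 := by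
    by_contra hall
    push Not at hall
    have : Nontrivial A := Module.nontrivial_of_finrank_pos (R := F) fr.one_le
    obtain ⟨x, hx⟩ := exists_ne (0 : A)
    exact hx (fr.nd.1 x fun y => by simp [polar, hall])
  obtain ⟨g, hg, hga⟩ := exists_dil_derived fr.nd fr.lam fr.lam_sq hc
  refine ⟨g, hg, ext_app fun z => ?_⟩
  rw [app_lev2, hga, app_el fr.nd hd, glMap_apply, coe_dg, coe_dg_inv]
  simp [Prod.ext_iff, mul_comm]

/-- The radical at the third vector fixes the lines of the second. -/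
theorem xel''_line (a : A) (α : Fˣ) :
    ∀ v ∈ LinearMap.range (EE fr ρ ((α : F) • vP F A)),
      ρ (lev (xel'' fr.nd fr.one_le a)) v = v := by
  intro v hv
  obtain ⟨hd, hJ⟩ := exists_t33 fr ρ hpure
  set t := el fr.nd (dg 1 1 (fr.lam * fr.lam)) with ht
  set μ : F := ((fr.lam * fr.lam : Fˣ) : F) with hμ
  have hμ1 : μ - 1 ≠ 0 := sub_ne_zero.2 (by simpa [hμ] using fr.lam_sq)
  set b := (μ - 1)⁻¹ • a with hb
  have hc : t * lev (xel'' fr.nd fr.one_le b) = lev (xel'' fr.nd fr.one_le (μ • b)) * t :=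
    dg_xel'' fr.nd fr.one_le hd b
  have ha : μ • b = b + a := by
    rw [hb]
    match_scalars
    generalize μ = x at hμ1 ⊢
    field_simp
    ring
  have hm := moves_one fr ρ (xel'' fr.nd fr.one_le b) (xel''_smul_vP fr b _) hv
  have h := LinearMap.congr_fun (congrArg ρ hc) v
  rw [map_mul, map_mul, Module.End.mul_apply, Module.End.mul_apply, J_line fr ρ hpure hJ α _ hm,
    J_line fr ρ hpure hJ α v hv, ha] at h
  rw [show lev (xel'' fr.nd fr.one_le (b + a)) =
      lev (xel'' fr.nd fr.one_le b) * lev (xel'' fr.nd fr.one_le a) by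
    rw [← map_mul]
    exact congrArg lev (Subtype.ext (by
      rw [Subgroup.coe_mul]
      simp only [xel'', eU]
      rw [eich_mul]
      exact eich_congr _ rfl (by simp)))] at h
  rw [map_mul, Module.End.mul_apply] at h
  have h3 := congrArg (ρ (lev (xel'' fr.nd fr.one_le b))⁻¹) h
  rw [apply_of_apply_apply, apply_of_apply_apply] at h3
  exact h3.symm

/-- The radical fixes every line of the span. -/
theorem R3_line {α β : F} (h : α ≠ 0 ∨ β ≠ 0) {g : Om (q2 Q)} (hg : g ∈ R3 fr.nd fr.one_le) :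
    ∀ v ∈ LinearMap.range (EE fr ρ (wsp F A α β)), ρ g v = v := by
  have base : ∀ (α : Fˣ) (g : Om (q2 Q)), g ∈ R3 fr.nd fr.one_le →
      ∀ v ∈ LinearMap.range (EE fr ρ ((α : F) • vP F A)), ρ g v = v := by
    intro α g hg
    induction hg using Subgroup.closure_induction with
    | mem g hg =>
      rcases hg with ⟨a, h1, h2, rfl⟩ | ⟨a, -, rfl⟩ | ⟨a, rfl⟩
      · intro v hv
        rw [← EE_apply_of_mem fr ρ hv, ← Module.End.mul_apply, xel_mul_E,
          show psi (q2 Q) ((α : F) • vP F A) a = 1 by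
            simp [psi, polar_hyp, h1, AddChar.map_zero_eq_one], one_smul]
      · exact xel'_line fr ρ hpure a α
      · exact xel''_line fr ρ hpure a α
    | one => intro v _; simp
    | mul g k _ _ ihg ihk =>
      intro v hv
      rw [map_mul, Module.End.mul_apply, ihk v hv, ihg v hv]
    | inv g _ ihg =>
      intro v hv
      have h := congrArg (ρ g⁻¹) (ihg v hv)
      rw [apply_of_apply_apply] at h
      exact h.symm
  -- move any weight from the line of the second vector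
  have move : ∀ (k : Om (q2 Q)) (τ : U2 F A → U2 F A), Moves fr ρ k τ →
      k ∈ Subgroup.normalizer (R3 fr.nd fr.one_le : Set (Om (q2 Q))) → ∀ (α : Fˣ) (g : Om (q2 Q)),
      g ∈ R3 fr.nd fr.one_le →
      ∀ v ∈ LinearMap.range (EE fr ρ (τ ((α : F) • vP F A))), ρ g v = v := by
    intro k τ hk hn α g hg v hv
    have hmem : k⁻¹ * g * k ∈ R3 fr.nd fr.one_le := by
      have := (Subgroup.mem_normalizer_iff.1 (inv_mem hn) g).1 hg
      rwa [inv_inv] at this
    have := scalar_transport fr ρ hk (g := g) (g' := k⁻¹ * g * k) (by group) (c := (1 : ℂ))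
      (w := (α : F) • vP F A) (fun u hu => by rw [base α _ hmem u hu, one_smul]) v hv
    rwa [one_smul] at this
  have hN : ∀ (i j : Fin 3) (hij : i ≠ j) (c : F), el fr.nd (tv i j hij c) ∈
      Subgroup.normalizer (R3 fr.nd fr.one_le : Set (Om (q2 Q))) := fun i j hij c =>
    ((mem_NG fr.nd fr.one_le).1 (tv_NG fr.nd fr.one_le fr.hmu i j hij c)).2
  have hvR : ∀ t : F, polar (q2 Q) (vR F A) (t • vP' F A) = 0 := fun t => by simp [polar_hyp]
  let y : F → commutator (OQ (q2 Q)) := fun t =>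
    eU fr.nd fr.one_le (q2_vR fr.nd fr.one_le) (hvR t)
  have hy : ∀ t z, ((y t : OQ (q2 Q)) : U2 F A ≃ₗ[F] U2 F A) z =
      (z.1, z.2.1 - t * z.2.2.2.1, (z.2.2.1 + t * z.1, z.2.2.2.1, z.2.2.2.2)) := fun t z => by
    show (eich (q2_nondeg fr.nd) (q2_vR fr.nd fr.one_le) (hvR t) : U2 F A ≃ₗ[F] U2 F A) z = _
    rw [eich_apply]
    refine Prod.ext ?_ (Prod.ext ?_ (Prod.ext ?_ (Prod.ext ?_ ?_))) <;>
      simp [polar_hyp, hyp_apply] <;> ring
  have ey : ∀ t, el fr.nd (tv 2 1 h12.symm t) = lev (y t) := fun t => ext_app fun z => by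
    rw [app_el fr.nd (tv_mem fr.nd fr.hmu _ _ _ _), lev_apply, hy, glMap_apply, coe_tv, coe_tv_inv]
    simp [Matrix.transvection, Matrix.single_apply, Prod.ext_iff]
    (repeat' apply And.intro) <;> ring
  by_cases hα : α = 0
  · subst hα
    have hβ : β ≠ 0 := h.resolve_left (fun h => h rfl)
    intro v hv
    set x := xel' fr.nd fr.one_le ((0, 1, 0) : F × F × A) with hx
    have hk : el fr.nd (wy 1 2 h12) = lev (x * y (-1) * x) := by
      rw [map_mul, map_mul, wy, el_mul fr.nd (mul_mem (tv_mem fr.nd fr.hmu _ _ _ _)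
        (tv_mem fr.nd fr.hmu _ _ _ _)) (tv_mem fr.nd fr.hmu _ _ _ _),
        el_mul fr.nd (tv_mem fr.nd fr.hmu _ _ _ _) (tv_mem fr.nd fr.hmu _ _ _ _),
        el_tv12 fr.nd fr.one_le fr.hmu, ey]
    refine move _ _ (moves_lev fr ρ (x * y (-1) * x)) ?_ (Units.mk0 (-β) (neg_ne_zero.2 hβ)) g hg v ?_
    · rw [← hk]
      exact ((mem_NG fr.nd fr.one_le).1 (wy12_NG fr.nd fr.one_le fr.hmu)).2
    · convert hv using 3
      show ((x : OQ (q2 Q)) : U2 F A ≃ₗ[F] U2 F A) (((y (-1) : OQ (q2 Q)) : U2 F A ≃ₗ[F] U2 F A)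
        (((x : OQ (q2 Q)) : U2 F A ≃ₗ[F] U2 F A) _)) = _
      rw [hx, Units.val_mk0, xel'_smul_vP fr, hy,
        show ∀ z, ((xel' fr.nd fr.one_le ((0, 1, 0) : F × F × A) : OQ (q2 Q)) :
          U2 F A ≃ₗ[F] U2 F A) z = _ from fun z => xo_apply (hyp_nondegenerate fr.nd) _ z]
      simp [wsp, polar_hyp, hyp_apply, Prod.ext_iff]
  · intro v hv
    refine move _ _ (moves_lev fr ρ (y (β / α))) ?_ (Units.mk0 α hα) g hg v ?_
    · rw [← ey]
      exact hN _ _ _ _
    · convert hv using 3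
      show ((y (β / α) : OQ (q2 Q)) : U2 F A ≃ₗ[F] U2 F A) _ = _
      rw [Units.val_mk0, hy]
      simp [wsp, Prod.ext_iff, div_mul_cancel₀ _ hα]

/-- The average kills the lines outside the span. -/
theorem PR_line_zero {w : U2 F A} (hw : w ≠ 0) (h : ¬ InSpan w) :
    PR fr ρ * EE fr ρ w = 0 ∧ EE fr ρ w * PR fr ρ = 0 := by
  by_cases hs : q2 Q w = 0
  swap
  · rw [EE_eq_zero fr ρ hpure hw hs, mul_zero, zero_mul]
    exact ⟨rfl, rfl⟩
  obtain ⟨b, hb1, hb2, hb⟩ : ∃ b : U2 F A, b.2.1 = 0 ∧ b.2.2.2.1 = 0 ∧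
      psi (q2 Q) w b ≠ 1 := by
    obtain ⟨w1, w2, w3, w4, w5⟩ := w
    have h1 : chi0 F 1 ≠ 1 := chi0_one
    by_cases h2 : w2 = 0
    swap
    · refine ⟨(w2⁻¹, 0, (0, 0, 0)), rfl, rfl, ?_⟩
      simpa [psi, polar_hyp, inv_mul_cancel₀ h2] using h1
    by_cases h4 : w4 = 0
    swap
    · refine ⟨(0, 0, (w4⁻¹, 0, 0)), rfl, rfl, ?_⟩
      simpa [psi, polar_hyp, inv_mul_cancel₀ h4] using h1
    have h5 : w5 ≠ 0 := fun h5 => h ⟨h2, h4, h5⟩
    obtain ⟨a, ha⟩ : ∃ a, polar Q a w5 ≠ 0 := by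
      by_contra hall
      push Not at hall
      exact h5 (fr.nd.2 w5 fun y => hall y)
    refine ⟨(0, 0, (0, 0, (polar Q a w5)⁻¹ • a)), rfl, rfl, ?_⟩
    simpa [psi, polar_hyp, polar_smul_left', inv_mul_cancel₀ ha] using h1
  have hx := xel_mem_R3 fr.nd fr.one_le hb1 hb2
  have hcomm := moves_xel fr ρ b w
  have hpsi : ρ (Xe fr b) * EE fr ρ w = psi (q2 Q) w b • EE fr ρ w := xel_mul_E _ _ ρ b w
  constructor
  · have e : psi (q2 Q) w b • (PR fr ρ * EE fr ρ w) = PR fr ρ * EE fr ρ w := by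
      rw [← mul_smul_comm, ← hpsi, ← mul_assoc, avg_apply_elem ρ _ hx]
    by_contra hne
    exact hb (smul_left_injective ℂ hne (e.trans (one_smul ℂ _).symm))
  · have e : psi (q2 Q) w b • (EE fr ρ w * PR fr ρ) = EE fr ρ w * PR fr ρ := by
      rw [← smul_mul_assoc, ← hpsi, hcomm, id, mul_assoc, apply_avg ρ _ hx]
    by_contra hne
    exact hb (smul_left_injective ℂ hne (e.trans (one_smul ℂ _).symm))

/-- The average is the identity on the lines of the span. -/
theorem PR_line {w : U2 F A} (hw : w ≠ 0) (h : InSpan w) :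
    PR fr ρ * EE fr ρ w = EE fr ρ w := by
  refine LinearMap.ext fun v => avg_apply_of_fixed ρ _ fun g hg => ?_
  rw [eq_wsp h]
  refine R3_line fr ρ hpure ?_ hg _ (LinearMap.mem_range_self _ _)
  by_contra hcon
  push Not at hcon
  exact hw (by rw [eq_wsp h, hcon.1, hcon.2]; simp [wsp, Prod.ext_iff])

end CfsgLib.OrthDeg.Odd
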