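import Cfsg.Agent.Lib.Geo.OrthMinDeg.ClassSum

/-!
# The step for spaces of even dimension

Owner: helper23. A representation below the bound is pure, and the degree one less than the bound is
excluded by a divisibility.
-/

set_option autoImplicit false

namespace CfsgLib.OrthDeg

open Module CfsgLib.Classical.Quad
open QuadraticMap (polar polarBilin)

section Cls

variable {F : Type*} [Field F] [Finite F] {U : Type*} [AddCommGroup U] [Module F U]
  [FiniteDimensional F U] [Fintype U] (Q : QuadraticForm F U)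

omit [FiniteDimensional F U] in
theorem card_cls_zero : (cls Q (0 : F)).card + 1 = zc Q 0 := by
  classical
  have h : cls Q (0 : F) = (Finset.univ.filter fun w => Q w = 0).erase 0 := by
    ext w
    simp only [mem_cls, Finset.mem_erase, Finset.mem_filter, Finset.mem_univ, true_and, mul_zero]
    exact and_congr_right fun _ => ⟨fun ⟨_, _, h⟩ => h, fun h => ⟨1, one_ne_zero, h⟩⟩
  rw [h, Finset.card_erase_add_one (by simp), zc, Nat.card_eq_fintype_card, Fintype.card_subtype]

omit [FiniteDimensional F U] in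
theorem zc_le_card_cls {a : F} (ha : a ≠ 0) : zc Q a ≤ (cls Q a).card := by
  classical
  rw [zc, Nat.card_eq_fintype_card, Fintype.card_subtype]
  refine Finset.card_le_card fun w hw => ?_
  rw [Finset.mem_filter] at hw
  refine mem_cls.2 ⟨fun h => ha ?_, 1, one_ne_zero, by rw [hw.2]; ring⟩
  rw [← hw.2, h, QuadraticMap.map_zero]

omit [FiniteDimensional F U] in
theorem two_zc_le_card_cls {a : F} (ha : a ≠ 0) (hμ : ∃ μ : Fˣ, (μ : F) * μ ≠ 1) :
    2 * zc Q a ≤ (cls Q a).card := by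
  classical
  obtain ⟨μ, hμ⟩ := hμ
  have h2 : zc Q ((μ : F) * μ * a) = zc Q a := by
    refine (Nat.card_congr ((MulAction.toPerm μ).subtypeEquiv fun w => ?_)).symm
    show Q w = a ↔ Q ((μ : F) • w) = (μ : F) * μ * a
    rw [apply_smul]
    exact ⟨fun h => by rw [h],
      fun h => mul_left_cancel₀ (mul_ne_zero (Units.ne_zero μ) (Units.ne_zero μ)) h⟩
  have hd : Disjoint (Finset.univ.filter fun w => Q w = a)
      (Finset.univ.filter fun w => Q w = (μ : F) * μ * a) := by
    refine Finset.disjoint_left.2 fun w h1 h3 => hμ ?_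
    rw [Finset.mem_filter] at h1 h3
    exact mul_right_cancel₀ ha (by rw [one_mul, ← h3.2, h1.2])
  calc 2 * zc Q a = zc Q a + zc Q ((μ : F) * μ * a) := by rw [h2, two_mul]
    _ = _ := by simp only [zc, Nat.card_eq_fintype_card, Fintype.card_subtype]; rfl
    _ ≤ (cls Q a).card := by
      rw [← Finset.card_union_of_disjoint hd]
      refine Finset.card_le_card fun w hw => ?_
      simp only [Finset.mem_union, Finset.mem_filter, Finset.mem_univ, true_and] at hw
      have hw0 : w ≠ 0 := fun h => by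
        rcases hw with h' | h' <;> rw [h, QuadraticMap.map_zero] at h'
        · exact ha h'.symm
        · exact mul_ne_zero (mul_ne_zero (Units.ne_zero μ) (Units.ne_zero μ)) ha h'.symm
      rcases hw with h | h
      · exact mem_cls.2 ⟨hw0, 1, one_ne_zero, by rw [h]; ring⟩
      · exact mem_cls.2 ⟨hw0, μ, Units.ne_zero μ, h⟩

end Cls

section Pairs

variable {F : Type*} [Field F] {A : Type*} [AddCommGroup A] [Module F A]
  [FiniteDimensional F A] {Q : QuadraticForm F A} (hQ : (polarBilin Q).Nondegenerate)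
include hQ

omit [FiniteDimensional F A] in
/-- A pair for the zero vector. -/
theorem exists_pair_zero [Nontrivial A] :
    ∃ x y, polar Q 0 x = 0 ∧ polar Q 0 y = 0 ∧ polar Q x y = 1 := by
  obtain ⟨x, y, h⟩ := polar_nondeg_ne_zero hQ
  exact ⟨x, (polar Q x y)⁻¹ • y, by simp, by simp,
    by rw [polar_smul_right', inv_mul_cancel₀ h]⟩

/-- In dimension three a pair exists orthogonal to any vector. -/
theorem exists_pair_perp (h3 : 3 ≤ finrank F A) (a : A) :
    ∃ x y, polar Q a x = 0 ∧ polar Q a y = 0 ∧ polar Q x y = 1 := by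
  suffices ∃ x y, polar Q a x = 0 ∧ polar Q a y = 0 ∧ polar Q x y ≠ 0 by
    obtain ⟨x, y, hx, hy, h⟩ := this
    exact ⟨x, (polar Q x y)⁻¹ • y, hx, by rw [polar_smul_right', hy, mul_zero],
      by rw [polar_smul_right', inv_mul_cancel₀ h]⟩
  by_contra hcon
  push Not at hcon
  let P : Submodule F A := LinearMap.BilinForm.orthogonal (polarBilin Q) (F ∙ a)
  have hP : finrank F A ≤ finrank F P + 1 := by
    rw [LinearMap.BilinForm.finrank_orthogonal hQ]
    have : finrank F (F ∙ a) ≤ 1 := (finrank_span_le_card ({a} : Set A)).trans (by simp)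
    omega
  have hmem : ∀ x ∈ P, polar Q a x = 0 := fun x hx => hx a (Submodule.mem_span_singleton_self a)
  have hle : P ≤ LinearMap.BilinForm.orthogonal (polarBilin Q) P := fun x hx u hu => by
    show polar Q u x = 0
    exact hcon u x (hmem u hu) (hmem x hx)
  have := Submodule.finrank_mono hle
  rw [LinearMap.BilinForm.finrank_orthogonal hQ P] at this
  omega

omit [FiniteDimensional F A] in
/-- In odd characteristic an anisotropic vector orthogonal to `a` gives a pair. -/
theorem exists_pair_of_odd (h2 : (2 : F) ≠ 0) {a x : A} (hx : polar Q a x = 0) (hQx : Q x ≠ 0) :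
    ∃ u v, polar Q a u = 0 ∧ polar Q a v = 0 ∧ polar Q u v = 1 :=
  ⟨x, (2 * Q x)⁻¹ • x, hx, by rw [polar_smul_right', hx, mul_zero],
    by rw [polar_smul_right', polar_self', inv_mul_cancel₀ (mul_ne_zero h2 hQx)]⟩

end Pairs

variable {F : Type*} [Field F] [Fintype F] [DecidableEq F] {A : Type*} [AddCommGroup A]
  [Module F A] [FiniteDimensional F A] [Fintype A] [DecidableEq A] {Q : QuadraticForm F A}
  (hQ : (polarBilin Q).Nondegenerate) (hA : 1 ≤ finrank F A)
  {V : Type} [AddCommGroup V] [Module ℂ V] [FiniteDimensional ℂ V]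
  (ρ : Representation ℂ (Om (q2 Q)) V)

include hQ hA

/-- A representation below the bound. -/
theorem below_bound [ρ.IsIrreducible] (hρ : ∃ g, ρ g ≠ 1) (L T : ℕ)
    (ih : MinDeg (commutator (OQ (q2 Q))) L)
    (hX : T + 2 ≤ 2 * zc (q2 Q) 0)
    (h2 : ∀ a : F, a ≠ 0 → T ≤ 2 * (cls (q2 Q) a).card)
    (hN : ∀ a : F, a ≠ 0 → T ≤ L + (cls (q2 Q) a).card)
    (hpair : ∀ a : A, (Q a = 0 ∨ (cls (q2 Q) (Q a)).card < T) → (∃ μ : Fˣ, (μ : F) * μ ≠ 1) ∨
      ∃ x y, polar Q a x = 0 ∧ polar Q a y = 0 ∧ polar Q x y = 1)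
    (hlt : finrank ℂ V < T) :
    (∀ w : U2 F A, w ≠ 0 →
      mult (q2_nondeg hQ) (three_le_U2 hQ hA) ρ w = if q2 Q w = 0 then 1 else 0) ∧
    (∃ h, fixRep (q2_nondeg hQ) (three_le_U2 hQ hA) ρ h ≠ 1) ∧
    L ≤ mult (q2_nondeg hQ) (three_le_U2 hQ hA) ρ 0 ∧
    finrank ℂ V + 1 = mult (q2_nondeg hQ) (three_le_U2 hQ hA) ρ 0 + zc (q2 Q) 0 ∧
    finrank ℂ V * (Fintype.card F ^ 2 - 1) ∣
      (zc (hyp (q2 Q)) 0 - 1) * (zc (q2 Q) 0 - 1) * Fintype.card F ^ (finrank F A + 3) := by
  have hc := card_cls_zero (q2 Q)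
  have hL : (∃ h, fixRep (q2_nondeg hQ) (three_le_U2 hQ hA) ρ h ≠ 1) →
      L ≤ mult (q2_nondeg hQ) (three_le_U2 hQ hA) ρ 0 := fun h => ih _ _ h
  have hfix : ∀ w : U2 F A, w ≠ 0 → w.2.1 = 0 → w.2.2.2.1 = 0 →
      mult (q2_nondeg hQ) (three_le_U2 hQ hA) ρ w = 1 → (q2 Q w = 0 ∨
        (cls (q2 Q) (q2 Q w)).card < T) → ∀ (ξ : F),
      ∀ v ∈ LinearMap.range (E (q2_nondeg hQ) (three_le_U2 hQ hA) ρ w),
        ρ (lev (tel hQ hA ξ)) v = v := by
    intro w _ hw1 hw2 hm hv ξ
    have hval : q2 Q w = Q w.2.2.2.2 := by rw [q2_apply, hw1, hw2]; ring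
    rw [hval] at hv
    rcases hpair w.2.2.2.2 hv with hμ | ⟨x, y, hx, hy, hxy⟩
    · exact fix_tel_of_card hQ hA ρ hμ hm hw1 hw2 ξ
    · refine fix_tel_of_pair hQ hA ρ hm hw1 hw2 ξ (x := (-ξ) • x) ?_ hy ?_
      · rw [polar_smul_right', hx, mul_zero]
      · rw [polar_smul_left', hxy, mul_one]
  obtain ⟨hpure, hC, hd⟩ := pure_of_lt hQ hA ρ hρ L T hL (by omega) h2 hN hfix hlt
  refine ⟨hpure, hC, hL hC, by omega, dvd_of_pure hQ hA ρ hpure⟩

end CfsgLib.OrthDeg
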