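import Cfsg.Agent.Lib.Geo.OrthMinDeg.OddCore
import Cfsg.Agent.Lib.Geo.OrthMinDeg.PlusMinus

/-!
# The inductive bound in odd dimension

Owner: helper23. Every non-trivial representation has degree at least the bound plus the number of
independent vectors fixed by a parabolic-type subgroup.
-/

set_option autoImplicit false
set_option maxHeartbeats 1000000

namespace CfsgLib.OrthDeg.Odd

open Module CfsgLib.Classical.Quad CfsgLib.SLMinDeg
open QuadraticMap (polar polarBilin)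

/-- The bound. -/
def Bk (q k : ℕ) : ℕ := ∑ j ∈ Finset.range k, q ^ (2 * j)

theorem Bk_succ (q k : ℕ) : Bk q (k + 1) = Bk q k + q ^ (2 * k) := Finset.sum_range_succ _ _

theorem Bk_le {q : ℕ} (hq : 5 ≤ q) : ∀ k, 1 ≤ k → Bk q k + 2 ≤ q ^ (2 * k) := by
  intro k hk
  induction k, hk using Nat.le_induction with
  | base =>
    simp [Bk]
    nlinarith
  | succ k hk ih =>
    rw [Bk_succ, show 2 * (k + 1) = 2 * k + 2 by ring, pow_add]
    have : 2 ≤ q ^ 2 := by nlinarith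
    nlinarith [Nat.mul_le_mul_left (q ^ (2 * k)) this]

variable {F : Type*} [Field F] [Fintype F] [DecidableEq F] {A : Type*} [AddCommGroup A]
  [Module F A] [FiniteDimensional F A] [Fintype A] [DecidableEq A] {Q : QuadraticForm F A}
  (fr : Frame Q)

/-- The subgroup whose fixed vectors are added to the bound. -/
noncomputable def MM : Subgroup (Om (q2 Q)) :=
  Subgroup.closure (Set.range (Xe fr) ∪ {t12 fr} ∪
    (lev (Q := q2 Q)) '' {g | ∃ c : F, ((g : OQ (q2 Q)) : U2 F A ≃ₗ[F] U2 F A) (vP F A) = c • vP F A})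

/-- The strengthened bound. -/
def Bound (k : ℕ) : Prop :=
  ∀ (V : Type) [AddCommGroup V] [Module ℂ V] [FiniteDimensional ℂ V]
    (ρ : Representation ℂ (Om (q2 Q)) V), (∃ g, ρ g ≠ 1) →
    Bk (Fintype.card F) k + finrank ℂ (fixed (ρ.comp (MM fr).subtype)) ≤ finrank ℂ V

variable {V : Type} [AddCommGroup V] [Module ℂ V] [FiniteDimensional ℂ V]
  (ρ : Representation ℂ (Om (q2 Q)) V)

omit [FiniteDimensional ℂ V] in
theorem mem_fixM {v : V} : v ∈ fixed (ρ.comp (MM fr).subtype) ↔ ∀ g ∈ MM fr, ρ g v = v := by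
  rw [mem_fixed]
  exact ⟨fun h g hg => h ⟨g, hg⟩, fun h g => h g g.2⟩

omit [FiniteDimensional ℂ V] in
theorem fixM_gen {v : V} (hv : v ∈ fixed (ρ.comp (MM fr).subtype)) :
    (∀ a, ρ (Xe fr a) v = v) ∧ ρ (t12 fr) v = v ∧
      ∀ (g : commutator (OQ (q2 Q))) (c : F),
        ((g : OQ (q2 Q)) : U2 F A ≃ₗ[F] U2 F A) (vP F A) = c • vP F A → ρ (lev g) v = v := by
  rw [mem_fixM] at hv
  exact ⟨fun a => hv _ (Subgroup.subset_closure (Or.inl (Or.inl ⟨a, rfl⟩))),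
    hv _ (Subgroup.subset_closure (Or.inl (Or.inr rfl))),
    fun g c h => hv _ (Subgroup.subset_closure (Or.inr ⟨g, ⟨c, h⟩, rfl⟩))⟩

omit [FiniteDimensional ℂ V] in
theorem mem_fixM_of {v : V} (h1 : ∀ a, ρ (Xe fr a) v = v) (h2 : ρ (t12 fr) v = v)
    (h3 : ∀ (g : commutator (OQ (q2 Q))) (c : F),
      ((g : OQ (q2 Q)) : U2 F A ≃ₗ[F] U2 F A) (vP F A) = c • vP F A → ρ (lev g) v = v) :
    v ∈ fixed (ρ.comp (MM fr).subtype) := by
  let K : Subgroup (Om (q2 Q)) :=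
    { carrier := {g | ρ g v = v}
      one_mem' := by simp
      mul_mem' := fun {a b} (ha : ρ a v = v) (hb : ρ b v = v) => by
        show ρ (a * b) v = v
        rw [map_mul, Module.End.mul_apply, hb, ha]
      inv_mem' := fun {a} (ha : ρ a v = v) => by
        show ρ a⁻¹ v = v
        conv_lhs => rw [← ha]
        rw [apply_of_apply_apply] }
  have hle : MM fr ≤ K := by
    refine (Subgroup.closure_le _).2 ?_
    rintro g ((⟨a, rfl⟩ | hg) | ⟨g, ⟨c, hc⟩, rfl⟩)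
    · exact h1 a
    · rw [Set.mem_singleton_iff] at hg
      subst hg
      exact h2
    · exact h3 g c hc
  exact (mem_fixM fr ρ).2 fun g hg => hle hg

theorem fixM_le_mult :
    finrank ℂ (fixed (ρ.comp (MM fr).subtype)) ≤ mm fr ρ 0 := by
  refine Submodule.finrank_mono fun v hv => ?_
  exact (mem_range_E_zero _ _ ρ).2 (fixM_gen fr ρ hv).1

/-- Either the bound holds or all weights are singular, each once. -/
theorem bound_or_pure (hρ : ∃ g, ρ g ≠ 1) (T : ℕ) (h0 : T ≤ 2 * (cls (q2 Q) (0 : F)).card)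
    (h1 : ∀ a : F, a ≠ 0 → T ≤ (cls (q2 Q) a).card) :
    mm fr ρ 0 + T ≤ finrank ℂ V ∨
      (Pure fr ρ ∧ (∃ h, fixRep (q2_nondeg fr.nd) (three_le_U2 fr.nd fr.one_le) ρ h ≠ 1) ∧
        finrank ℂ V = mm fr ρ 0 + (cls (q2 Q) (0 : F)).card) := by
  classical
  by_cases hle : mm fr ρ 0 + T ≤ finrank ℂ V
  · exact Or.inl hle
  right
  have hn := q2_nondeg fr.nd
  have h3 := three_le_U2 fr.nd fr.one_le
  have h5 := five_le_U2 fr.nd fr.one_le
  obtain ⟨g, hg⟩ := hρ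
  have hsing : ∀ w : U2 F A, w ≠ 0 → mm fr ρ w ≠ 0 → q2 Q w = 0 ∧ mm fr ρ w = 1 := by
    intro w hw hm
    have hb : mm fr ρ 0 + (cls (q2 Q) (q2 Q w)).card * mm fr ρ w ≤ finrank ℂ V :=
      add_card_mul_le hn h3 ρ h5 hw
    by_cases hs : q2 Q w = 0
    · refine ⟨hs, ?_⟩
      by_contra hne
      rw [hs] at hb
      have h2 : (cls (q2 Q) (0 : F)).card * 2 ≤ (cls (q2 Q) (0 : F)).card * mm fr ρ w :=
        Nat.mul_le_mul_left _ (by omega)
      exact hle (by omega)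
    · exfalso
      have h2 : (cls (q2 Q) (q2 Q w)).card * 1 ≤ (cls (q2 Q) (q2 Q w)).card * mm fr ρ w :=
        Nat.mul_le_mul_left _ (by omega)
      have := h1 _ hs
      exact hle (by omega)
  obtain ⟨u, hu0, hu⟩ : ∃ u : U2 F A, u ≠ 0 ∧ mm fr ρ u ≠ 0 := by
    by_contra hcon
    push Not at hcon
    exact hg (eq_one_of_mult hn h3 ρ hcon g)
  have hpure : Pure fr ρ := by
    intro w hw
    by_cases hs : q2 Q w = 0
    · rw [if_pos hs]
      have hmem : w ∈ cls (q2 Q) (q2 Q u) := by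
        rw [(hsing u hu0 hu).1]
        exact mem_cls.2 ⟨hw, 1, one_ne_zero, by rw [hs, mul_zero]⟩
      exact (mult_of_mem_cls hn h3 ρ h5 hu0 hmem).trans (hsing u hu0 hu).2
    · rw [if_neg hs]
      by_contra hm
      exact hs (hsing w hw hm).1
  refine ⟨hpure, fixRep_ne_one fr.nd fr.one_le ρ {0} (Finset.singleton_nonempty _)
    (fun w hw => by simpa using hpure w hw) (fun ξ w hw h1' h2' =>
      fix_tel_of_card fr.nd fr.one_le ρ ⟨fr.lam, fr.lam_sq⟩ ?_ h1' h2' ξ), ?_⟩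
  · obtain ⟨-, hw0, hv⟩ := Finset.mem_filter.1 hw
    rw [show mult _ _ ρ w = mm fr ρ w from rfl, hpure w hw0, if_pos (by simpa using hv)]
  · rw [finrank_eq_sum hn h3 ρ, ← Finset.add_sum_erase _ _ (Finset.mem_univ (0 : U2 F A))]
    refine congrArg₂ (· + ·) rfl ?_
    rw [Finset.sum_congr rfl fun w hw => show mult hn h3 ρ w = if q2 Q w = 0 then 1 else 0 from
      hpure w (Finset.ne_of_mem_erase hw), Finset.sum_boole, Nat.cast_id]
    congr 1
    ext w
    simp only [Finset.mem_filter, Finset.mem_erase, Finset.mem_univ, and_true, mem_cls, mul_zero]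
    exact and_congr_right fun _ => ⟨fun h => ⟨1, one_ne_zero, h⟩, fun ⟨_, _, h⟩ => h⟩

theorem card_A : Fintype.card A = Fintype.card F ^ finrank F A := Module.card_eq_pow_finrank

omit [Fintype F] [DecidableEq F] [DecidableEq A] in
theorem zc_q2 [Fintype F] {i : ℕ} (hd : finrank F A = 2 * i + 1)
    (hz : zc Q 0 = Fintype.card F ^ (2 * i)) :
    zc (hyp Q) 0 = Fintype.card F ^ (2 * i + 2) ∧ zc (q2 Q) 0 = Fintype.card F ^ (2 * i + 4) := by
  have hA' : Nat.card A = Fintype.card F ^ (2 * i + 1) := by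
    rw [Nat.card_eq_fintype_card, Module.card_eq_pow_finrank (K := F), hd]
  have hA2 : Nat.card (F × F × A) = Fintype.card F ^ (2 * i + 3) := by
    rw [Nat.card_prod, Nat.card_prod, hA', Nat.card_eq_fintype_card]
    ring
  have hq : 1 ≤ Fintype.card F := Fintype.card_pos
  have h1 : zc (hyp Q) 0 = Fintype.card F ^ (2 * i + 2) := by
    rw [zc_hyp, hz, hA', Nat.card_eq_fintype_card]
    zify [hq]
    ring
  refine ⟨h1, ?_⟩
  rw [q2, zc_hyp, h1, hA2, Nat.card_eq_fintype_card]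
  zify [hq]
  ring

include fr in
/-- The counts below the bound. -/
theorem cls_bounds {i : ℕ} (hd : finrank F A = 2 * i + 1)
    (hz : zc Q 0 = Fintype.card F ^ (2 * i)) :
    (cls (q2 Q) (0 : F)).card + 1 = Fintype.card F ^ (2 * i + 4) ∧
    Bk (Fintype.card F) (i + 3) ≤ 2 * (cls (q2 Q) (0 : F)).card ∧
    ∀ a : F, a ≠ 0 → Bk (Fintype.card F) (i + 3) ≤ (cls (q2 Q) a).card := by
  have hq := fr.five
  set q := Fintype.card F with hqdef
  have hA' : Nat.card A = q ^ (2 * i + 1) := by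
    rw [Nat.card_eq_fintype_card, Module.card_eq_pow_finrank (K := F), hd]
  have hA2 : Nat.card (F × F × A) = q ^ (2 * i + 3) := by
    rw [Nat.card_prod, Nat.card_prod, hA', Nat.card_eq_fintype_card, ← hqdef]
    ring
  have h0 := card_cls_zero (q2 Q)
  rw [(zc_q2 hd hz).2, ← hqdef] at h0
  have hB2 : Bk q (i + 2) + 2 ≤ q ^ (2 * i + 4) := by
    rw [show 2 * i + 4 = 2 * (i + 2) by ring]
    exact Bk_le hq _ (by omega)
  have hB : Bk q (i + 3) = Bk q (i + 2) + q ^ (2 * i + 4) := by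
    rw [Bk_succ, show 2 * (i + 2) = 2 * i + 4 by ring]
  refine ⟨h0, by omega, fun a ha => ?_⟩
  have hz2 : (q - 1) * q ^ (2 * i + 3) ≤ zc (q2 Q) a := by
    rw [q2, zc_hyp, hA2, Nat.card_eq_fintype_card]
    exact Nat.le_add_left _ _
  have hc := two_zc_le_card_cls (q2 Q) ha ⟨fr.lam, fr.lam_sq⟩
  have hB1 : Bk q (i + 2) ≤ q ^ (2 * i + 3) := by
    have h1 := Bk_le hq (i + 1) (by omega)
    rw [show 2 * (i + 1) = 2 * i + 2 by ring] at h1
    have h2 : 2 * q ^ (2 * i + 2) ≤ q ^ (2 * i + 3) := by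
      rw [pow_succ' q (2 * i + 2)]
      exact Nat.mul_le_mul_right _ (by omega)
    rw [Bk_succ, show 2 * (i + 1) = 2 * i + 2 by ring]
    omega
  have hp : q ^ (2 * i + 4) = q * q ^ (2 * i + 3) := by rw [← pow_succ']
  have h4 : (q + 1) * q ^ (2 * i + 3) ≤ 2 * ((q - 1) * q ^ (2 * i + 3)) := by
    rw [← mul_assoc]
    exact Nat.mul_le_mul_right _ (by omega)
  rw [add_mul, one_mul, ← hp] at h4
  omega

section Step

variable {A₀ : Type*} [AddCommGroup A₀] [Module F A₀] [FiniteDimensional F A₀] [Fintype A₀]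
  [DecidableEq A₀] {Q₀ : QuadraticForm F A₀}

theorem Frame.succ (fr₀ : Frame Q₀) : Frame (hyp Q₀) where
  nd := hyp_nondegenerate fr₀.nd
  dim := by
    obtain ⟨t, ht⟩ := fr₀.dim
    exact ⟨t + 1, by simp [ht]; ring⟩
  odd := fr₀.odd
  five := fr₀.five

/-- The previous group inside the next one. -/
noncomputable def levUp (Q₀ : QuadraticForm F A₀) : Om (q2 Q₀) →* Om (q2 (hyp Q₀)) :=
  lev (Q := q2 (hyp Q₀))

theorem levUp_apply (g : Om (q2 Q₀)) (z : VV F (F × F × A₀)) :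
    app (levUp Q₀ g) z = (z.1, z.2.1, app g z.2.2) := rfl

theorem levUp_lev (g : commutator (OQ (q2 Q₀))) :
    levUp Q₀ (lev g) = lev2 (Q := hyp Q₀) g := rfl

theorem levUp_Xe_eig (fr₀ : Frame Q₀) (a : U2 F A₀) :
    ((Xe fr₀ a : OQ (hyp (q2 Q₀))) : VV F A₀ ≃ₗ[F] VV F A₀) (hv₀ F (U2 F A₀)) =
      (1 : F) • hv₀ F (U2 F A₀) := by
  show app (Xe fr₀ a) (hv₀ F (U2 F A₀)) = _
  rw [app_xel]
  simp [polar_hyp, hyp_apply, Prod.ext_iff]

theorem levUp_t12_eig (fr₀ : Frame Q₀) :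
    app (t12 fr₀) (hv₀ F (U2 F A₀)) = (fr₀.lam : F) • hv₀ F (U2 F A₀) := by
  rw [t12, app_el fr₀.nd (t12_mem fr₀), glMap_apply, coe_dg, coe_dg_inv]
  simp [Prod.ext_iff]

theorem levUp_lev_eig (g : commutator (OQ (q2 Q₀))) :
    app (lev g) (hv₀ F (U2 F A₀)) = (1 : F) • hv₀ F (U2 F A₀) := by
  rw [lev_apply]
  simp [Prod.ext_iff]

theorem levUp_t12 (fr₀ : Frame Q₀) : levUp Q₀ (t12 fr₀) = t23 fr₀.succ := by
  refine ext_app fun z => ?_
  rw [levUp_apply, t23, app_el (fr₀.succ).nd (t23_mem fr₀.succ), glMap_apply, coe_dg, coe_dg_inv,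
    t12, app_el fr₀.nd (t12_mem fr₀), glMap_apply, coe_dg, coe_dg_inv]
  have hl : (fr₀.succ).lam = fr₀.lam := rfl
  simp [hl, Prod.ext_iff]

variable (fr₀ : Frame Q₀) {W : Type} [AddCommGroup W] [Module ℂ W]
  (ρ' : Representation ℂ (Om (q2 (hyp Q₀))) W)

/-- The representation on the fixed space of the first radical. -/
noncomputable def down : Representation ℂ (Om (q2 Q₀)) (LinearMap.range (EE fr₀.succ ρ' 0)) :=
  fixRep (q2_nondeg (fr₀.succ).nd) (three_le_U2 (fr₀.succ).nd (fr₀.succ).one_le) ρ'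

theorem coe_down (g : Om (q2 Q₀)) (v : LinearMap.range (EE fr₀.succ ρ' 0)) :
    (down fr₀ ρ' g v : W) = ρ' (levUp Q₀ g) v := rfl

/-- The vectors fixed one level below. -/
noncomputable def lowerFix : Submodule ℂ W :=
  (fixed ((down fr₀ ρ').comp (MM fr₀).subtype)).map (LinearMap.range (EE fr₀.succ ρ' 0)).subtype

theorem mem_lowerFix {v : W} (h1 : ∀ a, ρ' (Xe fr₀.succ a) v = v)
    (h2 : ∀ a, ρ' (levUp Q₀ (Xe fr₀ a)) v = v) (h3 : ρ' (levUp Q₀ (t12 fr₀)) v = v)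
    (h4 : ∀ (g : commutator (OQ (q2 Q₀))) (c : F),
      ((g : OQ (q2 Q₀)) : U2 F A₀ ≃ₗ[F] U2 F A₀) (vP F A₀) = c • vP F A₀ →
      ρ' (levUp Q₀ (lev g)) v = v) : v ∈ lowerFix fr₀ ρ' := by
  refine ⟨⟨v, (mem_range_E_zero _ _ ρ').2 h1⟩, ?_, rfl⟩
  refine mem_fixM_of fr₀ (down fr₀ ρ') (fun a => Subtype.ext ?_) (Subtype.ext ?_)
    (fun g c hg => Subtype.ext ?_)
  · rw [coe_down]; exact h2 a
  · rw [coe_down]; exact h3
  · rw [coe_down]; exact h4 g c hg

theorem fixM_le_lowerFix : fixed (ρ'.comp (MM fr₀.succ).subtype) ≤ lowerFix fr₀ ρ' := by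
  intro v hv
  obtain ⟨h1, -, h3⟩ := fixM_gen fr₀.succ ρ' hv
  exact mem_lowerFix fr₀ ρ' h1 (fun a => h3 _ 1 (levUp_Xe_eig fr₀ a))
    (h3 _ (fr₀.lam : F) (levUp_t12_eig fr₀)) fun g c _ => h3 _ 1 (levUp_lev_eig g)

/-- A vector fixed one level below and not at this level. -/
theorem exists_lower [FiniteDimensional ℂ W] (h3 : 3 ≤ finrank F (F × F × A₀))
    (hpure : Pure fr₀.succ ρ') :
    ∃ u ∈ lowerFix fr₀ ρ', u ∉ fixed (ρ'.comp (MM fr₀.succ).subtype) := by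
  classical
  obtain ⟨u, huB, hu0, huJ, hu12, hu23⟩ := exists_u fr₀.succ ρ' hpure
  rw [Bsp, mem_range_Kp] at huB
  refine ⟨u, mem_lowerFix fr₀ ρ' huB.1 (fun a => huB.2.1 a) (by rw [levUp_t12]; exact hu23)
    fun g c hg => huJ _ ⟨g, ⟨?_, c, hg⟩, (levUp_lev g).symm⟩, fun h => hu0 ?_⟩
  · rw [derived_eq_top (fr₀.succ).nd (fr₀.succ).lam (fr₀.succ).lam_sq h3]
    exact Subgroup.mem_top _
  · have h' := (fixM_gen fr₀.succ ρ' h).2.1
    rw [hu12] at h'
    have h2 : (2 : ℂ) • u = 0 := by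
      rw [two_smul]
      nth_rw 1 [← h']
      exact neg_add_cancel u
    exact (smul_eq_zero.1 h2).resolve_left two_ne_zero

/-- The inductive step. -/
theorem bound_step {i : ℕ} (hd : finrank F A₀ = 2 * i + 1)
    (hz : zc Q₀ 0 = Fintype.card F ^ (2 * i)) (ih : Bound fr₀ (i + 3)) :
    Bound fr₀.succ (i + 4) := by
  classical
  intro V _ _ _ ρ hρ
  have hd' : finrank F (F × F × A₀) = 2 * (i + 1) + 1 := by simp [hd]; ring
  have hz' : zc (hyp Q₀) 0 = Fintype.card F ^ (2 * (i + 1)) := (zc_q2 hd hz).1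
  obtain ⟨hX, hT0, hT⟩ := cls_bounds fr₀.succ hd' hz'
  have hfm := fixM_le_mult fr₀.succ ρ
  rcases bound_or_pure fr₀.succ ρ hρ (Bk (Fintype.card F) (i + 4)) hT0 hT with h | ⟨hpure, hC, hdim⟩
  · omega
  have hσ : Bk (Fintype.card F) (i + 3) +
      finrank ℂ (fixed ((down fr₀ ρ).comp (MM fr₀).subtype)) ≤ mm fr₀.succ ρ 0 :=
    ih _ (down fr₀ ρ) hC
  obtain ⟨u, hu, hu'⟩ := exists_lower fr₀ ρ (by rw [hd']; omega) hpure
  have hlt := Submodule.finrank_lt_finrank_of_lt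
    (lt_of_le_of_ne (fixM_le_lowerFix fr₀ ρ) fun e => hu' (by rw [e]; exact hu))
  rw [lowerFix, Submodule.finrank_map_subtype_eq] at hlt
  have hB : Bk (Fintype.card F) (i + 4) =
      Bk (Fintype.card F) (i + 3) + Fintype.card F ^ (2 * (i + 1) + 4) := by
    rw [Bk_succ, show 2 * (i + 3) = 2 * (i + 1) + 4 by ring]
  omega

end Step

end CfsgLib.OrthDeg.Odd
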