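import Cfsg.Agent.Lib.Geo.OrthMinDeg.OddSpan

/-!
# Traces on the fixed space of the radical

Owner: helper23.
-/

set_option autoImplicit false
set_option maxHeartbeats 1000000

namespace CfsgLib.OrthDeg.Odd

open Module CfsgLib.Classical.Quad CfsgLib.SLMinDeg
open QuadraticMap (polar polarBilin)

/-- An endomorphism commuting with a projection of rank one is a scalar on it. -/
theorem mul_eq_trace_smul {V : Type*} [AddCommGroup V] [Module ℂ V] [FiniteDimensional ℂ V]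
    (g P : Module.End ℂ V) (hP : P * P = P) (h1 : LinearMap.trace ℂ V P = 1)
    (hc : g * P = P * g) : g * P = LinearMap.trace ℂ V (g * P) • P := by
  have hproj : LinearMap.IsProj (LinearMap.range P) P :=
    ⟨fun v => LinearMap.mem_range_self _ v, fun v hv => by
      obtain ⟨u, rfl⟩ := hv
      exact LinearMap.congr_fun hP u⟩
  have hr : finrank ℂ (LinearMap.range P) = 1 := by
    have := hproj.trace
    rw [h1] at this
    exact_mod_cast this.symm
  obtain ⟨v₀, -, hspan⟩ := finrank_eq_one_iff'.1 hr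
  have hgmem : g v₀ ∈ LinearMap.range P := by
    obtain ⟨u, hu⟩ := v₀.2
    exact ⟨g u, by rw [← hu]; exact (LinearMap.congr_fun hc u).symm⟩
  obtain ⟨c, hc'⟩ := hspan ⟨_, hgmem⟩
  have hc'' : c • (v₀ : V) = g v₀ := congrArg Subtype.val hc'
  have hgP : g * P = c • P := by
    refine LinearMap.ext fun v => ?_
    obtain ⟨d, hd⟩ := hspan ⟨P v, LinearMap.mem_range_self _ v⟩
    have hd' : d • (v₀ : V) = P v := congrArg Subtype.val hd
    rw [Module.End.mul_apply, LinearMap.smul_apply, ← hd', map_smul, ← hc'', smul_comm]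
  rw [hgP, map_smul, h1, smul_eq_mul, mul_one]

variable {F : Type*} [Field F] [Fintype F] [DecidableEq F] {A : Type*} [AddCommGroup A]
  [Module F A] [FiniteDimensional F A] [Fintype A] [DecidableEq A] {Q : QuadraticForm F A}
  (fr : Frame Q) {V : Type*} [AddCommGroup V] [Module ℂ V]
  (ρ : Representation ℂ (Om (q2 Q)) V)

/-- A root element of the second and third vectors. -/
noncomputable def X12 (ξ : F) : Om (q2 Q) := lev (xel' fr.nd fr.one_le ((0, ξ, 0) : F × F × A))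

theorem X12_eq (ξ : F) : X12 fr ξ = el fr.nd (tv 1 2 h12 ξ) :=
  (el_tv12 fr.nd fr.one_le fr.hmu ξ).symm

theorem X12_add (ξ η : F) : X12 fr (ξ + η) = X12 fr ξ * X12 fr η := by
  rw [X12, X12, X12, ← map_mul]
  refine congrArg lev ?_
  rw [xel', xel', xel', ← xel_add]
  congr 1
  simp

theorem X12_zero : X12 fr 0 = 1 :=
  mul_left_cancel (a := X12 fr 0) (by rw [← X12_add, add_zero, mul_one])

theorem X12_normalises (ξ : F) :
    X12 fr ξ ∈ Subgroup.normalizer (R3 fr.nd fr.one_le : Set (Om (q2 Q))) := by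
  rw [X12_eq]
  exact ((mem_NG fr.nd fr.one_le).1 (tv_NG fr.nd fr.one_le fr.hmu _ _ _ _)).2

/-- The elements commuting with the projection to the fixed space of the first radical. -/
def cZero : Subgroup (Om (q2 Q)) where
  carrier := {g | ρ g * EE fr ρ 0 = EE fr ρ 0 * ρ g}
  one_mem' := by simp
  mul_mem' := fun {a b} ha hb => by
    show ρ (a * b) * _ = _ * ρ (a * b)
    rw [map_mul, mul_assoc, hb, ← mul_assoc, ha, mul_assoc]
  inv_mem' := fun {a} ha => by
    show ρ a⁻¹ * _ = _ * ρ a⁻¹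
    calc ρ a⁻¹ * EE fr ρ 0 = ρ a⁻¹ * (EE fr ρ 0 * ρ a) * ρ a⁻¹ := by
          rw [mul_assoc, mul_assoc, ← map_mul ρ a, mul_inv_cancel, map_one, mul_one]
      _ = EE fr ρ 0 * ρ a⁻¹ := by
          rw [← show ρ a * EE fr ρ 0 = EE fr ρ 0 * ρ a from ha, ← mul_assoc (ρ a⁻¹) (ρ a),
            ← map_mul, inv_mul_cancel, map_one, one_mul]

theorem lev_mem_cZero (h : commutator (OQ (q2 Q))) : lev h ∈ cZero fr ρ := by
  have := moves_lev fr ρ h 0
  simp only [map_zero] at this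
  exact this

theorem xel_mem_cZero (a : U2 F A) : Xe fr a ∈ cZero fr ρ := moves_xel fr ρ a 0

theorem R3_le_cZero : R3 fr.nd fr.one_le ≤ cZero fr ρ := by
  refine (Subgroup.closure_le _).2 ?_
  rintro g (⟨a, -, -, rfl⟩ | ⟨a, -, rfl⟩ | ⟨a, rfl⟩)
  · exact xel_mem_cZero fr ρ a
  · exact lev_mem_cZero fr ρ _
  · exact lev_mem_cZero fr ρ _

theorem PR_comm_E0 : EE fr ρ 0 * PR fr ρ = PR fr ρ * EE fr ρ 0 := by
  classical
  simp only [PR, avg, mul_smul_comm, smul_mul_assoc, Finset.mul_sum, Finset.sum_mul]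
  refine congrArg _ (Finset.sum_congr rfl fun g _ => ?_)
  exact (R3_le_cZero fr ρ g.2).symm

/-- The projection on the vectors fixed by both radicals. -/
noncomputable def P0 : Module.End ℂ V := PR fr ρ * EE fr ρ 0

theorem P0_idem : P0 fr ρ * P0 fr ρ = P0 fr ρ := by
  rw [P0, mul_assoc, ← mul_assoc (EE fr ρ 0), PR_comm_E0, mul_assoc (PR fr ρ) (EE fr ρ 0),
    E_idem, ← mul_assoc, avg_idem]

theorem commute_P0 {g : Om (q2 Q)} (hn : g ∈ Subgroup.normalizer (R3 fr.nd fr.one_le : Set (Om (q2 Q))))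
    (hz : g ∈ cZero fr ρ) : ρ g * P0 fr ρ = P0 fr ρ * ρ g := by
  rw [P0, ← mul_assoc, apply_avg_comm ρ _ fun h hh => (Subgroup.mem_normalizer_iff.1 hn h).1 hh,
    mul_assoc, show ρ g * EE fr ρ 0 = EE fr ρ 0 * ρ g from hz, mul_assoc]

/-- The projection on an eigenspace of the root group of the second and third vectors. -/
noncomputable def PK (c : F) : Module.End ℂ V :=
  ((Fintype.card F : ℕ) : ℂ)⁻¹ • ∑ ξ, chi0 F (-(ξ * c)) • ρ (X12 fr ξ)

theorem card_F_ne : ((Fintype.card F : ℕ) : ℂ) ≠ 0 := Nat.cast_ne_zero.2 Fintype.card_ne_zero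

theorem sum_chi_mul (c : F) :
    ∑ ξ : F, chi0 F (ξ * c) = if c = 0 then ((Fintype.card F : ℕ) : ℂ) else 0 := by
  split_ifs with h
  · simp [h, AddChar.map_zero_eq_one]
  · exact sum_chi0_comp (LinearMap.mulRight F c) fun h0 => h (by
      simpa using LinearMap.congr_fun h0 1)

theorem X12_mul_PK (η c : F) : ρ (X12 fr η) * PK fr ρ c = chi0 F (η * c) • PK fr ρ c := by
  rw [PK, mul_smul_comm, smul_comm (chi0 F (η * c))]
  congr 1
  rw [Finset.mul_sum, Finset.smul_sum]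
  refine Fintype.sum_equiv (Equiv.addLeft η) _ _ fun ξ => ?_
  rw [mul_smul_comm, ← map_mul, ← X12_add, Equiv.coe_addLeft, smul_smul, ← AddChar.map_add_eq_mul]
  congr 2
  ring

theorem sum_PK : ∑ c, PK fr ρ c = 1 := by
  simp only [PK, ← Finset.smul_sum]
  rw [Finset.sum_comm, Finset.sum_eq_single (0 : F)]
  · simp only [zero_mul, neg_zero, AddChar.map_zero_eq_one, one_smul, Finset.sum_const,
      Finset.card_univ, X12_zero, map_one, ← Nat.cast_smul_eq_nsmul ℂ, smul_smul,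
      inv_mul_cancel₀ card_F_ne]
  · intro ξ _ hξ
    rw [← Finset.sum_smul, show ∑ c : F, chi0 F (-(ξ * c)) = ∑ c : F, chi0 F (c * (-ξ)) from
      Finset.sum_congr rfl fun c _ => by congr 1; ring, sum_chi_mul, if_neg (neg_ne_zero.2 hξ),
      zero_smul]
  · simp

theorem PK_mul_PK (c d : F) : PK fr ρ c * PK fr ρ d = if c = d then PK fr ρ d else 0 := by
  conv_lhs => rw [PK, smul_mul_assoc, Finset.sum_mul]
  simp only [smul_mul_assoc, X12_mul_PK, smul_smul, ← AddChar.map_add_eq_mul, ← Finset.sum_smul]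
  rw [show ∑ ξ : F, chi0 F (-(ξ * c) + ξ * d) = ∑ ξ : F, chi0 F (ξ * (d - c)) from
    Finset.sum_congr rfl fun ξ _ => by congr 1; ring, sum_chi_mul]
  by_cases h : c = d
  · rw [if_pos (sub_eq_zero.2 h.symm), if_pos h, inv_mul_cancel₀ card_F_ne, one_smul]
  · rw [if_neg (sub_ne_zero.2 (Ne.symm h)), if_neg h, mul_zero, zero_smul]

theorem PK_comm_P0 (c : F) : PK fr ρ c * P0 fr ρ = P0 fr ρ * PK fr ρ c := by
  simp only [PK, smul_mul_assoc, mul_smul_comm, Finset.sum_mul, Finset.mul_sum]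
  refine congrArg _ (Finset.sum_congr rfl fun ξ _ => ?_)
  rw [commute_P0 fr ρ (X12_normalises fr ξ) (lev_mem_cZero fr ρ _)]

/-- The pieces of the fixed space of both radicals. -/
noncomputable def Kp (c : F) : Module.End ℂ V := PK fr ρ c * P0 fr ρ

theorem Kp_idem (c : F) : Kp fr ρ c * Kp fr ρ c = Kp fr ρ c := by
  rw [Kp, mul_assoc, ← mul_assoc (P0 fr ρ), ← PK_comm_P0, mul_assoc (PK fr ρ c) (P0 fr ρ),
    P0_idem, ← mul_assoc, PK_mul_PK, if_pos rfl]

theorem Kp_orth {c d : F} (h : c ≠ d) : Kp fr ρ c * Kp fr ρ d = 0 := by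
  rw [Kp, Kp, mul_assoc, ← mul_assoc (P0 fr ρ), ← PK_comm_P0, mul_assoc (PK fr ρ d) (P0 fr ρ),
    P0_idem, ← mul_assoc, PK_mul_PK, if_neg h, zero_mul]

theorem sum_Kp : ∑ c, Kp fr ρ c = P0 fr ρ := by
  simp only [Kp, ← Finset.sum_mul, sum_PK, one_mul]

theorem dg_X12 {a b c : Fˣ} (hd : dg a b c ∈ SG fr.nd) (ξ : F) :
    el fr.nd (dg a b c) * X12 fr ξ = X12 fr ((b : F) * ξ * (c : F)⁻¹) * el fr.nd (dg a b c) := by
  rw [X12, dg_xel' fr.nd fr.one_le hd, X12]
  congr 3
  simp [Prod.ext_iff]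
  ring

theorem dg_PK {a b c : Fˣ} (hd : dg a b c ∈ SG fr.nd) (d : F) :
    ρ (el fr.nd (dg a b c)) * PK fr ρ d =
      PK fr ρ (d * (c : F) * (b : F)⁻¹) * ρ (el fr.nd (dg a b c)) := by
  simp only [PK, mul_smul_comm, smul_mul_assoc, Finset.mul_sum, Finset.sum_mul]
  refine congrArg _ (Fintype.sum_equiv (Equiv.mulLeft₀ ((b : F) * (c : F)⁻¹)
    (mul_ne_zero b.ne_zero (inv_ne_zero c.ne_zero))) _ _ fun ξ => ?_)
  rw [show Equiv.mulLeft₀ ((b : F) * (c : F)⁻¹) (mul_ne_zero b.ne_zero (inv_ne_zero c.ne_zero)) ξ =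
    (b : F) * (c : F)⁻¹ * ξ from rfl, ← map_mul, ← map_mul, dg_X12 fr hd]
  have hb := b.ne_zero
  have hc := c.ne_zero
  congr 2
  · congr 1
    field_simp
  · congr 2
    ring

theorem dg_normalises {a b c : Fˣ} (hd : dg a b c ∈ SG fr.nd) :
    el fr.nd (dg a b c) ∈ Subgroup.normalizer (R3 fr.nd fr.one_le : Set (Om (q2 Q))) :=
  ((mem_NG fr.nd fr.one_le).1 (dg_NG fr.nd fr.one_le hd)).2

theorem dg_cZero {a b c : Fˣ} (hd : dg a b c ∈ SG fr.nd) :
    el fr.nd (dg a b c) ∈ cZero fr ρ := by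
  have h := moves_dg fr ρ hd 0
  rwa [show dgTau a b c (0 : U2 F A) = 0 by simp [dgTau]] at h

theorem dg_Kp {a b c : Fˣ} (hd : dg a b c ∈ SG fr.nd) (d : F) :
    ρ (el fr.nd (dg a b c)) * Kp fr ρ d =
      Kp fr ρ (d * (c : F) * (b : F)⁻¹) * ρ (el fr.nd (dg a b c)) := by
  rw [Kp, ← mul_assoc, dg_PK fr ρ hd, mul_assoc,
    commute_P0 fr ρ (dg_normalises fr hd) (dg_cZero fr ρ hd), ← mul_assoc, Kp]

/-- The trace on the part of weight zero. -/
noncomputable def tr0 (g : Om (q2 Q)) : ℂ := LinearMap.trace ℂ V (ρ g * P0 fr ρ)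

/-- The trace on the common fixed space. -/
noncomputable def trB (g : Om (q2 Q)) : ℂ := LinearMap.trace ℂ V (ρ g * Kp fr ρ 0)

/-- The dimension of the part of weight zero. -/
noncomputable def cf : ℕ := finrank ℂ (LinearMap.range (P0 fr ρ))

/-- The dimension of the common fixed space. -/
noncomputable def bd : ℕ := finrank ℂ (LinearMap.range (Kp fr ρ 0))

theorem trace_conj {g h c : Om (q2 Q)} (hc : c ∈ Subgroup.normalizer (R3 fr.nd fr.one_le : Set (Om (q2 Q))))
    (e : c * g = h * c) :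
    LinearMap.trace ℂ V (ρ h * PR fr ρ) = LinearMap.trace ℂ V (ρ g * PR fr ρ) := by
  have hh : h = c * g * c⁻¹ := by rw [e, mul_inv_cancel_right]
  rw [hh, map_mul ρ, map_mul ρ, mul_assoc (ρ c * ρ g),
    apply_avg_comm ρ _ fun x hx => (Subgroup.mem_normalizer_iff.1 (inv_mem hc) x).1 hx,
    ← mul_assoc, LinearMap.trace_mul_comm, ← mul_assoc, ← mul_assoc, ← map_mul ρ, inv_mul_cancel,
    map_one, one_mul]

variable [FiniteDimensional ℂ V]

theorem trace_P0 : LinearMap.trace ℂ V (P0 fr ρ) = (cf fr ρ : ℂ) := by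
  have h : LinearMap.IsProj (LinearMap.range (P0 fr ρ)) (P0 fr ρ) :=
    ⟨fun v => LinearMap.mem_range_self _ v, fun v hv => by
      obtain ⟨u, rfl⟩ := hv
      exact LinearMap.congr_fun (P0_idem fr ρ) u⟩
  exact h.trace

theorem trace_Kp0 : LinearMap.trace ℂ V (Kp fr ρ 0) = (bd fr ρ : ℂ) := by
  have h : LinearMap.IsProj (LinearMap.range (Kp fr ρ 0)) (Kp fr ρ 0) :=
    ⟨fun v => LinearMap.mem_range_self _ v, fun v hv => by
      obtain ⟨u, rfl⟩ := hv
      exact LinearMap.congr_fun (Kp_idem fr ρ 0) u⟩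
  exact h.trace

theorem tr0_fixed {g : Om (q2 Q)} (h : ∀ v, ρ g (P0 fr ρ v) = P0 fr ρ v) :
    tr0 fr ρ g = cf fr ρ := by
  rw [tr0, show ρ g * P0 fr ρ = P0 fr ρ from LinearMap.ext h, trace_P0]

variable (hpure : Pure fr ρ)
include hpure

/-- The weights of the span. -/
def spanIdx (F : Type*) [Field F] [Fintype F] [DecidableEq F] : Finset (F × F) :=
  Finset.univ.erase 0

/-- The trace on the fixed space of the radical. -/
theorem trace_PR {g : Om (q2 Q)} {τ : U2 F A → U2 F A} (hg : Moves fr ρ g τ) :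
    LinearMap.trace ℂ V (ρ g * PR fr ρ) = tr0 fr ρ g +
      ∑ p ∈ (spanIdx F).filter (fun p => τ (wsp F A p.1 p.2) = wsp F A p.1 p.2),
        LinearMap.trace ℂ V (ρ g * EE fr ρ (wsp F A p.1 p.2)) := by
  classical
  set S : Finset (U2 F A) := (spanIdx F).image fun p => wsp F A p.1 p.2
  have hinj : Function.Injective fun p : F × F => wsp F A p.1 p.2 := fun p r h =>
    Prod.ext (congrArg (fun w : U2 F A => w.1) h) (congrArg (fun w : U2 F A => w.2.2.1) h)
  have h1 : PR fr ρ = P0 fr ρ + ∑ w ∈ S, EE fr ρ w := by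
    conv_lhs => rw [← mul_one (PR fr ρ), ← sum_E (q2_nondeg fr.nd)
      (three_le_U2 fr.nd fr.one_le) ρ, Finset.mul_sum]
    rw [← Finset.add_sum_erase _ _ (Finset.mem_univ (0 : U2 F A))]
    refine congrArg₂ (· + ·) rfl ?_
    symm
    refine Finset.sum_subset_zero_on_sdiff ?_ ?_ ?_
    · intro w hw
      simp only [S, Finset.mem_image, spanIdx, Finset.mem_erase] at hw
      obtain ⟨p, ⟨hp, -⟩, rfl⟩ := hw
      refine Finset.mem_erase.2 ⟨fun h => hp ?_, Finset.mem_univ _⟩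
      refine hinj (h.trans ?_)
      simp [wsp, Prod.ext_iff]
    · intro w hw
      rw [Finset.mem_sdiff, Finset.mem_erase] at hw
      refine (PR_line_zero fr ρ hpure hw.1.1 fun hs => hw.2 ?_).1
      refine Finset.mem_image.2 ⟨(w.1, w.2.2.1), Finset.mem_erase.2 ⟨fun h => hw.1.1 ?_,
        Finset.mem_univ _⟩, (eq_wsp hs).symm⟩
      rw [eq_wsp hs]
      simp only [Prod.ext_iff, Prod.fst_zero, Prod.snd_zero] at h
      simp [wsp, h.1, h.2, Prod.ext_iff]
    · intro w hw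
      simp only [S, Finset.mem_image, spanIdx, Finset.mem_erase] at hw
      obtain ⟨p, ⟨hp, -⟩, rfl⟩ := hw
      refine (PR_line fr ρ hpure (fun h => hp ?_) ⟨rfl, rfl, rfl⟩).symm
      exact hinj (h.trans (by simp [wsp, Prod.ext_iff]))
  rw [h1, mul_add, map_add, Finset.mul_sum, map_sum]
  refine congrArg₂ (· + ·) rfl ?_
  rw [Finset.sum_image hinj.injOn]
  refine (Finset.sum_filter_of_ne (p := fun p : F × F => τ (wsp F A p.1 p.2) = wsp F A p.1 p.2)
    fun p _ hne => ?_).symm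
  by_contra h
  exact hne (trace_eq_zero_of_move _ _ (EE fr ρ (τ (wsp F A p.1 p.2))) (E_idem _ _ ρ _) (hg _)
    (E_orth _ _ ρ (Ne.symm h)))

omit [FiniteDimensional ℂ V] in
theorem trace_line [FiniteDimensional ℂ V] {p : F × F} (hp : p ≠ 0) {g : Om (q2 Q)} {c : ℂ}
    (h : ∀ v ∈ LinearMap.range (EE fr ρ (wsp F A p.1 p.2)), ρ g v = c • v) :
    LinearMap.trace ℂ V (ρ g * EE fr ρ (wsp F A p.1 p.2)) = c := by
  have hne : wsp F A p.1 p.2 ≠ 0 := fun e => hp (Prod.ext (congrArg (fun w : U2 F A => w.1) e)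
    (congrArg (fun w : U2 F A => w.2.2.1) e))
  rw [trace_of_scalar _ _ c h, trace_E, show mult _ _ ρ (wsp F A p.1 p.2) = 1 from
    line_eq_one fr ρ hpure hne (wsp_singular _ _), Nat.cast_one, mul_one]

omit [FiniteDimensional ℂ V] hpure in
theorem filter_snd_zero {τ : U2 F A → U2 F A}
    (h : ∀ p : F × F, p ≠ 0 → (τ (wsp F A p.1 p.2) = wsp F A p.1 p.2 ↔ p.2 = 0)) :
    ((spanIdx F).filter (fun p => τ (wsp F A p.1 p.2) = wsp F A p.1 p.2)).card =
      Fintype.card F - 1 := by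
  rw [show (spanIdx F).filter (fun p => τ (wsp F A p.1 p.2) = wsp F A p.1 p.2) =
    ((Finset.univ : Finset F).erase 0).image fun α => (α, (0 : F)) by
      ext ⟨α, β⟩
      simp only [Finset.mem_filter, spanIdx, Finset.mem_erase, Finset.mem_univ, and_true,
        Finset.mem_image, Prod.mk.injEq]
      constructor
      · rintro ⟨hp, he⟩
        have hβ := (h (α, β) hp).1 he
        simp only at hβ
        exact ⟨α, fun ha => hp (by simp [ha, hβ]), rfl, hβ.symm⟩
      · rintro ⟨a, ha, rfl, rfl⟩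
        exact ⟨fun e => ha (congrArg Prod.fst e), (h (a, 0) fun e => ha (congrArg Prod.fst e)).2 rfl⟩,
    Finset.card_image_of_injective _ fun a b e => congrArg Prod.fst e,
    Finset.card_erase_of_mem (Finset.mem_univ _), Finset.card_univ]

theorem dim_PR : finrank ℂ (LinearMap.range (PR fr ρ)) + 1 =
    cf fr ρ + Fintype.card F * Fintype.card F := by
  have h := trace_PR fr ρ hpure (g := 1) (τ := id) (fun w => by simp)
  simp only [id_eq, Finset.filter_true] at h
  rw [tr0_fixed fr ρ (fun v => by simp),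
    Finset.sum_congr (s₁ := spanIdx F) rfl fun p hp =>
      trace_line fr ρ hpure (Finset.mem_erase.1 hp).1 (g := 1) (c := 1) fun v _ => by simp] at h
  rw [map_one, one_mul, trace_avg] at h
  simp only [one_mul, Finset.sum_const, spanIdx, Finset.card_erase_of_mem (Finset.mem_univ _),
    Finset.card_univ, Fintype.card_prod, nsmul_eq_mul, mul_one] at h
  have : finrank ℂ (LinearMap.range (PR fr ρ)) = cf fr ρ + (Fintype.card F * Fintype.card F - 1) := by
    exact_mod_cast h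
  have := Nat.mul_pos (Fintype.card_pos (α := F)) (Fintype.card_pos (α := F))
  omega

theorem tr0_X12 {ξ : F} (hξ : ξ ≠ 0) :
    tr0 fr ρ (X12 fr ξ) = (cf fr ρ : ℂ) - Fintype.card F := by
  have hq : 1 ≤ Fintype.card F := Fintype.card_pos
  -- a conjugate root element in the first radical
  have hx := trace_PR fr ρ hpure (moves_xel fr ρ ((0, ξ, (0, 0, 0)) : U2 F A))
  simp only [id_eq, Finset.filter_true] at hx
  rw [tr0_fixed fr ρ (fun v => by
      rw [P0, ← PR_comm_E0, Module.End.mul_apply, ← Module.End.mul_apply, xel_mul_E]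
      simp [psi_zero_left]),
    Finset.sum_congr (s₁ := spanIdx F) rfl fun p hp =>
      trace_line fr ρ hpure (Finset.mem_erase.1 hp).1 (c := chi0 F (ξ * p.1)) fun v hv => by
        rw [← EE_apply_of_mem fr ρ hv, ← Module.End.mul_apply, xel_mul_E, psi_p']
        rfl] at hx
  have hsum : ∑ p ∈ spanIdx F, chi0 F (ξ * p.1) = -1 := by
    have h : ∑ p : F × F, chi0 F (ξ * p.1) = 0 := by
      rw [Fintype.sum_prod_type, Finset.sum_comm]
      refine Finset.sum_eq_zero fun y _ => ?_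
      rw [Finset.sum_congr rfl fun x _ => by rw [mul_comm ξ x], sum_chi_mul, if_neg hξ]
    rw [← Finset.add_sum_erase _ _ (Finset.mem_univ (0 : F × F))] at h
    simp only [Prod.fst_zero, mul_zero, AddChar.map_zero_eq_one] at h
    rw [spanIdx]
    linear_combination h
  rw [hsum] at hx
  have hy := trace_PR fr ρ hpure
    (moves_lev fr ρ (xel' fr.nd fr.one_le ((0, ξ, 0) : F × F × A)))
  have hτ : ∀ p : F × F, p ≠ 0 →
      (((xel' fr.nd fr.one_le ((0, ξ, 0) : F × F × A) : OQ (q2 Q)) : U2 F A ≃ₗ[F] U2 F A)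
        (wsp F A p.1 p.2) = wsp F A p.1 p.2 ↔ p.2 = 0) := fun p _ => by
    rw [show ((xel' fr.nd fr.one_le ((0, ξ, 0) : F × F × A) : OQ (q2 Q)) : U2 F A ≃ₗ[F] U2 F A)
      (wsp F A p.1 p.2) = _ from xo_apply (hyp_nondegenerate fr.nd) _ _]
    simp [wsp, polar_hyp, hyp_apply, Prod.ext_iff, hξ]
  rw [Finset.sum_congr (s₁ := (spanIdx F).filter (fun p : F × F =>
      ((xel' fr.nd fr.one_le ((0, ξ, 0) : F × F × A) : OQ (q2 Q)) : U2 F A ≃ₗ[F] U2 F A)
        (wsp F A p.1 p.2) = wsp F A p.1 p.2)) rfl fun p hp => trace_line fr ρ hpure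
      (Finset.mem_erase.1 (Finset.mem_filter.1 hp).1).1 (c := 1) fun v hv => by
        obtain ⟨hp1, hp2⟩ := Finset.mem_filter.1 hp
        have hp0 := (Finset.mem_erase.1 hp1).1
        have hβ := (hτ p hp0).1 hp2
        have hα : p.1 ≠ 0 := fun ha => hp0 (Prod.ext ha hβ)
        rw [hβ, ← smul_vP, show p.1 = ((Units.mk0 _ hα : Fˣ) : F) from rfl] at hv
        rw [one_smul]
        exact xel'_line fr ρ hpure _ _ v hv,
    Finset.sum_const, filter_snd_zero hτ, nsmul_eq_mul, mul_one, Nat.cast_sub hq] at hy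
  have hc : LinearMap.trace ℂ V (ρ (X12 fr ξ) * PR fr ρ) =
      LinearMap.trace ℂ V (ρ (Xe fr ((0, ξ, (0, 0, 0)) : U2 F A)) * PR fr ρ) := by
    refine trace_conj fr ρ (c := el fr.nd cy)
      ((mem_NG fr.nd fr.one_le).1 (cy_NG fr.nd fr.one_le fr.hmu)).2 ?_
    rw [show Xe fr ((0, ξ, (0, 0, 0)) : U2 F A) = el fr.nd (tv 0 1 h01 ξ) from
      (el_tv01 fr.nd fr.one_le fr.hmu ξ).symm, X12_eq, ← el_mul fr.nd (cy_mem fr.nd fr.hmu)
      (tv_mem fr.nd fr.hmu _ _ _ _), ← el_mul fr.nd (tv_mem fr.nd fr.hmu _ _ _ _)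
      (cy_mem fr.nd fr.hmu), cy_tv01]
  rw [show ρ (lev (xel' fr.nd fr.one_le ((0, ξ, 0) : F × F × A))) = ρ (X12 fr ξ) from rfl, hc,
    hx] at hy
  rw [X12]
  push_cast at hy
  linear_combination -hy

theorem trace_Kp {c : F} :
    LinearMap.trace ℂ V (Kp fr ρ c) =
      if c = 0 then (cf fr ρ : ℂ) - ((Fintype.card F : ℂ) - 1) else 1 := by
  have e : LinearMap.trace ℂ V (Kp fr ρ c) = ((Fintype.card F : ℕ) : ℂ)⁻¹ *
      ∑ ξ : F, chi0 F (-(ξ * c)) * tr0 fr ρ (X12 fr ξ) := by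
    rw [Kp, PK, smul_mul_assoc, map_smul, smul_eq_mul, Finset.sum_mul, map_sum]
    simp [tr0]
  rw [e, ← Finset.add_sum_erase _ _ (Finset.mem_univ (0 : F)), zero_mul, neg_zero,
    AddChar.map_zero_eq_one, one_mul, X12_zero,
    tr0_fixed fr ρ (g := 1) (fun v => by simp),
    Finset.sum_congr rfl fun ξ hξ => by rw [tr0_X12 fr ρ hpure (Finset.ne_of_mem_erase hξ)],
    ← Finset.sum_mul]
  have hs : ∑ ξ ∈ Finset.univ.erase (0 : F), chi0 F (-(ξ * c)) =
      (if c = 0 then ((Fintype.card F : ℕ) : ℂ) else 0) - 1 := by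
    have h := sum_chi_mul (-c)
    rw [← Finset.add_sum_erase _ _ (Finset.mem_univ (0 : F))] at h
    simp only [zero_mul, neg_zero, AddChar.map_zero_eq_one, neg_eq_zero, mul_neg] at h
    linear_combination h
  rw [hs]
  have hne := card_F_ne (F := F)
  split_ifs <;> field_simp <;> ring

theorem bd_add : bd fr ρ + (Fintype.card F - 1) = cf fr ρ := by
  have h := trace_Kp fr ρ hpure (c := 0)
  rw [if_pos rfl, trace_Kp0] at h
  have : ((bd fr ρ + (Fintype.card F - 1) : ℕ) : ℂ) = (cf fr ρ : ℂ) := by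
    rw [Nat.cast_add, h, Nat.cast_sub Fintype.card_pos]
    simp
  exact_mod_cast this

end CfsgLib.OrthDeg.Odd
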