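import Cfsg.Agent.Lib.Geo.OrthMinDeg.OddTrace
import Cfsg.Agent.Lib.Geo.OrthMinDeg.OddSL

/-!
# The common fixed space and the Weyl operators

Owner: helper23.
-/

set_option autoImplicit false
set_option maxHeartbeats 1000000

namespace CfsgLib.OrthDeg.Odd

open Module CfsgLib.Classical.Quad CfsgLib.SLMinDeg
open QuadraticMap (polar polarBilin)

variable {F : Type*} [Field F] [Fintype F] [DecidableEq F] {A : Type*} [AddCommGroup A]
  [Module F A] [FiniteDimensional F A] [Fintype A] [DecidableEq A] {Q : QuadraticForm F A}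
  (fr : Frame Q) {V : Type*} [AddCommGroup V] [Module ℂ V]
  (ρ : Representation ℂ (Om (q2 Q)) V)

theorem mem_SG_tv (i j : Fin 3) (h : i ≠ j) (c : F) : tv i j h c ∈ SG fr.nd :=
  tv_mem fr.nd fr.hmu i j h c

theorem tv_normalises (i j : Fin 3) (h : i ≠ j) (c : F) :
    el fr.nd (tv i j h c) ∈ Subgroup.normalizer (R3 fr.nd fr.one_le : Set (Om (q2 Q))) :=
  ((mem_NG fr.nd fr.one_le).1 (tv_NG fr.nd fr.one_le fr.hmu i j h c)).2

/-- Move an element past another. -/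
theorem apply_of_rel {g h h' : Om (q2 Q)} (e : g * h = h' * g) (v : V) :
    ρ g (ρ h v) = ρ h' (ρ g v) := by
  rw [← Module.End.mul_apply, ← map_mul, e, map_mul, Module.End.mul_apply]

theorem apply_of_eq {a b c d : Om (q2 Q)} (e : a * b = c * d) (v : V) :
    ρ a (ρ b v) = ρ c (ρ d v) := by
  rw [← Module.End.mul_apply, ← map_mul, e, map_mul, Module.End.mul_apply]

theorem fixed_of_normalises {g : Om (q2 Q)}
    (hg : g ∈ Subgroup.normalizer (R3 fr.nd fr.one_le : Set (Om (q2 Q)))) {v : V}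
    (hv : ∀ x ∈ R3 fr.nd fr.one_le, ρ x v = v) :
    ∀ x ∈ R3 fr.nd fr.one_le, ρ x (ρ g v) = ρ g v := by
  intro x hx
  have hmem : g⁻¹ * x * g ∈ R3 fr.nd fr.one_le := by
    have := (Subgroup.mem_normalizer_iff.1 (inv_mem hg) x).1 hx
    rwa [inv_inv] at this
  rw [← apply_of_rel ρ (h := g⁻¹ * x * g) (g := g) (by group), hv _ hmem]

/-- The part of an element of the first radical. -/
theorem xel_split (a : U2 F A) : Xe fr a = Xe fr ((a.1, 0, (a.2.2.1, 0, a.2.2.2.2)) : U2 F A) *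
    el fr.nd (tv 0 1 h01 a.2.1) * el fr.nd (tv 0 2 h02 a.2.2.2.1) := by
  rw [el_tv01 fr.nd fr.one_le fr.hmu, el_tv02 fr.nd fr.one_le fr.hmu, ← xel_add, ← xel_add]
  congr 1
  simp [Prod.ext_iff]

theorem xel'_split (a : F × F × A) : lev (xel' fr.nd fr.one_le a) =
    lev (xel' fr.nd fr.one_le ((a.1, 0, a.2.2) : F × F × A)) * X12 fr a.2.1 := by
  rw [X12, ← map_mul]
  refine congrArg lev ?_
  rw [xel', xel', xel', ← xel_add]
  congr 1
  simp [Prod.ext_iff]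

/-- The vectors fixed by all three radicals. -/
def InB (v : V) : Prop :=
  (∀ a, ρ (Xe fr a) v = v) ∧ (∀ a, ρ (lev (xel' fr.nd fr.one_le a)) v = v) ∧
    ∀ a, ρ (lev (xel'' fr.nd fr.one_le a)) v = v

theorem fixed_R3_of_inB {v : V} (h : InB fr ρ v) : ∀ g ∈ R3 fr.nd fr.one_le, ρ g v = v := by
  intro g hg
  induction hg using Subgroup.closure_induction with
  | mem g hg =>
    rcases hg with ⟨a, -, -, rfl⟩ | ⟨a, -, rfl⟩ | ⟨a, rfl⟩
    · exact h.1 a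
    · exact h.2.1 a
    · exact h.2.2 a
  | one => simp
  | mul g k _ _ ihg ihk => rw [map_mul, Module.End.mul_apply, ihk, ihg]
  | inv g _ ihg =>
    conv_lhs => rw [← ihg]
    rw [apply_of_apply_apply]

/-- Vectors fixed by the small generators. -/
theorem inB_of {v : V} (hR : ∀ g ∈ R3 fr.nd fr.one_le, ρ g v = v)
    (h1 : ∀ c, ρ (el fr.nd (tv 0 1 h01 c)) v = v) (h2 : ∀ c, ρ (el fr.nd (tv 0 2 h02 c)) v = v)
    (h3 : ∀ c, ρ (X12 fr c) v = v) : InB fr ρ v := by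
  refine ⟨fun a => ?_, fun a => ?_, fun a => hR _ (xel''_mem_R3 _ _ a)⟩
  · rw [xel_split fr, map_mul, map_mul, Module.End.mul_apply, Module.End.mul_apply, h2, h1,
      hR _ (xel_mem_R3 _ _ (by rfl) (by rfl))]
  · rw [xel'_split fr, map_mul, Module.End.mul_apply, h3, hR _ (xel'_mem_R3 _ _ (by rfl))]

theorem E0_of_fixed {v : V} (h : ∀ a, ρ (Xe fr a) v = v) : EE fr ρ 0 v = v :=
  EE_apply_of_mem fr ρ ((mem_range_E_zero _ _ ρ).2 h)

theorem P0_of_fixed {v : V} (hR : ∀ g ∈ R3 fr.nd fr.one_le, ρ g v = v)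
    (h : ∀ a, ρ (Xe fr a) v = v) : P0 fr ρ v = v := by
  rw [P0, Module.End.mul_apply, E0_of_fixed fr ρ h, avg_apply_of_fixed ρ _ hR]

theorem PK_zero_of_fixed {v : V} (h : ∀ c, ρ (X12 fr c) v = v) : PK fr ρ 0 v = v := by
  rw [PK, LinearMap.smul_apply, LinearMap.sum_apply, Finset.sum_congr rfl fun ξ _ => by
    rw [LinearMap.smul_apply, h, mul_zero, neg_zero, AddChar.map_zero_eq_one, one_smul],
    Finset.sum_const, Finset.card_univ, ← Nat.cast_smul_eq_nsmul ℂ, smul_smul,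
    inv_mul_cancel₀ card_F_ne, one_smul]

theorem inB_Kp (v : V) : InB fr ρ (Kp fr ρ 0 v) := by
  have hP : Kp fr ρ 0 v = P0 fr ρ (Kp fr ρ 0 v) := by
    rw [Kp, ← Module.End.mul_apply, ← mul_assoc, ← PK_comm_P0, mul_assoc, P0_idem]
  have hx : ∀ a, ρ (Xe fr a) (Kp fr ρ 0 v) = Kp fr ρ 0 v := fun a => by
    rw [hP, P0, ← PR_comm_E0, Module.End.mul_apply, ← Module.End.mul_apply, xel_mul_E,
      psi_zero_left, one_smul]
  refine inB_of fr ρ (fun g hg => ?_) (fun c => ?_) (fun c => ?_) fun c => ?_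
  · rw [hP, P0, Module.End.mul_apply, avg_fixed ρ _ _ g hg]
  · rw [el_tv01 fr.nd fr.one_le fr.hmu]; exact hx _
  · rw [el_tv02 fr.nd fr.one_le fr.hmu]; exact hx _
  · rw [Kp, Module.End.mul_apply, ← Module.End.mul_apply, X12_mul_PK, mul_zero,
      AddChar.map_zero_eq_one, one_smul]

theorem Kp_of_inB {v : V} (h : InB fr ρ v) : Kp fr ρ 0 v = v := by
  rw [Kp, Module.End.mul_apply, P0_of_fixed fr ρ (fixed_R3_of_inB fr ρ h) h.1,
    PK_zero_of_fixed fr ρ fun c => h.2.1 _]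

theorem mem_range_Kp {v : V} : v ∈ LinearMap.range (Kp fr ρ 0) ↔ InB fr ρ v := by
  refine ⟨?_, fun h => ⟨v, Kp_of_inB fr ρ h⟩⟩
  rintro ⟨u, rfl⟩
  exact inB_Kp fr ρ u

/-- The fixed space of all three radicals. -/
noncomputable def Bsp : Submodule ℂ V := LinearMap.range (Kp fr ρ 0)

theorem dg_mem_Bsp {a b c : Fˣ} (hd : dg a b c ∈ SG fr.nd) {v : V} (hv : v ∈ Bsp fr ρ) :
    ρ (el fr.nd (dg a b c)) v ∈ Bsp fr ρ := by
  obtain ⟨u, rfl⟩ := hv
  refine ⟨ρ (el fr.nd (dg a b c)) u, ?_⟩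
  have := LinearMap.congr_fun (dg_Kp fr ρ hd 0) u
  rw [zero_mul, zero_mul] at this
  exact this.symm

theorem J_normalises {j : Om (q2 Q)} (hj : j ∈ J Q) :
    j ∈ Subgroup.normalizer (R3 fr.nd fr.one_le : Set (Om (q2 Q))) := by
  obtain ⟨g, ⟨-, μ, hμ⟩, rfl⟩ := hj
  refine mem_normalizer_of_monomial fr.nd fr.one_le (Equiv.refl _) ![1, 1, μ] fun i => ?_
  rw [app_lev2]
  fin_cases i
  · simp [bv, Prod.ext_iff]
  · simp [bv, Prod.ext_iff]
  · show ((0 : F), (0 : F), ((0 : F), (0 : F), app g (hv₀ F A))) = _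
    rw [hμ]
    simp [bv, Prod.ext_iff]

theorem J_mem_Bsp {j : Om (q2 Q)} (hj : j ∈ J Q) {v : V} (hv : v ∈ Bsp fr ρ) :
    ρ j v ∈ Bsp fr ρ := by
  rw [Bsp, mem_range_Kp] at hv ⊢
  have hR := fixed_of_normalises fr ρ (J_normalises fr hj) (fixed_R3_of_inB fr ρ hv)
  obtain ⟨g, hg, rfl⟩ := hj
  refine ⟨fun a => ?_, fun a => ?_, fun a => hR _ (xel''_mem_R3 _ _ a)⟩
  · have e : Xe fr a * lev2 g = lev2 g *
        Xe fr (((lev g : OQ (q2 Q)) : U2 F A ≃ₗ[F] U2 F A).symm a) := by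
      show Xe fr a * lev (lev g) = lev (lev g) * _
      rw [lev_xel, LinearEquiv.apply_symm_apply]
    rw [apply_of_eq ρ e, hv.1]
  · have e : lev (xel' fr.nd fr.one_le a) * lev2 g = lev2 g *
        lev (xel' fr.nd fr.one_le (((g : OQ (hyp Q)) : (F × F × A) ≃ₗ[F] F × F × A).symm a)) := by
      show lev _ * lev (lev g) = lev (lev g) * lev _
      rw [← map_mul, ← map_mul]
      refine congrArg lev ?_
      rw [xel', xel', lev_xel, LinearEquiv.apply_symm_apply]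
    rw [apply_of_eq ρ e, hv.2.1]

/-- The inner group commutes with the matrices of the first two vectors. -/
theorem J_comm {g : Om Q} {M : GL (Fin 3) F} (hM : M ∈ SG fr.nd)
    (h0 : ∀ i : Fin 3, ((M : Matrix (Fin 3) (Fin 3) F) i 2 = if i = 2 then 1 else 0) ∧
      ((M : Matrix (Fin 3) (Fin 3) F) 2 i = if i = 2 then 1 else 0) ∧
      (((M⁻¹ : GL (Fin 3) F) : Matrix (Fin 3) (Fin 3) F) i 2 = if i = 2 then 1 else 0) ∧
      (((M⁻¹ : GL (Fin 3) F) : Matrix (Fin 3) (Fin 3) F) 2 i = if i = 2 then 1 else 0)) :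
    el fr.nd M * lev2 g = lev2 g * el fr.nd M := by
  refine ext_app fun z => ?_
  rw [app_mul, app_mul, app_lev2, app_lev2, app_el fr.nd hM, app_el fr.nd hM, glMap_apply,
    glMap_apply]
  obtain ⟨a1, a2, a3, a4⟩ := h0 0
  obtain ⟨b1, b2, b3, b4⟩ := h0 1
  obtain ⟨c1, c2, c3, c4⟩ := h0 2
  simp [a1, a2, a3, a4, b1, b2, b3, b4, c1, c2, c3, c4]

theorem J_comm_tv01 {j : Om (q2 Q)} (hj : j ∈ J Q) (c : F) :
    el fr.nd (tv 0 1 h01 c) * j = j * el fr.nd (tv 0 1 h01 c) := by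
  obtain ⟨g, -, rfl⟩ := hj
  refine J_comm fr (mem_SG_tv fr _ _ _ _) fun i => ?_
  rw [coe_tv, coe_tv_inv]
  fin_cases i <;> simp [Matrix.transvection, Matrix.single_apply]

theorem J_comm_tv10 {j : Om (q2 Q)} (hj : j ∈ J Q) (c : F) :
    el fr.nd (tv 1 0 h01.symm c) * j = j * el fr.nd (tv 1 0 h01.symm c) := by
  obtain ⟨g, -, rfl⟩ := hj
  refine J_comm fr (mem_SG_tv fr _ _ _ _) fun i => ?_
  rw [coe_tv, coe_tv_inv]
  fin_cases i <;> simp [Matrix.transvection, Matrix.single_apply]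

theorem J_comm_dg {j : Om (q2 Q)} (hj : j ∈ J Q) {a b : Fˣ} (hd : dg a b 1 ∈ SG fr.nd) :
    el fr.nd (dg a b 1) * j = j * el fr.nd (dg a b 1) := by
  obtain ⟨g, -, rfl⟩ := hj
  refine J_comm fr hd fun i => ?_
  rw [coe_dg, coe_dg_inv]
  fin_cases i <;> simp [Matrix.diagonal]

theorem el_wy (i j : Fin 3) (h : i ≠ j) : el fr.nd (wy i j h) =
    el fr.nd (tv i j h 1) * el fr.nd (tv j i h.symm (-1)) * el fr.nd (tv i j h 1) := by
  rw [wy, el_mul fr.nd (mul_mem (mem_SG_tv fr _ _ _ _) (mem_SG_tv fr _ _ _ _))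
    (mem_SG_tv fr _ _ _ _), el_mul fr.nd (mem_SG_tv fr _ _ _ _) (mem_SG_tv fr _ _ _ _)]

theorem J_comm_wy01 {j : Om (q2 Q)} (hj : j ∈ J Q) :
    el fr.nd (wy 0 1 h01) * j = j * el fr.nd (wy 0 1 h01) := by
  rw [el_wy fr, mul_assoc, J_comm_tv01 fr hj, ← mul_assoc, mul_assoc (el fr.nd (tv 0 1 h01 1)),
    J_comm_tv10 fr hj, ← mul_assoc, J_comm_tv01 fr hj]
  simp only [mul_assoc]

/-- The sum over a root group after a Weyl element. -/
noncomputable def WT (i j : Fin 3) (h : i ≠ j) : Module.End ℂ V :=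
  (∑ c, ρ (el fr.nd (tv i j h c))) * ρ (el fr.nd (wy i j h))

theorem WT_apply (i j : Fin 3) (h : i ≠ j) (z : V) :
    WT fr ρ i j h z = ∑ c, ρ (el fr.nd (tv i j h c)) (ρ (el fr.nd (wy i j h)) z) := by
  rw [WT, Module.End.mul_apply, LinearMap.sum_apply]

theorem el_rel {a b c : GL (Fin 3) F} {d : GL (Fin 3) F} (ha : a ∈ SG fr.nd) (hb : b ∈ SG fr.nd)
    (hc : c ∈ SG fr.nd) (hd : d ∈ SG fr.nd) (e : a * b = c * d) :
    el fr.nd a * el fr.nd b = el fr.nd c * el fr.nd d := by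
  rw [← el_mul fr.nd ha hb, ← el_mul fr.nd hc hd, e]

theorem WT_dg (i j : Fin 3) (h : i ≠ j) (a : Fin 3 → Fˣ) {a' b' c' : Fˣ}
    (hd : dg (a 0) (a 1) (a 2) ∈ SG fr.nd) (hd' : dg a' b' c' ∈ SG fr.nd)
    (e : wy i j h * dg a' b' c' = dg (a 0) (a 1) (a 2) * wy i j h) (z : V) :
    WT fr ρ i j h (ρ (el fr.nd (dg a' b' c')) z) =
      ρ (el fr.nd (dg (a 0) (a 1) (a 2))) (WT fr ρ i j h z) := by
  rw [WT_apply, WT_apply, map_sum]
  have hw := wy_mem fr.nd fr.hmu i j h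
  symm
  refine Fintype.sum_equiv ((Equiv.mulRight₀ ((a j : F)⁻¹) (inv_ne_zero (a j).ne_zero)).trans
    (Equiv.mulLeft₀ (a i : F) (a i).ne_zero)) _ _ fun c => ?_
  rw [apply_of_rel ρ (el_rel fr hd (mem_SG_tv fr _ _ _ _) (mem_SG_tv fr _ _ _ _) hd (dg_tv a i j h c)),
    apply_of_rel ρ (el_rel fr hw hd' hd hw e)]
  rw [show (a i : F) * c * (a j : F)⁻¹ = ((Equiv.mulRight₀ ((a j : F)⁻¹) (inv_ne_zero (a j).ne_zero)).trans
    (Equiv.mulLeft₀ (a i : F) (a i).ne_zero)) c from mul_assoc _ _ _]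

theorem WT_injective (i j : Fin 3) (h : i ≠ j) {z : V}
    (hz : ∀ c, ρ (el fr.nd (tv i j h c)) z = z) (h0 : WT fr ρ i j h z = 0) : z = 0 := by
  rw [WT_apply] at h0
  have hw := wy_mem fr.nd fr.hmu i j h
  refine weyl_injective ρ (fun c => el fr.nd (tv i j h c)) (fun a b => ?_)
    (el fr.nd (wy i j h)) (fun a => ?_) (fun a ha => ?_) hz h0
  · rw [tv_add, el_mul fr.nd (mem_SG_tv fr _ _ _ _) (mem_SG_tv fr _ _ _ _)]
  · rw [← el_mul fr.nd hw hw]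
    exact el_rel fr (mem_SG_tv fr _ _ _ _) (mul_mem hw hw) (mul_mem hw hw) (mem_SG_tv fr _ _ _ _)
      (wy_sq i j h a)
  · obtain ⟨d, hd1, hdi, hdj, e⟩ := weyl_rel i j h (Units.mk0 a ha)
    have hdm : dg (d 0) (d 1) (d 2) ∈ SG fr.nd := dg_lam_mem fr ⟨1, by rw [hd1, one_mul]⟩
    refine ⟨((-(Units.mk0 a ha)⁻¹ : Fˣ) : F), el fr.nd (dg (d 0) (d 1) (d 2)),
      ⟨fun x => x * (d j : F) * (d i : F)⁻¹, ?_, fun x => ?_⟩, ?_⟩
    · refine Finite.injective_iff_bijective.1 fun x y hxy => ?_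
      exact mul_right_cancel₀ (d j).ne_zero
        (mul_right_cancel₀ (inv_ne_zero (d i).ne_zero) hxy)
    · refine el_rel fr (mem_SG_tv fr _ _ _ _) hdm hdm (mem_SG_tv fr _ _ _ _) ?_
      rw [dg_tv]
      congr 2
      have := (d i).ne_zero
      have := (d j).ne_zero
      field_simp
    · have hm := mem_SG_tv fr i j h
      rw [← el_mul fr.nd hw (hm a), ← el_mul fr.nd (mul_mem hw (hm a)) hw,
        ← el_mul fr.nd (hm _) hdm, ← el_mul fr.nd (mul_mem (hm _) hdm) hw,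
        ← el_mul fr.nd (mul_mem (mul_mem (hm _) hdm) hw) (hm _)]
      exact congrArg (el fr.nd) e

theorem tv01_NR3 (c : F) {v : V} (hv : ∀ x ∈ R3 fr.nd fr.one_le, ρ x v = v) :
    ∀ x ∈ R3 fr.nd fr.one_le,
      ρ x (ρ (el fr.nd (tv 0 1 h01 c)) v) = ρ (el fr.nd (tv 0 1 h01 c)) v :=
  fixed_of_normalises fr ρ (tv_normalises fr _ _ _ _) hv

theorem WT01_mem {z : V} (hz : z ∈ Bsp fr ρ) : WT fr ρ 0 1 h01 z ∈ Bsp fr ρ := by
  rw [Bsp, mem_range_Kp] at hz ⊢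
  set s := ρ (el fr.nd (wy 0 1 h01)) z with hs
  have hw := wy_mem fr.nd fr.hmu 0 1 h01
  have hsR : ∀ x ∈ R3 fr.nd fr.one_le, ρ x s = s := fixed_of_normalises fr ρ
    ((mem_NG fr.nd fr.one_le).1 (wy01_NG fr.nd fr.one_le fr.hmu)).2 (fixed_R3_of_inB fr ρ hz)
  have hs02 : ∀ c, ρ (el fr.nd (tv 0 2 h02 c)) s = s := fun c => by
    rw [hs, ← apply_of_rel ρ (el_rel fr hw (mem_SG_tv fr _ _ _ _) (mem_SG_tv fr _ _ _ _) hw
      (wy01_tv12 c)), ← X12_eq fr]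
    rw [show ρ (X12 fr c) z = z from hz.2.1 _]
  have hs12 : ∀ c, ρ (X12 fr c) s = s := fun c => by
    have e := wy01_tv02 (-c)
    rw [neg_neg] at e
    rw [hs, X12_eq fr, ← apply_of_rel ρ (el_rel fr hw (mem_SG_tv fr _ _ _ _) (mem_SG_tv fr _ _ _ _)
      hw e), el_tv02 fr.nd fr.one_le fr.hmu]
    rw [show ρ (xel _ _ ((0, 0, (0, -c, 0)) : U2 F A)) z = z from hz.1 _]
  rw [WT_apply]
  refine inB_of fr ρ (fun x hx => ?_) (fun c => ?_) (fun c => ?_) fun c => ?_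
  · rw [map_sum]
    exact Finset.sum_congr rfl fun d _ => tv01_NR3 fr ρ d hsR x hx
  · rw [map_sum]
    refine Fintype.sum_equiv (Equiv.addLeft c) _ _ fun d => ?_
    rw [← Module.End.mul_apply, ← map_mul, Equiv.coe_addLeft, tv_add,
      el_mul fr.nd (mem_SG_tv fr _ _ _ _) (mem_SG_tv fr _ _ _ _)]
  · rw [map_sum]
    refine Finset.sum_congr rfl fun d _ => ?_
    rw [apply_of_rel ρ (g := el fr.nd (tv 0 2 h02 c)) (h' := el fr.nd (tv 0 1 h01 d)) (by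
      rw [el_tv01 fr.nd fr.one_le fr.hmu, el_tv02 fr.nd fr.one_le fr.hmu, ← xel_add, ← xel_add,
        add_comm]), hs02]
  · rw [map_sum]
    refine Finset.sum_congr rfl fun d _ => ?_
    have e : X12 fr c * el fr.nd (tv 0 1 h01 d) =
        el fr.nd (tv 0 1 h01 d) * el fr.nd (tv 0 2 h02 (-(d * c))) * X12 fr c := by
      have hh := lev_xel (q2_nondeg fr.nd) (three_le_U2 fr.nd fr.one_le)
        (xel' fr.nd fr.one_le ((0, c, 0) : F × F × A)) ((0, d, (0, 0, 0)) : U2 F A)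
      rw [← el_tv01 fr.nd fr.one_le fr.hmu] at hh
      rw [X12, hh, el_tv01 fr.nd fr.one_le fr.hmu, el_tv02 fr.nd fr.one_le fr.hmu, ← xel_add]
      congr 2
      rw [show ((xel' fr.nd fr.one_le ((0, c, 0) : F × F × A) : OQ (q2 Q)) : U2 F A ≃ₗ[F] U2 F A)
        ((0, d, (0, 0, 0)) : U2 F A) = _ from xo_apply (hyp_nondegenerate fr.nd) _ _]
      simp [polar_hyp, hyp_apply, Prod.ext_iff]
    rw [← Module.End.mul_apply, ← map_mul, e, map_mul, map_mul, Module.End.mul_apply,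
      Module.End.mul_apply, hs12, hs02]

theorem WT12_mem {z : V} (hz : z ∈ Bsp fr ρ) : WT fr ρ 1 2 h12 z ∈ Bsp fr ρ := by
  rw [Bsp, mem_range_Kp] at hz ⊢
  set s := ρ (el fr.nd (wy 1 2 h12)) z with hs
  have hw := wy_mem fr.nd fr.hmu 1 2 h12
  have hsR : ∀ x ∈ R3 fr.nd fr.one_le, ρ x s = s := fixed_of_normalises fr ρ
    ((mem_NG fr.nd fr.one_le).1 (wy12_NG fr.nd fr.one_le fr.hmu)).2 (fixed_R3_of_inB fr ρ hz)
  have hs01 : ∀ c, ρ (el fr.nd (tv 0 1 h01 c)) s = s := fun c => by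
    rw [hs, ← apply_of_rel ρ (el_rel fr hw (mem_SG_tv fr _ _ _ _) (mem_SG_tv fr _ _ _ _) hw
      (wy12_tv02 c)), el_tv02 fr.nd fr.one_le fr.hmu]
    rw [show ρ (xel _ _ ((0, 0, (0, c, 0)) : U2 F A)) z = z from hz.1 _]
  have hs02 : ∀ c, ρ (el fr.nd (tv 0 2 h02 c)) s = s := fun c => by
    have e := wy12_tv01 (-c)
    rw [neg_neg] at e
    rw [hs, ← apply_of_rel ρ (el_rel fr hw (mem_SG_tv fr _ _ _ _) (mem_SG_tv fr _ _ _ _) hw e),
      el_tv01 fr.nd fr.one_le fr.hmu]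
    rw [show ρ (xel _ _ ((0, -c, (0, 0, 0)) : U2 F A)) z = z from hz.1 _]
  have hsx : ∀ a, ρ (Xe fr a) s = s := fun a => by
    rw [xel_split fr, map_mul, map_mul, Module.End.mul_apply, Module.End.mul_apply, hs02, hs01,
      hsR _ (xel_mem_R3 _ _ (by rfl) (by rfl))]
  rw [WT_apply]
  have hx : ∀ a, ρ (Xe fr a) (∑ d, ρ (el fr.nd (tv 1 2 h12 d)) s) =
      ∑ d, ρ (el fr.nd (tv 1 2 h12 d)) s := fun a => by
    rw [map_sum]
    refine Finset.sum_congr rfl fun d _ => ?_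
    rw [← X12_eq fr]
    have e : Xe fr a * X12 fr d = X12 fr d *
        Xe fr (((xel' fr.nd fr.one_le ((0, d, 0) : F × F × A) : OQ (q2 Q)) :
          U2 F A ≃ₗ[F] U2 F A).symm a) := by
      rw [X12, lev_xel, LinearEquiv.apply_symm_apply]
    rw [apply_of_eq ρ e, hsx]
  refine inB_of fr ρ (fun x hx => ?_) (fun c => ?_) (fun c => ?_) fun c => ?_
  · rw [map_sum]
    exact Finset.sum_congr rfl fun d _ =>
      fixed_of_normalises fr ρ (tv_normalises fr 1 2 h12 d) hsR x hx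
  · rw [el_tv01 fr.nd fr.one_le fr.hmu]; exact hx _
  · rw [el_tv02 fr.nd fr.one_le fr.hmu]; exact hx _
  · rw [map_sum]
    refine Fintype.sum_equiv (Equiv.addLeft c) _ _ fun d => ?_
    rw [← X12_eq fr, ← X12_eq fr, ← Module.End.mul_apply, ← map_mul, Equiv.coe_addLeft, X12_add]

end CfsgLib.OrthDeg.Odd
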