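import Cfsg.Agent.Lib.Geo.OrthMinDeg.Weights

/-!
# Orbits on the weights

Owner: helper23. The multiplicity of a weight depends only on the value of the quadratic form up to
a square factor, which bounds the degree from below.
-/

set_option autoImplicit false

namespace CfsgLib.OrthDeg

open Module CfsgLib.Classical.Quad
open QuadraticMap (polar polarBilin)

variable {F : Type*} [Field F] [Finite F] {U : Type*} [AddCommGroup U] [Module F U]
  [FiniteDimensional F U] [Fintype U] {Q : QuadraticForm F U}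
  (hQ : (polarBilin Q).Nondegenerate) (h3 : 3 ≤ finrank F U)
  {V : Type*} [AddCommGroup V] [Module ℂ V] [FiniteDimensional ℂ V]
  (ρ : Representation ℂ (Om Q) V)

include hQ h3

/-- The multiplicity only depends on the value up to a square factor. -/
theorem mult_eq_of_value (h5 : 5 ≤ finrank F U) {w₁ w₂ : U} (hw₁ : w₁ ≠ 0) (hw₂ : w₂ ≠ 0)
    {μ : F} (hμ : μ ≠ 0) (h : Q w₂ = μ * μ * Q w₁) :
    mult hQ h3 ρ w₂ = mult hQ h3 ρ w₁ := by
  obtain ⟨p, hp0, hp⟩ := exists_singular hQ (by omega)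
  obtain ⟨p', hp', hpp⟩ := exists_partner_of_singular hQ hp hp0
  obtain ⟨K, k, hK⟩ := exists_scaling hQ h3 hp hp' hpp (Units.mk0 μ hμ)⁻¹
  set φ : U → U := fun a => ((((Units.mk0 μ hμ)⁻¹ : Fˣ)) : F) • (k : U ≃ₗ[F] U) a with hφ
  set τ : U → U := fun w => μ • (k : U ≃ₗ[F] U) w with hτdef
  have hφb : Function.Bijective φ := by
    refine Finite.injective_iff_bijective.1 fun a b hab => ?_
    exact (k : U ≃ₗ[F] U).injective (smul_right_injective U (Units.ne_zero _) hab)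
  have hτ : ∀ a w, polar Q (φ a) (τ w) = polar Q a w := fun a w => by
    simp only [φ, τ, polar_smul_left', polar_smul_right', OQ.map_polar, ← mul_assoc,
      Units.val_inv_eq_inv_val, Units.val_mk0, mul_inv_cancel₀ hμ, inv_mul_cancel₀ hμ, one_mul]
  have h1 : mult hQ h3 ρ (τ w₁) = mult hQ h3 ρ w₁ := mult_map hQ h3 ρ K φ τ hφb hK hτ w₁
  have hQτ : Q (τ w₁) = Q w₂ := by rw [hτdef, apply_smul, OQ.map_apply, h]
  have hτ0 : τ w₁ ≠ 0 := smul_ne_zero hμ ((LinearEquiv.map_ne_zero_iff _).2 hw₁)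
  obtain ⟨s, hs, e⟩ : ∃ s ∈ eichGroup hQ, (s : U ≃ₗ[F] U) (τ w₁) = w₂ := by
    by_cases h0 : Q w₂ = 0
    · exact exists_move_singular hQ h5 (hQτ.trans h0) hτ0 h0 hw₂
    · exact exists_move_vector hQ h5 (hQτ ▸ h0) hQτ.symm
  rw [eichGroup_eq_commutator hQ h5] at hs
  rw [← h1, ← e]
  exact mult_lev hQ h3 ρ ⟨s, hs⟩ (τ w₁)

omit hQ h3 in
/-- The non-zero vectors with value a square multiple of `a`. -/
noncomputable def cls (Q : QuadraticForm F U) (a : F) : Finset U := by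
  classical exact Finset.univ.filter fun w => w ≠ 0 ∧ ∃ μ : F, μ ≠ 0 ∧ Q w = μ * μ * a

omit hQ h3 [Finite F] [FiniteDimensional F U] in
theorem mem_cls {a : F} {w : U} : w ∈ cls Q a ↔ w ≠ 0 ∧ ∃ μ : F, μ ≠ 0 ∧ Q w = μ * μ * a := by
  simp [cls]

theorem mult_of_mem_cls (h5 : 5 ≤ finrank F U) {w₀ w : U} (h0 : w₀ ≠ 0)
    (hw : w ∈ cls Q (Q w₀)) : mult hQ h3 ρ w = mult hQ h3 ρ w₀ := by
  obtain ⟨hw0, μ, hμ, h⟩ := mem_cls.1 hw
  exact mult_eq_of_value hQ h3 ρ h5 h0 hw0 hμ h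

/-- The weights in one class, and the fixed space. -/
theorem add_card_mul_le (h5 : 5 ≤ finrank F U) {w₀ : U} (h0 : w₀ ≠ 0) :
    mult hQ h3 ρ 0 + (cls Q (Q w₀)).card * mult hQ h3 ρ w₀ ≤ finrank ℂ V := by
  classical
  have hnot : (0 : U) ∉ cls Q (Q w₀) := fun h => (mem_cls.1 h).1 rfl
  rw [finrank_eq_sum hQ h3 ρ]
  refine le_trans (le_of_eq ?_)
    (Finset.sum_le_univ_sum_of_nonneg (s := insert 0 (cls Q (Q w₀))) fun _ => Nat.zero_le _)
  rw [Finset.sum_insert hnot,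
    Finset.sum_congr rfl fun w hw => mult_of_mem_cls hQ h3 ρ h5 h0 hw, Finset.sum_const,
    smul_eq_mul]

/-- Two classes, and the fixed space. -/
theorem add_card_mul_add_le (h5 : 5 ≤ finrank F U) {u₀ w₀ : U} (hu : u₀ ≠ 0) (hw : w₀ ≠ 0)
    (hd : Disjoint (cls Q (Q u₀)) (cls Q (Q w₀))) :
    mult hQ h3 ρ 0 + (cls Q (Q u₀)).card * mult hQ h3 ρ u₀ +
      (cls Q (Q w₀)).card * mult hQ h3 ρ w₀ ≤ finrank ℂ V := by
  classical
  have hnot : ∀ a, (0 : U) ∉ cls Q a := fun a h => (mem_cls.1 h).1 rfl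
  rw [finrank_eq_sum hQ h3 ρ]
  refine le_trans (le_of_eq ?_) (Finset.sum_le_univ_sum_of_nonneg
    (s := insert 0 (cls Q (Q u₀) ∪ cls Q (Q w₀))) fun _ => Nat.zero_le _)
  rw [Finset.sum_insert (by simp [hnot]), Finset.sum_union hd,
    Finset.sum_congr rfl fun w hw' => mult_of_mem_cls hQ h3 ρ h5 hu hw', Finset.sum_const,
    Finset.sum_congr rfl fun w hw' => mult_of_mem_cls hQ h3 ρ h5 hw hw', Finset.sum_const,
    smul_eq_mul, smul_eq_mul, add_assoc]

omit hQ h3 [Finite F] [FiniteDimensional F U] in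
theorem disjoint_cls_zero {a : F} (ha : a ≠ 0) : Disjoint (cls Q 0) (cls Q a) := by
  refine Finset.disjoint_left.2 fun w h1 h2 => ?_
  obtain ⟨-, μ, -, e⟩ := mem_cls.1 h1
  obtain ⟨-, ν, hν, e'⟩ := mem_cls.1 h2
  rw [e', mul_zero] at e
  simp [hν, ha] at e

end CfsgLib.OrthDeg
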