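import Cfsg.Agent.Lib.Geo.OrthMinDeg.Step
import Cfsg.Agent.Lib.Geo.OrthMinDeg.Tools

/-!
# The class of a long root element

Owner: helper23. Long root elements come from pairs of orthogonal singular vectors, each from
`q (q² - 1)` of them, so the size of the class is known.
-/

set_option autoImplicit false

namespace CfsgLib.OrthDeg

open Module CfsgLib.Classical.Quad
open QuadraticMap (polar polarBilin)

variable {F : Type*} [Field F] [Fintype F] [DecidableEq F] {A : Type*} [AddCommGroup A]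
  [Module F A] [FiniteDimensional F A] [Fintype A] [DecidableEq A] {Q : QuadraticForm F A}
  (hQ : (polarBilin Q).Nondegenerate) (hA : 1 ≤ finrank F A)

/-- Orthogonal singular vectors spanning a plane. -/
abbrev RootPair (Q : QuadraticForm F A) : Type _ :=
  {x : (F × F × U2 F A) × (F × F × U2 F A) // x.1 ≠ 0 ∧ hyp (q2 Q) x.1 = 0 ∧ hyp (q2 Q) x.2 = 0 ∧
    polar (hyp (q2 Q)) x.1 x.2 = 0 ∧ ∀ c : F, x.2 ≠ c • x.1}

theorem eich_ext {W : Type*} [AddCommGroup W] [Module F W] [FiniteDimensional F W]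
    {R : QuadraticForm F W} (hR : (polarBilin R).Nondegenerate) {w w' a a' : W} {h₁ : R w = 0}
    {h₂ : polar R w a = 0} {h₃ : R w' = 0} {h₄ : polar R w' a' = 0} (e₁ : w = w') (e₂ : a = a') :
    eich hR h₁ h₂ = eich hR h₃ h₄ := by
  subst e₁ e₂
  rfl

include hQ hA

/-- The long root element of a pair. -/
noncomputable def rootEl (x : RootPair Q) : Om (q2 Q) :=
  ⟨eich (hyp_nondegenerate (q2_nondeg hQ)) x.2.2.1 x.2.2.2.2.1,
    eich_mem_commutator _ (five_le (three_le_U2 hQ hA)) _ _⟩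

omit [Fintype F] [DecidableEq F] [Fintype A] [DecidableEq A] hA in
/-- The image of a pair under an isometry. -/
def movePair (g : OQ (hyp (q2 Q))) (x : RootPair Q) : RootPair Q :=
  ⟨(ev g x.1.1, ev g x.1.2), (LinearEquiv.map_ne_zero_iff _).2 x.2.1, by
    rw [OQ.map_apply]; exact x.2.2.1, by rw [OQ.map_apply]; exact x.2.2.2.1, by
    rw [OQ.map_polar]; exact x.2.2.2.2.1, fun c h => x.2.2.2.2.2 c ((ev g).injective (by
      rw [map_smul]; exact h))⟩

theorem rootEl_movePair (g : Om (q2 Q)) (x : RootPair Q) :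
    rootEl hQ hA (movePair (g : OQ (hyp (q2 Q))) x) = g * rootEl hQ hA x * g⁻¹ := by
  refine Subtype.ext ?_
  show _ = (g : OQ (hyp (q2 Q))) * eich (hyp_nondegenerate (q2_nondeg hQ)) x.2.2.1 x.2.2.2.2.1 *
    (g : OQ (hyp (q2 Q)))⁻¹
  rw [eich_conj]
  rfl

/-- The base pair. -/
def basePair : RootPair Q :=
  ⟨((1, 0, 0), (0, 0, vP F A)), by simp [Prod.ext_iff], by simp [hyp_apply], by simp [hyp_apply],
    by simp [polar_hyp], fun c h => by simp [Prod.ext_iff] at h⟩

theorem rootEl_base :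
    rootEl hQ hA basePair = xel (q2_nondeg hQ) (three_le_U2 hQ hA) (vP F A) := rfl

/-- The number of pairs on the first vector. -/
theorem card_fibre_first :
    Nat.card {p : F × F × U2 F A // hyp (q2 Q) p = 0 ∧
      polar (hyp (q2 Q)) ((1 : F), (0 : F), (0 : U2 F A)) p = 0 ∧
      ∀ c : F, p ≠ c • ((1 : F), (0 : F), (0 : U2 F A))} =
      Fintype.card F * (zc (q2 Q) 0 - 1) := by
  have e : {p : F × F × U2 F A // hyp (q2 Q) p = 0 ∧
      polar (hyp (q2 Q)) ((1 : F), (0 : F), (0 : U2 F A)) p = 0 ∧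
      ∀ c : F, p ≠ c • ((1 : F), (0 : F), (0 : U2 F A))} ≃
      F × {u : {v : U2 F A // q2 Q v = 0} // u ≠ ⟨0, QuadraticMap.map_zero _⟩} :=
    { toFun := fun p => (p.1.1, ⟨⟨p.1.2.2, by
          obtain ⟨h1, h2, -⟩ := p.2
          simp [polar_hyp] at h2
          rw [hyp_apply, h2, mul_zero, zero_add] at h1
          exact h1⟩, fun h => by
            obtain ⟨-, h2, h3⟩ := p.2
            simp [polar_hyp] at h2
            refine h3 p.1.1 (Prod.ext (by simp) (Prod.ext (by simp [h2]) ?_))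
            simpa using congrArg Subtype.val h⟩)
      invFun := fun p => ⟨(p.1, 0, p.2.1.1), by rw [hyp_apply, mul_zero, zero_add]; exact p.2.1.2,
        by simp [polar_hyp], fun c h => p.2.2 (Subtype.ext (by simpa using congrArg (·.2.2) h))⟩
      left_inv := fun p => by
        obtain ⟨-, h2, -⟩ := p.2
        simp [polar_hyp] at h2
        exact Subtype.ext (Prod.ext rfl (Prod.ext h2.symm rfl))
      right_inv := fun p => rfl }
  rw [Nat.card_congr e, Nat.card_prod, Nat.card_eq_fintype_card (α := F), zc]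
  congr 1
  rw [Nat.card_eq_fintype_card, Nat.card_eq_fintype_card, Fintype.card_subtype_compl,
    Fintype.card_subtype_eq]

theorem exists_move_first {v : F × F × U2 F A} (hv0 : v ≠ 0) (hv : hyp (q2 Q) v = 0) :
    ∃ g : Om (q2 Q), app g ((1 : F), (0 : F), (0 : U2 F A)) = v := by
  have hn := five_le (F := F) (three_le_U2 hQ hA)
  have hH := hyp_nondegenerate (q2_nondeg hQ)
  obtain ⟨s, hs, e⟩ := exists_move_singular hH hn (hv₀_singular (q2 Q))
    (by simp [Prod.ext_iff]) hv hv0
  rw [eichGroup_eq_commutator hH hn] at hs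
  exact ⟨⟨s, hs⟩, e⟩

theorem card_rootPair :
    Nat.card (RootPair Q) =
      (zc (hyp (q2 Q)) 0 - 1) * (Fintype.card F * (zc (q2 Q) 0 - 1)) := by
  classical
  let T : {v : {v : F × F × U2 F A // hyp (q2 Q) v = 0} // v ≠ ⟨0, QuadraticMap.map_zero _⟩} →
      Type _ := fun v => {p : F × F × U2 F A // hyp (q2 Q) p = 0 ∧
        polar (hyp (q2 Q)) v.1.1 p = 0 ∧ ∀ c : F, p ≠ c • v.1.1}
  have e : RootPair Q ≃ Σ v, T v :=
    { toFun := fun x => ⟨⟨⟨x.1.1, x.2.2.1⟩, fun h => x.2.1 (congrArg Subtype.val h)⟩,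
        ⟨x.1.2, x.2.2.2.1, x.2.2.2.2.1, x.2.2.2.2.2⟩⟩
      invFun := fun y => ⟨(y.1.1.1, y.2.1), fun h => y.1.2 (Subtype.ext h), y.1.1.2, y.2.2.1,
        y.2.2.2.1, y.2.2.2.2⟩
      left_inv := fun _ => rfl
      right_inv := fun _ => rfl }
  have hT : ∀ v, Nat.card (T v) = Fintype.card F * (zc (q2 Q) 0 - 1) := by
    intro v
    obtain ⟨g, hg⟩ := exists_move_first hQ hA (fun h => v.2 (Subtype.ext h)) v.1.2
    rw [← card_fibre_first hQ hA]
    refine (Nat.card_congr ((app g).toEquiv.subtypeEquiv fun p => ?_)).symm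
    show _ ↔ hyp (q2 Q) (app g p) = 0 ∧ polar (hyp (q2 Q)) v.1.1 (app g p) = 0 ∧
      ∀ c : F, app g p ≠ c • v.1.1
    rw [← hg, OQ.map_apply, OQ.map_polar]
    refine and_congr_right fun _ => and_congr_right fun _ => forall_congr' fun c => not_congr ?_
    rw [← map_smul, (app g).injective.eq_iff]
  rw [Nat.card_congr e, Nat.card_sigma, Finset.sum_congr rfl fun v _ => hT v, Finset.sum_const,
    smul_eq_mul, Finset.card_univ, Fintype.card_subtype_compl, Fintype.card_subtype_eq]
  simp only [zc, Nat.card_eq_fintype_card]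

/-- The pairs with the base root element are the bases of the plane of determinant one. -/
noncomputable def baseFibreEquiv :
    {x : RootPair Q // rootEl hQ hA x = rootEl hQ hA basePair} ≃
      {z : F × F × (F × F) // z.1 * z.2.1 + (-(z.2.2.1 * z.2.2.2) - 1) = 0} where
  toFun x := ⟨(x.1.1.1.1, x.1.1.2.2.2.1, (x.1.1.1.2.2.1, x.1.1.2.1)), by
    have h := congrArg (fun g : Om (q2 Q) => (app g ((0 : F), (0 : F), vP' F A)).1) x.2
    simp only [rootEl, basePair, app, ev, eich_apply] at h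
    simp [polar_hyp, hyp_apply, x.1.2.2.2.1, x.1.2.2.1] at h
    linear_combination h⟩
  invFun z := ⟨⟨((z.1.1, 0, z.1.2.2.1 • vP F A), (z.1.2.2.2, 0, z.1.2.1 • vP F A)), by
      intro h
      simp [Prod.ext_iff] at h
      have := z.2
      rw [h.1, h.2] at this
      simp at this, by simp [hyp_apply], by simp [hyp_apply], by simp [polar_hyp], fun c h => by
      simp [Prod.ext_iff] at h
      have := z.2
      rw [h.1, h.2] at this
      ring_nf at this
      simp at this⟩, by
    obtain ⟨⟨a, d, b, c⟩, hz⟩ := z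
    refine Subtype.ext (Subtype.ext (LinearEquiv.ext fun w => ?_))
    simp only [rootEl, basePair, eich_apply]
    simp only at hz
    refine Prod.ext ?_ (Prod.ext ?_ (Prod.ext ?_ (Prod.ext ?_ ?_))) <;>
      simp [polar_hyp, hyp_apply]
    · linear_combination (w.2.2.2.1) * hz
    · linear_combination (-w.2.1) * hz⟩
  left_inv x := by
    obtain ⟨⟨⟨v, p⟩, h0, hv, hp, hvp, hne⟩, hx⟩ := x
    have h1 := congrArg (fun g : Om (q2 Q) => app g ((0 : F), (0 : F), vP' F A)) hx
    have h2 := congrArg (fun g : Om (q2 Q) => app g ((0 : F), (1 : F), (0 : U2 F A))) hx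
    simp only [rootEl, basePair, app, ev, eich_apply, hp, zero_mul, sub_zero] at h1 h2
    simp [polar_hyp, hyp_apply] at h1 h2
    obtain ⟨v1, v2, v3, v4, v5⟩ := v
    obtain ⟨p1, p2, p3, p4, p5⟩ := p
    simp only [Prod.mk.injEq, Prod.fst_add, Prod.snd_add, Prod.smul_mk, smul_eq_mul, neg_mul,
      Prod.neg_mk, Prod.mk_add_mk, zero_add] at h1 h2
    obtain ⟨a1, a2, a3, a4, a5⟩ := h1
    obtain ⟨b1, b2, b3, b4, b5⟩ := h2
    have hdet : v1 * p3 - v3 * p1 = 1 := by linear_combination a1 * 1 + 0 * b1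
    refine Subtype.ext (Subtype.ext (Prod.ext ?_ ?_))
    · refine Prod.ext rfl (Prod.ext ?_ (Prod.ext ?_ (Prod.ext ?_ ?_)))
      · show (0 : F) = v2
        linear_combination v2 * hdet - v1 * a2 + v3 * b2
      · show v3 * 1 = v3
        rw [mul_one]
      · show v3 * 0 = v4
        linear_combination v4 * hdet - v1 * a4 + v3 * b4
      · show v3 • (0 : F × F × A) = v5
        have : v5 = v1 • (p3 • v5 + -(v3 • p5)) - v3 • (p1 • v5 + -(v1 • p5)) := by
          conv_lhs => rw [← one_smul F v5, ← hdet]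
          module
        rw [this, a5, b5]
        simp
    · refine Prod.ext rfl (Prod.ext ?_ (Prod.ext ?_ (Prod.ext ?_ ?_)))
      · show (0 : F) = p2
        linear_combination p2 * hdet - p1 * a2 + p3 * b2
      · show p3 * 1 = p3
        rw [mul_one]
      · show p3 * 0 = p4
        linear_combination p4 * hdet - p1 * a4 + p3 * b4
      · show p3 • (0 : F × F × A) = p5
        have : p5 = p1 • (p3 • v5 + -(v3 • p5)) - p3 • (p1 • v5 + -(v1 • p5)) := by
          conv_lhs => rw [← one_smul F p5, ← hdet]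
          module
        rw [this, a5, b5]
        simp
  right_inv z := by
    obtain ⟨⟨a, d, b, c⟩, hz⟩ := z
    refine Subtype.ext ?_
    simp

theorem card_baseFibre :
    Nat.card {x : RootPair Q // rootEl hQ hA x = rootEl hQ hA basePair} =
      Fintype.card F * (Fintype.card F ^ 2 - 1) := by
  rw [Nat.card_congr (baseFibreEquiv hQ hA),
    card_zero_hyp (F := F) fun u : F × F => -(u.1 * u.2) - 1]
  have e : {u : F × F // -(u.1 * u.2) - 1 = 0} ≃ {x : F // x ≠ 0} :=
    { toFun := fun u => ⟨u.1.1, fun h => by have := u.2; rw [h] at this; simp at this⟩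
      invFun := fun x => ⟨(x.1, -x.1⁻¹), by
        rw [mul_neg, neg_neg, mul_inv_cancel₀ x.2, sub_self]⟩
      left_inv := fun u => by
        obtain ⟨⟨a, b⟩, h⟩ := u
        have ha : a ≠ 0 := fun h0 => by rw [h0] at h; simp at h
        refine Subtype.ext (Prod.ext rfl ?_)
        show -a⁻¹ = b
        field_simp
        linear_combination h
      right_inv := fun x => rfl }
  rw [Nat.card_congr e]
  simp only [Nat.card_eq_fintype_card, Fintype.card_prod, Fintype.card_subtype_compl,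
    Fintype.card_subtype_eq]
  have h1 : 1 ≤ Fintype.card F := Fintype.card_pos
  obtain ⟨k, hk⟩ : ∃ k, Fintype.card F = k + 1 := ⟨Fintype.card F - 1, by omega⟩
  rw [hk, Nat.add_sub_cancel, show (k + 1) ^ 2 - 1 = k * k + 2 * k by
    have : (k + 1) ^ 2 = k * k + 2 * k + 1 := by ring
    omega]
  ring

/-- The class of a long root element times the number of pairs giving one. -/
theorem card_class_mul :
    (CfsgLib.CharIntegral.classFinset
        (xel (q2_nondeg hQ) (three_le_U2 hQ hA) (vP F A))).card *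
      (Fintype.card F * (Fintype.card F ^ 2 - 1)) =
    (zc (hyp (q2 Q)) 0 - 1) * (Fintype.card F * (zc (q2 Q) 0 - 1)) := by
  classical
  rw [← card_rootPair hQ hA, ← card_baseFibre hQ hA, ← rootEl_base hQ hA]
  set x₀ := rootEl hQ hA basePair with hx₀
  have hmem : ∀ x : RootPair Q, rootEl hQ hA x ∈ CfsgLib.CharIntegral.classFinset x₀ := by
    intro x
    obtain ⟨g, hg⟩ := exists_move_first hQ hA x.2.1 x.2.2.1
    obtain ⟨u, hu⟩ := (app g).surjective x.1.2
    have h2 : u.2.1 = 0 := by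
      have h := x.2.2.2.2.1
      rw [← hg, ← hu, OQ.map_polar] at h
      simpa [polar_hyp] using h
    have hu0 : q2 Q u.2.2 = 0 := by
      have h := x.2.2.2.1
      rw [← hu, OQ.map_apply, hyp_apply, h2, mul_zero, zero_add] at h
      exact h
    have hune : u.2.2 ≠ 0 := fun h => x.2.2.2.2.2 u.1 (by
      rw [← hu, ← hg, ← map_smul]
      congr 1
      exact Prod.ext (by simp) (Prod.ext (by simp [h2]) (by simp [h])))
    have hn := five_le_U2 hQ hA
    obtain ⟨s, hs, e⟩ := exists_move_singular (q2_nondeg hQ) hn q2_vP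
      (by simp [Prod.ext_iff]) hu0 hune
    rw [eichGroup_eq_commutator (q2_nondeg hQ) hn] at hs
    rw [CfsgLib.CharIntegral.mem_classFinset, isConj_iff]
    refine ⟨g * lev ⟨s, hs⟩, ?_⟩
    rw [← rootEl_movePair]
    refine Subtype.ext ?_
    show _ = eich (hyp_nondegenerate (q2_nondeg hQ)) x.2.2.1 x.2.2.2.2.1
    have hw : ev ((g * lev ⟨s, hs⟩ : Om (q2 Q)) : OQ (hyp (q2 Q))) (basePair (Q := Q)).1.1 = x.1.1 := by
      show app (g * lev ⟨s, hs⟩) ((1 : F), (0 : F), (0 : U2 F A)) = x.1.1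
      rw [app_mul, lev_apply, map_zero, hg]
    have hb : ev ((g * lev ⟨s, hs⟩ : Om (q2 Q)) : OQ (hyp (q2 Q))) (basePair (Q := Q)).1.2 =
        x.1.2 + (-u.1) • x.1.1 := by
      show app (g * lev ⟨s, hs⟩) ((0 : F), (0 : F), vP F A) = _
      rw [app_mul, lev_apply, ← hu, ← hg, ← map_smul, ← map_add]
      congr 1
      refine Prod.ext ?_ (Prod.ext ?_ ?_) <;> simp [e, h2]
    refine Eq.trans ?_ (eich_add_smul (hyp_nondegenerate (q2_nondeg hQ)) x.2.2.1 x.2.2.2.2.1 (-u.1))
    exact eich_ext _ (h₁ := (movePair ((g * lev ⟨s, hs⟩ : Om (q2 Q)) : OQ (hyp (q2 Q))) basePair).2.2.1)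
      (h₂ := (movePair ((g * lev ⟨s, hs⟩ : Om (q2 Q)) : OQ (hyp (q2 Q))) basePair).2.2.2.2.1) hw hb
  haveI : Fintype (RootPair Q) := Fintype.ofFinite _
  rw [Nat.card_eq_fintype_card (α := RootPair Q), ← Finset.card_univ,
    Finset.card_eq_sum_card_fiberwise fun x _ => hmem x]
  rw [Finset.sum_const_nat fun y hy => ?_]
  obtain ⟨g, rfl⟩ := isConj_iff.1 (CfsgLib.CharIntegral.mem_classFinset.1 hy)
  haveI : Fintype {x : RootPair Q // rootEl hQ hA x = x₀} := Fintype.ofFinite _
  rw [Nat.card_eq_fintype_card, Fintype.card_subtype]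
  refine (Finset.card_bij' (fun x _ => movePair (g : OQ (hyp (q2 Q))) x)
    (fun x _ => movePair ((g⁻¹ : Om (q2 Q)) : OQ (hyp (q2 Q))) x) (fun x hx => ?_) (fun x hx => ?_)
    (fun x _ => ?_) fun x _ => ?_).symm
  · simp only [Finset.mem_filter, Finset.mem_univ, true_and] at hx ⊢
    rw [rootEl_movePair, hx]
  · simp only [Finset.mem_filter, Finset.mem_univ, true_and] at hx ⊢
    rw [rootEl_movePair, hx]
    group
  · refine Subtype.ext (Prod.ext ?_ ?_) <;>
      · show app g⁻¹ (app g _) = _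
        rw [← app_mul, inv_mul_cancel]
        rfl
  · refine Subtype.ext (Prod.ext ?_ ?_) <;>
      · show app g (app g⁻¹ _) = _
        rw [← app_mul, mul_inv_cancel]
        rfl

end CfsgLib.OrthDeg
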