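import Cfsg.Agent.Lib.Geo.OrthMinDeg.PlusMinus
import Cfsg.Agent.Lib.Geo.SLMin.Top
import Cfsg.Agent.Lib.Classical.SmallOrtho.Alt

/-!
# The smallest degree for spaces of plus type

Owner: helper23.
-/

set_option autoImplicit false

namespace CfsgLib.OrthDeg

open Module CfsgLib.Classical CfsgLib.Classical.Quad CfsgLib.Classical.SmallOrtho CfsgLib.SLMinDeg
open QuadraticMap (polar polarBilin)
open scoped MatrixGroups

variable {F : Type*} [Field F] [Fintype F]

/-- `SL(4, q)` maps onto `Ω⁺(6, q)`. -/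
theorem exists_surjective_plus_six :
    ∃ f : SL(4, F) →* commutator (OQ (qPlus 3 F)), Function.Surjective f := by
  classical
  have hperf : commutator SL(4, F) = ⊤ := commutator_SL_eq_top (by norm_num)
  set M := wedgeModel F with hM
  set φ := M.hom
  have hQ := qPlus_nondeg (F := F) 3
  have hex : (∃ c : F, c ≠ 0 ∧ c ≠ 1) ∨ Fintype.card (Fin 3 ⊕ Fin 3) ≠ 4 := Or.inr (by simp)
  have hkey : ∀ A ∈ φ.ker, slMat (Fin 4) F A = Matrix.scalar (Fin 4) (slMat (Fin 4) F A 0 0) ∧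
      slMat (Fin 4) F A 0 0 ^ 2 = 1 := by
    intro A hA
    rw [Model.mem_ker_iff] at hA
    refine eq_scalar_of_fix _ fun p01 p02 p03 p12 p13 p23 => ?_
    have := hA (Sum.elim ![p01, p02, p03] ![p23, -p13, p12])
    simpa [M, wedgeModel, plusMap, congrAct_apply] using this
  have hle : φ.range ≤ Cfsg.Omega F (⇑(qPlus 3 F)) := by
    rintro _ ⟨x, rfl⟩
    have hf := (fourGen_of_perfect hperf).hom_eq_one
      ((Abelianization.of : Cfsg.isometryGroup F (⇑(qPlus 3 F)) →* _).comp φ) fun y =>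
        pow_four_quotient_Omega hQ hex (φ y) (by simp)
    exact (QuotientGroup.eq_one_iff (φ x)).1 (DFunLike.congr_fun hf x)
  have hcard : Nat.card (OQ (qPlus 3 F)) ≤ 2 * Nat.card SL(4, F) := by
    have h := card_SL (F := F) 4 (by norm_num)
    rw [Fin.prod_univ_four] at h
    rw [card_OQ_qPlus rfl 2]
    simp only [Fin.val_zero, Fin.val_one, Fin.val_two, show ((3 : Fin 4) : ℕ) = 3 from rfl] at h
    simp only [Finset.prod_range_succ, Finset.prod_range_zero, one_mul, Nat.reduceAdd,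
      Nat.reduceMul]
    have hq := Fintype.one_lt_card (α := F)
    set q := Fintype.card F
    refine Nat.le_of_mul_le_mul_left ?_ (show 0 < q - 1 by omega)
    rw [show (q - 1) * (2 * Nat.card SL(4, F)) = 2 * ((q - 1) * Nat.card SL(4, F)) by ring, h]
    have hp : ∀ k, 1 ≤ q ^ k := fun k => Nat.one_le_pow _ _ (by omega)
    have hle' : ∀ k, k ≤ 4 → q ^ k ≤ q ^ 4 := fun k hk => Nat.pow_le_pow_right (by omega) hk
    apply le_of_eq
    zify [hp 2, hp 3, hp 4, hle' 0 (by omega), hle' 1 (by omega), hle' 2 (by omega),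
      hle' 3 (by omega), show 1 ≤ q by omega]
    ring
  have hrange : φ.range = Cfsg.Omega F (⇑(qPlus 3 F)) := by
    refine Subgroup.eq_of_le_of_card_ge hle (Nat.le_of_mul_le_mul_left ?_
      (Nat.card_pos : 0 < Nat.card φ.ker))
    have h1 : Nat.card φ.ker * Nat.card φ.range = Nat.card SL(4, F) := by
      rw [← Subgroup.index_ker φ, φ.ker.card_mul_index]
    rw [h1]
    have hk := card_ker_le_sqrt _ slMat_injective (RingHom.id F) _ hkey
    rw [← card_sqClass_mul_card_sqrt_one] at hk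
    have h2 := omega_card_mul hQ hex (by simp)
    have h3 := Nat.mul_le_mul hk (le_refl (Nat.card (Cfsg.Omega F (⇑(qPlus 3 F)))))
    nlinarith
  let f : SL(4, F) →* Cfsg.Omega F (⇑(qPlus 3 F)) :=
    (MulEquiv.subgroupCongr hrange).toMonoidHom.comp φ.rangeRestrict
  refine ⟨(omegaEquiv _).toMonoidHom.comp f, fun y => ?_⟩
  obtain ⟨z, rfl⟩ := (omegaEquiv _).surjective y
  obtain ⟨w, rfl⟩ := (MulEquiv.subgroupCongr hrange).surjective z
  obtain ⟨x, rfl⟩ := φ.rangeRestrict_surjective w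
  exact ⟨x, rfl⟩

/-- The base case. -/
theorem minDeg_plus_six (hq : 3 < Fintype.card F) :
    MinDeg (commutator (OQ (qPlus 3 F)))
      (Fintype.card F ^ 3 + Fintype.card F ^ 2 + Fintype.card F) := by
  classical
  obtain ⟨f, hf⟩ := exists_surjective_plus_six (F := F)
  refine (MinDeg.of_irreducible fun n σ hσ hσ' => ?_).of_surjective f hf
  haveI := hσ
  have h2 := two_le_finrank_of_perfect (commutator_SL_eq_top (F := F) (n := 4) (by norm_num)) σ hσ'
  have h := le_degree (F := F) 3 (by norm_num)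
    ⟨by simp, by simp, by simp; omega, by simp; omega⟩ σ h2
  simp only [G, Finset.sum_range_succ, Finset.sum_range_zero, finrank_fin_fun, pow_zero,
    pow_one] at h
  omega

/-- The bound for plus type, from dimension six on. -/
def Bp (q : ℕ) : ℕ → ℕ
  | 0 => q ^ 3 + q ^ 2 + q
  | j + 1 => Bp q j + (q ^ (2 * j + 5) + q ^ (j + 3) - q ^ (j + 2))

theorem Bp_eq {q : ℕ} (hq : 1 ≤ q) (j : ℕ) :
    (Bp q j : ℤ) * ((q : ℤ) ^ 2 - 1) =
      ((q : ℤ) ^ (j + 3) - 1) * ((q : ℤ) ^ (j + 2) + q) := by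
  induction j with
  | zero => simp [Bp]; ring
  | succ j ih =>
    have hle : q ^ (j + 2) ≤ q ^ (2 * j + 5) + q ^ (j + 3) :=
      le_add_right (Nat.pow_le_pow_right hq (by omega))
    rw [Bp, Nat.cast_add, add_mul, ih]
    push_cast [Nat.cast_sub hle]
    ring

theorem zc_plus_zero (m : ℕ) :
    zc (qPlus (m + 1) F) 0 = Fintype.card F ^ (2 * m + 1) + Fintype.card F ^ (m + 1) -
      Fintype.card F ^ m := by
  rw [zc, coe_qPlus, card_quadFormPlus_zero rfl (m + 1) (by omega),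
    show 2 * (m + 1) - 1 = 2 * m + 1 by omega, Nat.add_sub_cancel]

theorem zc_plus_ne_zero {a : F} (ha : a ≠ 0) (m : ℕ) :
    (zc (qPlus m F) a : ℤ) * Fintype.card F =
      (Fintype.card F : ℤ) ^ (2 * m) - (Fintype.card F : ℤ) ^ m := by
  induction m with
  | zero =>
    have : IsEmpty {v : Fin 0 ⊕ Fin 0 → F // qPlus 0 F v = a} :=
      ⟨fun v => ha (v.2.symm.trans (by simp [coe_qPlus, Cfsg.quadFormPlus]))⟩
    simp [zc]
  | succ m ih =>
    rw [zc_congr (plusSplit m F) (plusSplit_preserves m) a, zc_hyp, Nat.card_fun,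
      Nat.card_eq_fintype_card (α := F), Nat.card_eq_fintype_card (α := Fin m ⊕ Fin m),
      Fintype.card_sum, Fintype.card_fin]
    push_cast [Nat.cast_sub (Fintype.card_pos (α := F))]
    linear_combination (Fintype.card F : ℤ) * ih

/-- The excluded degree. -/
theorem not_dvd_plus {q d k j : ℕ} (hq : 2 ≤ q) (hd : d + 1 = Bp q (j + 1)) :
    ¬ d * (q ^ 2 - 1) ∣ ((q ^ (2 * j + 7) + q ^ (j + 4) - q ^ (j + 3)) - 1) *
      ((q ^ (2 * j + 5) + q ^ (j + 3) - q ^ (j + 2)) - 1) * q ^ k := by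
  intro h
  have hpow : ∀ i, 1 ≤ q ^ i := fun i => Nat.one_le_pow _ _ (by omega)
  have h1 : q ^ (j + 3) + 1 ≤ q ^ (2 * j + 7) + q ^ (j + 4) :=
    Nat.add_le_add (Nat.pow_le_pow_right (by omega) (by omega)) (hpow _)
  have h2 : q ^ (j + 2) + 1 ≤ q ^ (2 * j + 5) + q ^ (j + 3) :=
    Nat.add_le_add (Nat.pow_le_pow_right (by omega) (by omega)) (hpow _)
  have hz := Int.natCast_dvd_natCast.2 h
  push_cast [Nat.cast_sub (hpow 2), Nat.cast_sub (show 1 ≤ q ^ (2 * j + 7) + q ^ (j + 4) -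
    q ^ (j + 3) by omega), Nat.cast_sub (show q ^ (j + 3) ≤ q ^ (2 * j + 7) + q ^ (j + 4) by omega),
    Nat.cast_sub (show 1 ≤ q ^ (2 * j + 5) + q ^ (j + 3) - q ^ (j + 2) by omega),
    Nat.cast_sub (show q ^ (j + 2) ≤ q ^ (2 * j + 5) + q ^ (j + 3) by omega)] at hz
  have hB := Bp_eq (show 1 ≤ q by omega) (j + 1)
  rw [← hd] at hB
  push_cast at hB
  set Q : ℤ := (q : ℤ)
  set e : ℤ := Q ^ (j + 4) + Q ^ 2 + Q - 1 with he
  have hfac : (d : ℤ) * (Q ^ 2 - 1) = (Q ^ (j + 3) - 1) * e := by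
    linear_combination hB
  have hY : Q ^ (j + 3) - 1 ≠ 0 := by
    have : (2 : ℤ) ≤ Q ^ (j + 3) := by
      calc (2 : ℤ) ≤ Q := by simp only [Q]; exact_mod_cast hq
        _ ≤ Q ^ (j + 3) := le_self_pow₀ (by simp only [Q]; exact_mod_cast (by omega : 1 ≤ q))
          (by omega)
    omega
  rw [hfac, show (Q ^ (2 * j + 7) + Q ^ (j + 4) - Q ^ (j + 3) - 1) *
      (Q ^ (2 * j + 5) + Q ^ (j + 3) - Q ^ (j + 2) - 1) * Q ^ k =
      (Q ^ (j + 3) - 1) * ((Q ^ (j + 4) - 1) * (Q ^ (j + 3) + 1) * (Q ^ (j + 2) + 1) * Q ^ k) by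
    ring] at hz
  have he1 := (mul_dvd_mul_iff_left hY).1 hz
  have hcop : IsCoprime e Q := ⟨-1, Q ^ (j + 3) + Q + 1, by rw [he]; ring⟩
  have he2 := (hcop.pow_right (n := k)).dvd_of_dvd_mul_right he1
  have he3 : e ∣ (Q ^ (j + 4) - 1) * (Q ^ (j + 3) + 1) * (Q ^ (j + 2) + 1) * Q ^ 3 :=
    he2.mul_right _
  have he4 : e ∣ (Q ^ (j + 4) - 1) * (Q ^ (j + 4) + Q) * (Q ^ (j + 4) + Q ^ 2) := by
    convert he3 using 1
    ring
  have hmod : Q ^ (j + 4) ≡ 1 - Q - Q ^ 2 [ZMOD e] :=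
    Int.modEq_iff_dvd.2 ⟨-1, by rw [he]; ring⟩
  have he5 := ((((hmod.sub_right 1).mul (hmod.add_right Q))).mul (hmod.add_right (Q ^ 2))).dvd_iff.1 he4
  have he6 : e ∣ (Q ^ 2 - 1) ^ 2 * Q := by
    exact dvd_neg.1 (he5.trans (dvd_of_eq (by ring)))
  have he7 := hcop.dvd_of_dvd_mul_right he6
  have hQ2 : (2 : ℤ) ≤ Q := by simp only [Q]; exact_mod_cast hq
  have hQ4 : (4 : ℤ) ≤ Q ^ 2 := by nlinarith
  have hpos : 0 < (Q ^ 2 - 1) ^ 2 := pow_pos (by linarith) 2
  have hle := Int.le_of_dvd hpos he7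
  have : Q ^ 4 ≤ Q ^ (j + 4) := pow_le_pow_right₀ (by omega) (by omega)
  have hsq : (Q ^ 2 - 1) ^ 2 = Q ^ 4 - 2 * Q ^ 2 + 1 := by ring
  nlinarith

/-- The bound for every plus type space. -/
theorem minDeg_plus (hq : 3 < Fintype.card F) :
    ∀ j, MinDeg (commutator (OQ (qPlus (j + 3) F))) (Bp (Fintype.card F) j)
  | 0 => minDeg_plus_six hq
  | j + 1 => by
    classical
    have ih := minDeg_plus hq j
    set q := Fintype.card F with hqdef
    obtain ⟨r, hr⟩ := SLMinDeg.exists_sq_ne_one (F := F) hq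
    have hμ : ∃ μ : Fˣ, (μ : F) * μ ≠ 1 := ⟨r, fun h => hr (Units.ext (by simpa using h))⟩
    let A := Fin (j + 1) ⊕ Fin (j + 1) → F
    let Q : QuadraticForm F A := qPlus (j + 1) F
    have hQ : (polarBilin Q).Nondegenerate := qPlus_nondeg _
    have hA : finrank F A = 2 * j + 2 := by simp [A]; ring
    let eU : (Fin (j + 3) ⊕ Fin (j + 3) → F) ≃ₗ[F] U2 F A :=
      (plusSplit (j + 2) F).trans (hypCongr (plusSplit (j + 1) F))
    have heU : ∀ v, q2 Q (eU v) = qPlus (j + 3) F v := fun v =>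
      (hypCongr_preserves _ (fun u => plusSplit_preserves (j + 1) u) _).trans
        (plusSplit_preserves (j + 2) v)
    let eV : (Fin (j + 4) ⊕ Fin (j + 4) → F) ≃ₗ[F] F × F × U2 F A :=
      (plusSplit (j + 3) F).trans (hypCongr eU)
    have heV : ∀ v, hyp (q2 Q) (eV v) = qPlus (j + 4) F v := fun v =>
      (hypCongr_preserves _ heU _).trans (plusSplit_preserves (j + 3) v)
    refine (MinDeg.of_irreducible fun n ρ hρ hnt => ?_).of_equiv (omegaCongr eV heV).symm
    haveI := hρ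
    have hU0 : zc (q2 Q) 0 = q ^ (2 * j + 5) + q ^ (j + 3) - q ^ (j + 2) := by
      rw [← zc_congr eU heU, zc_plus_zero, show 2 * (j + 2) + 1 = 2 * j + 5 by ring]
    have hV0 : zc (hyp (q2 Q)) 0 = q ^ (2 * j + 7) + q ^ (j + 4) - q ^ (j + 3) := by
      rw [← zc_congr eV heV, zc_plus_zero, show 2 * (j + 3) + 1 = 2 * j + 7 by ring]
    have hUa : ∀ a : F, a ≠ 0 →
        (zc (q2 Q) a : ℤ) * q = (q : ℤ) ^ (2 * j + 6) - (q : ℤ) ^ (j + 3) := fun a ha => by
      rw [← zc_congr eU heU, zc_plus_ne_zero ha]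
      congr 1
    have hpow : ∀ a b, a ≤ b → q ^ a ≤ q ^ b := fun a b h => Nat.pow_le_pow_right (by omega) h
    have hcls : ∀ a : F, a ≠ 0 → zc (q2 Q) 0 ≤ (cls (q2 Q) a).card := fun a ha => by
      refine le_trans ?_ (two_zc_le_card_cls (q2 Q) ha hμ)
      have h1 := hUa a ha
      have h3 : (zc (q2 Q) 0 : ℤ) * q =
          (q : ℤ) ^ (2 * j + 6) + (q : ℤ) ^ (j + 4) - (q : ℤ) ^ (j + 3) := by
        rw [hU0, Nat.cast_sub (le_add_right (hpow _ _ (by omega)))]
        push_cast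
        ring
      have hq0 : (0 : ℤ) < q := by exact_mod_cast Fintype.card_pos
      have hq4 : (4 : ℤ) ≤ q := by exact_mod_cast hq
      have h4 : (q : ℤ) ^ (j + 3) * (q : ℤ) ^ 3 ≤ (q : ℤ) ^ (2 * j + 6) := by
        rw [← pow_add]
        exact pow_le_pow_right₀ (by omega) (by omega)
      have h16 : (16 : ℤ) ≤ (q : ℤ) * q := by nlinarith
      have h5 : (q : ℤ) + 1 ≤ (q : ℤ) ^ 3 := by
        nlinarith [mul_le_mul_of_nonneg_left h16 hq0.le]
      have h6 : (0 : ℤ) ≤ (q : ℤ) ^ (j + 3) := by positivity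
      have : (zc (q2 Q) 0 : ℤ) * q ≤ ((2 * zc (q2 Q) a : ℕ) : ℤ) * q := by
        push_cast
        rw [pow_succ (q : ℤ) (j + 3)] at h3
        nlinarith [mul_le_mul_of_nonneg_left h5 h6]
      exact_mod_cast le_of_mul_le_mul_right this hq0
    have hBle : ∀ i, Bp q i + 2 ≤ q ^ (2 * i + 5) + q ^ (i + 3) - q ^ (i + 2) := by
      intro i
      induction i with
      | zero =>
        simp only [Bp, mul_zero, zero_add]
        have h5 : 4 * q ^ 4 ≤ q ^ 5 := by
          rw [pow_succ' q 4]; exact Nat.mul_le_mul_right _ hq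
        have := hpow 2 4 (by omega)
        have := hpow 1 4 (by omega)
        have := hpow 3 4 (by omega)
        have := hpow 0 4 (by omega)
        rw [pow_one, pow_zero] at *
        omega
      | succ i ih =>
        rw [Bp]
        have h1 := hpow (i + 2) (2 * i + 5) (by omega)
        have h2 : 2 * (q ^ (2 * i + 5) + q ^ (i + 3)) ≤ q ^ (2 * i + 7) := by
          have h3 : q ^ (i + 3) ≤ q ^ (2 * i + 5) := hpow _ _ (by omega)
          have h4 : 4 * q ^ (2 * i + 5) ≤ q ^ (2 * i + 7) := by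
            rw [pow_succ' q (2 * i + 6), pow_succ' q (2 * i + 5)]
            exact Nat.mul_le_mul hq (Nat.le_mul_of_pos_left _ (by omega))
          omega
        have h5 := hpow (i + 3) (i + 4) (by omega)
        rw [show 2 * (i + 1) + 5 = 2 * i + 7 by ring, show i + 1 + 3 = i + 4 by ring,
          show i + 1 + 2 = i + 3 by ring]
        omega
    have hb := hBle j
    rw [← hU0] at hb
    have hT : Bp q (j + 1) = Bp q j + zc (q2 Q) 0 := by rw [Bp, hU0]
    by_contra hlt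
    push Not at hlt
    have hd : finrank ℂ (Fin n → ℂ) = n := finrank_fin_fun ℂ
    obtain ⟨-, -, hc, hdim, hdvd⟩ := below_bound hQ (by omega) ρ hnt (Bp q j) (Bp q (j + 1))
      (ih.of_equiv (omegaCongr eU heU)) (by omega)
      (fun a ha => by have := hcls a ha; omega) (fun a ha => by have := hcls a ha; omega)
      (fun a _ => Or.inl hμ) (by omega)
    rw [hd, hV0, hU0] at hdvd
    rw [hd] at hdim
    exact not_dvd_plus (by omega) (show n + 1 = Bp q (j + 1) by omega) hdvd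

end CfsgLib.OrthDeg
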