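import Cfsg.Agent.Lib.Geo.OrthMinDeg.Fixers

/-!
# The inductive step

Owner: helper23. Below a bound determined by the class sizes only the singular weights occur, each
once, and the fixed space of the radical is a non-trivial representation of `Ω(U)`.
-/

set_option autoImplicit false

namespace CfsgLib.OrthDeg

open Module CfsgLib.Classical.Quad
open QuadraticMap (polar polarBilin)

variable {F : Type*} [Field F] [Fintype F] [DecidableEq F] {A : Type*} [AddCommGroup A]
  [Module F A] [FiniteDimensional F A] [Fintype A] [DecidableEq A] {Q : QuadraticForm F A}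
  (hQ : (polarBilin Q).Nondegenerate) (hA : 1 ≤ finrank F A)

/-- The non-zero vectors with value in a set. -/
def valSet (Q : QuadraticForm F A) (S : Finset F) : Finset (U2 F A) :=
  Finset.univ.filter fun w => w ≠ 0 ∧ q2 Q w ∈ S

omit [FiniteDimensional F A] in
theorem card_first_nonzero (S : Finset F) :
    ((valSet Q S).filter fun w => w.2.1 ≠ 0).card =
      (Fintype.card F - 1) * S.card * (Fintype.card F * Fintype.card F * Fintype.card A) := by
  have e : {w // w ∈ (valSet Q S).filter fun w => w.2.1 ≠ 0} ≃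
      ({b : F // b ≠ 0} × S) × (F × F × A) :=
    { toFun := fun w => ((⟨w.1.2.1, (Finset.mem_filter.1 w.2).2⟩,
        ⟨q2 Q w.1, (Finset.mem_filter.1 (Finset.mem_filter.1 w.2).1).2.2⟩), w.1.2.2)
      invFun := fun p => ⟨((p.1.2.1 - hyp Q p.2) / p.1.1.1, p.1.1.1, p.2), by
        have hb := p.1.1.2
        rw [Finset.mem_filter, valSet, Finset.mem_filter]
        refine ⟨⟨Finset.mem_univ _, fun h => hb (congrArg (fun z : U2 F A => z.2.1) h), ?_⟩, hb⟩
        rw [q2, hyp_apply, div_mul_cancel₀ _ hb, sub_add_cancel]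
        exact p.1.2.2⟩
      left_inv := fun w => by
        refine Subtype.ext (Prod.ext ?_ rfl)
        show (q2 Q w.1 - hyp Q w.1.2.2) / w.1.2.1 = w.1.1
        rw [q2, hyp_apply _ w.1, add_sub_cancel_right,
          mul_div_cancel_right₀ _ (Finset.mem_filter.1 w.2).2]
      right_inv := fun p => by
        refine Prod.ext (Prod.ext rfl (Subtype.ext ?_)) rfl
        show q2 Q ((p.1.2.1 - hyp Q p.2) / p.1.1.1, p.1.1.1, p.2) = p.1.2.1
        rw [q2, hyp_apply, div_mul_cancel₀ _ p.1.1.2, sub_add_cancel] }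
  rw [← Fintype.card_coe, Fintype.card_congr e, Fintype.card_prod, Fintype.card_prod,
    Fintype.card_prod, Fintype.card_prod, Fintype.card_subtype_compl, Fintype.card_subtype_eq,
    Fintype.card_coe, mul_assoc (Fintype.card F) (Fintype.card F)]

omit [FiniteDimensional F A] in
theorem card_second_nonzero (S : Finset F) :
    ((valSet Q S).filter fun w => w.2.1 = 0 ∧ w.2.2.2.1 ≠ 0).card =
      (Fintype.card F - 1) * S.card * (Fintype.card F * Fintype.card A) := by
  have e : {w // w ∈ (valSet Q S).filter fun w => w.2.1 = 0 ∧ w.2.2.2.1 ≠ 0} ≃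
      ({b : F // b ≠ 0} × S) × (F × A) :=
    { toFun := fun w => ((⟨w.1.2.2.2.1, (Finset.mem_filter.1 w.2).2.2⟩,
        ⟨q2 Q w.1, (Finset.mem_filter.1 (Finset.mem_filter.1 w.2).1).2.2⟩), (w.1.1, w.1.2.2.2.2))
      invFun := fun p => ⟨(p.2.1, 0, ((p.1.2.1 - Q p.2.2) / p.1.1.1, p.1.1.1, p.2.2)), by
        have hb := p.1.1.2
        rw [Finset.mem_filter, valSet, Finset.mem_filter]
        refine ⟨⟨Finset.mem_univ _, fun h => hb (congrArg (fun z : U2 F A => z.2.2.2.1) h), ?_⟩,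
          rfl, hb⟩
        rw [q2, hyp_apply, hyp_apply]
        simp only [mul_zero, zero_add, div_mul_cancel₀ _ hb, sub_add_cancel]
        exact p.1.2.2⟩
      left_inv := fun w => by
        obtain ⟨h0, h1⟩ := (Finset.mem_filter.1 w.2).2
        refine Subtype.ext (Prod.ext rfl (Prod.ext h0.symm (Prod.ext ?_ rfl)))
        show (q2 Q w.1 - Q w.1.2.2.2.2) / w.1.2.2.2.1 = w.1.2.2.1
        rw [q2_apply, h0, mul_zero, zero_add, add_sub_cancel_right, mul_div_cancel_right₀ _ h1]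
      right_inv := fun p => by
        refine Prod.ext (Prod.ext rfl (Subtype.ext ?_)) rfl
        show q2 Q (p.2.1, 0, ((p.1.2.1 - Q p.2.2) / p.1.1.1, p.1.1.1, p.2.2)) = p.1.2.1
        rw [q2_apply]
        simp only [mul_zero, zero_add, div_mul_cancel₀ _ p.1.1.2, sub_add_cancel] }
  rw [← Fintype.card_coe, Fintype.card_congr e, Fintype.card_prod, Fintype.card_prod,
    Fintype.card_prod, Fintype.card_subtype_compl, Fintype.card_subtype_eq, Fintype.card_coe]

variable {V : Type*} [AddCommGroup V] [Module ℂ V] [FiniteDimensional ℂ V]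
  (ρ : Representation ℂ (Om (q2 Q)) V)

include hQ hA

/-- With one set of weights, each simple, `Ω(U)` is non-trivial on the fixed space. -/
theorem fixRep_ne_one (S : Finset F) (hS : S.Nonempty)
    (hmult : ∀ w : U2 F A, w ≠ 0 →
      mult (q2_nondeg hQ) (three_le_U2 hQ hA) ρ w = if q2 Q w ∈ S then 1 else 0)
    (hfix : ∀ (ξ : F) (w : U2 F A), w ∈ valSet Q S → w.2.1 = 0 → w.2.2.2.1 = 0 →
      ∀ v ∈ LinearMap.range (E (q2_nondeg hQ) (three_le_U2 hQ hA) ρ w),
        ρ (lev (tel hQ hA ξ)) v = v) :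
    ∃ h, fixRep (q2_nondeg hQ) (three_le_U2 hQ hA) ρ h ≠ 1 := by
  by_contra hC
  push Not at hC
  have hid := trace_identity hQ hA ρ hC fun ξ w hw h1 h2 => by
    by_cases hv : q2 Q w ∈ S
    · exact trace_eq_mult _ _ ρ (hfix ξ w (Finset.mem_filter.2 ⟨Finset.mem_univ _, hw, hv⟩) h1 h2)
    · have h0 := hmult w hw
      rw [if_neg hv] at h0
      rw [E_eq_zero _ _ ρ h0, mul_zero, map_zero, h0, Nat.cast_zero]
  have hsum : ∀ (p : U2 F A → Prop) [DecidablePred p],
      ∑ w ∈ Finset.univ.filter (fun w : U2 F A => w ≠ 0),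
        (if p w then (mult (q2_nondeg hQ) (three_le_U2 hQ hA) ρ w : ℤ) else 0) =
      (((valSet Q S).filter p).card : ℤ) := by
    intro p _
    rw [Finset.sum_congr rfl fun w hw => by
      rw [hmult w (Finset.mem_filter.1 hw).2], Finset.card_filter, valSet, Finset.sum_filter,
      Finset.sum_filter, Nat.cast_sum]
    refine Finset.sum_congr rfl fun w _ => ?_
    by_cases h0 : w ≠ 0 <;> by_cases hp : p w <;> by_cases hv : q2 Q w ∈ S <;> simp [h0, hp, hv]
  have htot : ∑ w ∈ Finset.univ.filter (fun w : U2 F A => w ≠ 0),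
      (mult (q2_nondeg hQ) (three_le_U2 hQ hA) ρ w : ℤ) = ((valSet Q S).card : ℤ) := by
    have := hsum fun _ => True
    simpa using this
  rw [htot, hsum, hsum] at hid
  have h1 := Finset.card_filter_add_card_filter_not (s := valSet Q S) fun w : U2 F A => w.2.1 = 0
  have h2 := Finset.card_filter_add_card_filter_not
    (s := (valSet Q S).filter fun w : U2 F A => w.2.1 = 0) fun w : U2 F A => w.2.2.2.1 = 0
  rw [Finset.filter_filter, Finset.filter_filter] at h2
  have e1 := card_first_nonzero (Q := Q) S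
  have e2 := card_second_nonzero (Q := Q) S
  simp only [ne_eq] at e1 e2
  rw [e1] at h1
  rw [e2] at h2
  have hq : 1 < Fintype.card F := Fintype.one_lt_card
  have hAc : 0 < Fintype.card A := Fintype.card_pos
  have hSc : 0 < S.card := hS.card_pos
  set a : ℕ := ((valSet Q S).filter fun w : U2 F A => w.2.1 = 0).card
  set b : ℕ := ((valSet Q S).filter fun w : U2 F A => w.2.1 = 0 ∧ w.2.2.2.1 = 0).card
  set q : ℕ := Fintype.card F
  set K : ℕ := S.card * q * Fintype.card A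
  have hK : 0 < K := Nat.mul_pos (Nat.mul_pos hSc (by omega)) hAc
  have h1' : (a : ℤ) + ((q : ℤ) - 1) * (K * q) = (valSet Q S).card := by
    rw [← h1]
    push_cast [Nat.cast_sub hq.le, K]
    ring
  have h2' : (b : ℤ) + ((q : ℤ) - 1) * K = a := by
    rw [← h2]
    push_cast [Nat.cast_sub hq.le, K]
    ring
  have : ((q : ℤ) - 1) * K = 0 := by linear_combination h1' + (1 - (q : ℤ)) * h2' - hid
  rcases mul_eq_zero.1 this with h | h <;> omega

omit hQ hA in
/-- The values in a class. -/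
def sqSet (a : F) : Finset F := Finset.univ.filter fun x => ∃ μ : F, μ ≠ 0 ∧ x = μ * μ * a

omit hQ hA [FiniteDimensional F A] in
theorem cls_eq_valSet (a : F) : cls (q2 Q) a = valSet Q (sqSet a) := by
  ext w
  simp [mem_cls, valSet, sqSet]

omit hQ hA [FiniteDimensional F A] [DecidableEq F] [DecidableEq A] in
theorem disjoint_cls {u w : U2 F A} (hw : w ∉ cls (q2 Q) (q2 Q u)) (hw0 : w ≠ 0) :
    Disjoint (cls (q2 Q) (q2 Q u)) (cls (q2 Q) (q2 Q w)) := by
  refine Finset.disjoint_left.2 fun z h1 h2 => hw (mem_cls.2 ⟨hw0, ?_⟩)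
  obtain ⟨-, μ, hμ, e1⟩ := mem_cls.1 h1
  obtain ⟨-, ν, hν, e2⟩ := mem_cls.1 h2
  refine ⟨μ / ν, div_ne_zero hμ hν, ?_⟩
  rw [e1] at e2
  field_simp
  linear_combination -e2

/-- Below the bound only singular weights occur, each once. -/
theorem pure_of_lt (hρ : ∃ g, ρ g ≠ 1) (L T : ℕ)
    (hL : (∃ h, fixRep (q2_nondeg hQ) (three_le_U2 hQ hA) ρ h ≠ 1) →
      L ≤ mult (q2_nondeg hQ) (three_le_U2 hQ hA) ρ 0)
    (hX : T ≤ 2 * (cls (q2 Q) 0).card)
    (h2 : ∀ a : F, a ≠ 0 → T ≤ 2 * (cls (q2 Q) a).card)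
    (hN : ∀ a : F, a ≠ 0 → T ≤ L + (cls (q2 Q) a).card)
    (hfix : ∀ w : U2 F A, w ≠ 0 → w.2.1 = 0 → w.2.2.2.1 = 0 →
      mult (q2_nondeg hQ) (three_le_U2 hQ hA) ρ w = 1 → (q2 Q w = 0 ∨
        (cls (q2 Q) (q2 Q w)).card < T) → ∀ (ξ : F),
      ∀ v ∈ LinearMap.range (E (q2_nondeg hQ) (three_le_U2 hQ hA) ρ w),
        ρ (lev (tel hQ hA ξ)) v = v)
    (hlt : finrank ℂ V < T) :
    (∀ w : U2 F A, w ≠ 0 →
      mult (q2_nondeg hQ) (three_le_U2 hQ hA) ρ w = if q2 Q w = 0 then 1 else 0) ∧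
    (∃ h, fixRep (q2_nondeg hQ) (three_le_U2 hQ hA) ρ h ≠ 1) ∧
    finrank ℂ V = mult (q2_nondeg hQ) (three_le_U2 hQ hA) ρ 0 + (cls (q2 Q) 0).card := by
  have h5 := five_le_U2 hQ hA
  have hn := q2_nondeg hQ
  have h3 := three_le_U2 hQ hA
  obtain ⟨g, hg⟩ := hρ
  obtain ⟨u, hu0, hu⟩ : ∃ u : U2 F A, u ≠ 0 ∧ mult hn h3 ρ u ≠ 0 := by
    by_contra hcon
    push Not at hcon
    exact hg (eq_one_of_mult hn h3 ρ hcon g)
  have hT2 : ∀ a : F, T ≤ 2 * (cls (q2 Q) a).card := fun a => by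
    by_cases ha : a = 0
    · exact ha ▸ hX
    · exact h2 a ha
  have hm1 : mult hn h3 ρ u = 1 := by
    by_contra hne
    have := add_card_mul_le hn h3 ρ h5 hu0
    have h' : (cls (q2 Q) (q2 Q u)).card * 2 ≤ (cls (q2 Q) (q2 Q u)).card * mult hn h3 ρ u :=
      Nat.mul_le_mul_left _ (by omega)
    have := hT2 (q2 Q u)
    omega
  have hmult : ∀ w : U2 F A, w ≠ 0 →
      mult hn h3 ρ w = if q2 Q w ∈ sqSet (q2 Q u) then 1 else 0 := by
    intro w hw
    by_cases hc : w ∈ cls (q2 Q) (q2 Q u)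
    · rw [mult_of_mem_cls hn h3 ρ h5 hu0 hc, hm1, if_pos]
      rw [cls_eq_valSet] at hc
      exact (Finset.mem_filter.1 hc).2.2
    · rw [if_neg]
      · by_contra hne
        have := add_card_mul_add_le hn h3 ρ h5 hu0 hw (disjoint_cls hc hw)
        rw [hm1, mul_one] at this
        have h' : (cls (q2 Q) (q2 Q w)).card * 1 ≤ (cls (q2 Q) (q2 Q w)).card * mult hn h3 ρ w :=
          Nat.mul_le_mul_left _ (by omega)
        have := hT2 (q2 Q u)
        have := hT2 (q2 Q w)
        omega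
      · intro hv
        exact hc (by rw [cls_eq_valSet]; exact Finset.mem_filter.2 ⟨Finset.mem_univ _, hw, hv⟩)
  have hmem : q2 Q u ∈ sqSet (q2 Q u) :=
    Finset.mem_filter.2 ⟨Finset.mem_univ _, 1, one_ne_zero, by ring⟩
  have hbound := add_card_mul_le hn h3 ρ h5 hu0
  rw [hm1, mul_one] at hbound
  have hC : ∃ h, fixRep hn h3 ρ h ≠ 1 := by
    refine fixRep_ne_one hQ hA ρ (sqSet (q2 Q u)) ⟨_, hmem⟩ hmult fun ξ w hw hw1 hw2 => ?_
    rw [← cls_eq_valSet] at hw
    refine hfix w (mem_cls.1 hw).1 hw1 hw2 ((mult_of_mem_cls hn h3 ρ h5 hu0 hw).trans hm1) ?_ ξ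
    obtain ⟨-, μ, hμ, e⟩ := mem_cls.1 hw
    by_cases h0 : q2 Q u = 0
    · left
      rw [e, h0, mul_zero]
    · right
      have : cls (q2 Q) (q2 Q w) = cls (q2 Q) (q2 Q u) := by
        ext z
        rw [mem_cls, mem_cls, e]
        refine and_congr_right fun _ => ⟨?_, ?_⟩
        · rintro ⟨ν, hν, hz⟩
          exact ⟨ν * μ, mul_ne_zero hν hμ, by rw [hz]; ring⟩
        · rintro ⟨ν, hν, hz⟩
          exact ⟨ν / μ, div_ne_zero hν hμ, by rw [hz]; field_simp⟩
      rw [this]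
      omega
  have hu00 : q2 Q u = 0 := by
    by_contra h0
    have := hL hC
    have := hN _ h0
    omega
  have hpure : ∀ w : U2 F A, w ≠ 0 → mult hn h3 ρ w = if q2 Q w = 0 then 1 else 0 := fun w hw => by
    rw [hmult w hw]
    refine if_congr ?_ rfl rfl
    rw [hu00]
    simp only [sqSet, mul_zero, Finset.mem_filter, Finset.mem_univ, true_and]
    exact ⟨fun ⟨_, _, h⟩ => h, fun h => ⟨1, one_ne_zero, h⟩⟩
  refine ⟨hpure, hC, ?_⟩
  rw [finrank_eq_sum hn h3 ρ, ← Finset.add_sum_erase _ _ (Finset.mem_univ (0 : U2 F A))]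
  congr 1
  rw [Finset.sum_congr rfl fun w hw => hpure w (Finset.ne_of_mem_erase hw), Finset.sum_boole,
    Nat.cast_id]
  congr 1
  ext w
  simp only [Finset.mem_filter, Finset.mem_erase, Finset.mem_univ, and_true, mem_cls, mul_zero]
  exact and_congr_right fun _ => ⟨fun h => ⟨1, one_ne_zero, h⟩, fun ⟨_, _, h⟩ => h⟩

end CfsgLib.OrthDeg
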