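import Cfsg.Agent.Lib.Geo.OrthMinDeg.Orbits

/-!
# Long root elements inside and outside the radical

Owner: helper23. The character at a long root element of the radical and at a conjugate one in the
copy of `Ω(U)` force the fixed space of the radical to be non-trivial for `Ω(U)`.
-/

set_option autoImplicit false

namespace CfsgLib.OrthDeg

open Module CfsgLib.Classical.Quad CfsgLib.SLMinDeg
open QuadraticMap (polar polarBilin)
open scoped commutatorElement

variable {F : Type*} [Field F] {A : Type*} [AddCommGroup A] [Module F A]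

/-- `A` with two hyperbolic planes. -/
abbrev U2 (F A : Type*) : Type _ := F × F × (F × F × A)

/-- The form on `U2`. -/
abbrev q2 (Q : QuadraticForm F A) : QuadraticForm F (U2 F A) := hyp (hyp Q)

variable (F A) in
/-- The first singular vector of `U2`. -/
abbrev vP : U2 F A := (1, 0, 0)

variable (F A) in
/-- The partner of the first singular vector. -/
abbrev vP' : U2 F A := (0, 1, 0)

variable (F A) in
/-- The second singular vector of `U2`. -/
abbrev vR : U2 F A := (0, 0, (1, 0, 0))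

variable (F A) in
/-- The partner of the second singular vector. -/
abbrev vR' : U2 F A := (0, 0, (0, 1, 0))

variable {Q : QuadraticForm F A}

theorem q2_apply (z : U2 F A) :
    q2 Q z = z.1 * z.2.1 + (z.2.2.1 * z.2.2.2.1 + Q z.2.2.2.2) := rfl

theorem polar_q2 (z z' : U2 F A) : polar (q2 Q) z z' = z.1 * z'.2.1 + z'.1 * z.2.1 +
    (z.2.2.1 * z'.2.2.2.1 + z'.2.2.1 * z.2.2.2.1 + polar Q z.2.2.2.2 z'.2.2.2.2) := by
  rw [polar_hyp, polar_hyp]

theorem q2_vP : q2 Q (vP F A) = 0 := by simp [hyp_apply]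

theorem polar_vP_smul_vR (ξ : F) : polar (q2 Q) (vP F A) (ξ • vR F A) = 0 := by simp [polar_hyp]

theorem polar_vP_smul_vR_add (t ξ : F) :
    polar (q2 Q) (vP F A + t • vR F A) (ξ • vR F A) = 0 := by simp [polar_hyp]

theorem q2_vP_add (t : F) : q2 Q (vP F A + t • vR F A) = 0 := by simp [hyp_apply]

variable [FiniteDimensional F A] (hQ : (polarBilin Q).Nondegenerate)
include hQ

omit [FiniteDimensional F A] in
theorem q2_nondeg : (polarBilin (q2 Q)).Nondegenerate := hyp_nondegenerate (hyp_nondegenerate hQ)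

omit [FiniteDimensional F A] in
theorem three_le : 3 ≤ finrank F (U2 F A) ↔ 3 ≤ finrank F (U2 F A) := Iff.rfl

theorem finrank_U2 : finrank F (U2 F A) = finrank F A + 4 := by simp; omega

variable [Finite F] (hA : 1 ≤ finrank F A)
include hA

theorem five_le_U2 : 5 ≤ finrank F (U2 F A) := by rw [finrank_U2 hQ]; omega

theorem three_le_U2 : 3 ≤ finrank F (U2 F A) := by rw [finrank_U2 hQ]; omega

/-- An Eichler map of `U2`, in its `Ω`. -/
noncomputable def eU {w a : U2 F A} (hw : q2 Q w = 0) (ha : polar (q2 Q) w a = 0) :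
    commutator (OQ (q2 Q)) :=
  ⟨eich (q2_nondeg hQ) hw ha, eich_mem_commutator (q2_nondeg hQ) (five_le_U2 hQ hA) hw ha⟩

/-- The long root elements of `Ω(U2)`. -/
noncomputable def tel (ξ : F) : commutator (OQ (q2 Q)) :=
  eU hQ hA q2_vP (polar_vP_smul_vR ξ)

theorem tel_apply (ξ : F) (z : U2 F A) :
    ((tel hQ hA ξ : OQ (q2 Q)) : U2 F A ≃ₗ[F] U2 F A) z =
      (z.1 + ξ * z.2.2.2.1, z.2.1, (z.2.2.1 - ξ * z.2.1, z.2.2.2)) := by
  show (eich (q2_nondeg hQ) q2_vP (polar_vP_smul_vR ξ) : U2 F A ≃ₗ[F] U2 F A) z = _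
  rw [eich_apply]
  refine Prod.ext ?_ (Prod.ext ?_ (Prod.ext ?_ ?_)) <;>
    simp [polar_hyp, hyp_apply] <;> ring

theorem tel_zero : tel hQ hA 0 = 1 := by
  refine Subtype.ext (Subtype.ext (LinearEquiv.ext fun z => ?_))
  rw [tel_apply]
  simp

theorem tel_fix_iff {ξ : F} (hξ : ξ ≠ 0) (z : U2 F A) :
    ((tel hQ hA ξ : OQ (q2 Q)) : U2 F A ≃ₗ[F] U2 F A) z = z ↔ z.2.1 = 0 ∧ z.2.2.2.1 = 0 := by
  obtain ⟨z1, z2, z3, z4, z5⟩ := z
  rw [tel_apply]
  simp [Prod.ext_iff, hξ]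
  tauto

/-- Cyclic permutation of the three planes. -/
theorem exists_cycle : ∃ C : Om (q2 Q), ∀ z : F × F × U2 F A,
    app C z = (z.2.2.2.2.1, z.2.2.2.2.2.1, (z.1, z.2.1,
      (z.2.2.1, z.2.2.2.1, z.2.2.2.2.2.2))) := by
  let f12 : (F × F × U2 F A) →ₗ[F] (F × F × U2 F A) :=
    { toFun := fun z => (z.2.2.1, z.2.2.2.1, (z.1, z.2.1, z.2.2.2.2))
      map_add' := fun _ _ => rfl
      map_smul' := fun _ _ => rfl }
  let f23 : (F × F × U2 F A) →ₗ[F] (F × F × U2 F A) :=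
    { toFun := fun z => (z.1, z.2.1, (z.2.2.2.2.1, z.2.2.2.2.2.1,
        (z.2.2.1, z.2.2.2.1, z.2.2.2.2.2.2)))
      map_add' := fun _ _ => rfl
      map_smul' := fun _ _ => rfl }
  let a : OQ (hyp (q2 Q)) := ofPreserves (hyp_nondegenerate (q2_nondeg hQ)) f12 fun z => by
    show z.2.2.1 * z.2.2.2.1 + (z.1 * z.2.1 + hyp Q z.2.2.2.2) =
      z.1 * z.2.1 + (z.2.2.1 * z.2.2.2.1 + hyp Q z.2.2.2.2)
    ring
  let b : OQ (hyp (q2 Q)) := ofPreserves (hyp_nondegenerate (q2_nondeg hQ)) f23 fun z => by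
    show z.1 * z.2.1 + (z.2.2.2.2.1 * z.2.2.2.2.2.1 + (z.2.2.1 * z.2.2.2.1 + Q z.2.2.2.2.2.2)) =
      z.1 * z.2.1 + (z.2.2.1 * z.2.2.2.1 + (z.2.2.2.2.1 * z.2.2.2.2.2.1 + Q z.2.2.2.2.2.2))
    ring
  have ha : a⁻¹ = a := inv_eq_of_mul_eq_one_right
    (Subtype.ext (LinearEquiv.ext fun z => rfl))
  have hb : b⁻¹ = b := inv_eq_of_mul_eq_one_right
    (Subtype.ext (LinearEquiv.ext fun z => rfl))
  let c : Om (q2 Q) :=
    ⟨⁅a, b⁆, Subgroup.commutator_mem_commutator (Subgroup.mem_top _) (Subgroup.mem_top _)⟩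
  refine ⟨c * c, fun z => ?_⟩
  have hc : (c : OQ (hyp (q2 Q))) = a * b * a * b := by
    show ⁅a, b⁆ = _
    rw [commutatorElement_def, ha, hb]
  show ev ((c : OQ (hyp (q2 Q))) * (c : OQ (hyp (q2 Q)))) z = _
  rw [hc]
  rfl

variable [Fintype A] [Fintype F] [DecidableEq F] [DecidableEq A]
  {V : Type*} [AddCommGroup V] [Module ℂ V] [FiniteDimensional ℂ V]
  (ρ : Representation ℂ (Om (q2 Q)) V)

theorem character_tel (ξ : F) :
    ρ.character (lev (tel hQ hA ξ)) =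
      ρ.character (xel (q2_nondeg hQ) (three_le_U2 hQ hA) (ξ • vP F A)) := by
  obtain ⟨C, hC⟩ := exists_cycle hQ hA
  have h : C * xel (q2_nondeg hQ) (three_le_U2 hQ hA) (ξ • vP F A) * C⁻¹ =
      lev (tel hQ hA ξ) := by
    rw [mul_inv_eq_iff_eq_mul]
    refine Subtype.ext (Subtype.ext (LinearEquiv.ext fun z => ?_))
    show app C (app (xel (q2_nondeg hQ) (three_le_U2 hQ hA) (ξ • vP F A)) z) =
      app (lev (tel hQ hA ξ)) (app C z)
    rw [hC, app_xel, lev_apply, tel_apply, hC]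
    refine Prod.ext ?_ (Prod.ext ?_ (Prod.ext ?_ (Prod.ext ?_ (Prod.ext ?_ (Prod.ext ?_ ?_))))) <;>
      simp [polar_hyp, hyp_apply] <;> ring
  rw [← h, Representation.char_conj]

theorem mult_sum_eq (w : U2 F A) :
    ∑ ξ : F, psi (q2 Q) w (ξ • vP F A) = if w.2.1 = 0 then (Fintype.card F : ℂ) else 0 := by
  have h : ∀ ξ : F, polar (q2 Q) (ξ • vP F A) w = ξ * w.2.1 := fun ξ => by simp [polar_hyp]
  simp only [psi, h]
  split_ifs with h0
  · simp [h0]
  · refine sum_chi0_comp (LinearMap.mulRight F w.2.1) fun hz => h0 ?_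
    simpa using LinearMap.congr_fun hz 1

/-- The two ways of computing the number of fixed vectors of a long root group. -/
theorem trace_identity
    (hC : ∀ h, fixRep (q2_nondeg hQ) (three_le_U2 hQ hA) ρ h = 1)
    (hfix : ∀ (ξ : F) (w : U2 F A), w ≠ 0 → w.2.1 = 0 → w.2.2.2.1 = 0 →
      LinearMap.trace ℂ V (ρ (lev (tel hQ hA ξ)) * E (q2_nondeg hQ) (three_le_U2 hQ hA) ρ w) =
        mult (q2_nondeg hQ) (three_le_U2 hQ hA) ρ w) :
    (Fintype.card F : ℤ) * ∑ w ∈ Finset.univ.filter (fun w : U2 F A => w ≠ 0),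
        (if w.2.1 = 0 then (mult (q2_nondeg hQ) (three_le_U2 hQ hA) ρ w : ℤ) else 0) =
      (∑ w ∈ Finset.univ.filter (fun w : U2 F A => w ≠ 0),
        (mult (q2_nondeg hQ) (three_le_U2 hQ hA) ρ w : ℤ)) +
      ((Fintype.card F : ℤ) - 1) * ∑ w ∈ Finset.univ.filter (fun w : U2 F A => w ≠ 0),
        (if w.2.1 = 0 ∧ w.2.2.2.1 = 0 then
          (mult (q2_nondeg hQ) (three_le_U2 hQ hA) ρ w : ℤ) else 0) := by
  set m : U2 F A → ℂ := fun w => (mult (q2_nondeg hQ) (three_le_U2 hQ hA) ρ w : ℂ) with hm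
  set nz := Finset.univ.filter (fun w : U2 F A => w ≠ 0) with hnz
  have hsplit : ∀ f : U2 F A → ℂ, ∑ w, f w = f 0 + ∑ w ∈ nz, f w := fun f => by
    rw [← Finset.add_sum_erase _ _ (Finset.mem_univ (0 : U2 F A)), hnz,
      Finset.filter_ne']
  have hL : ∑ ξ : F, ρ.character (xel (q2_nondeg hQ) (three_le_U2 hQ hA) (ξ • vP F A)) =
      (Fintype.card F : ℂ) * (m 0 + ∑ w ∈ nz, if w.2.1 = 0 then m w else 0) := by
    simp only [character_xel]
    rw [Finset.sum_comm, hsplit]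
    simp only [← Finset.sum_mul, mult_sum_eq hQ hA]
    rw [mul_add, Finset.mul_sum]
    refine congrArg₂ (· + ·) (by simp [hm]) (Finset.sum_congr rfl fun w _ => ?_)
    split_ifs <;> simp [hm]
  have hT : ∀ ξ : F, ξ ≠ 0 → ρ.character (lev (tel hQ hA ξ)) =
      m 0 + ∑ w ∈ nz, if w.2.1 = 0 ∧ w.2.2.2.1 = 0 then m w else 0 := by
    intro ξ hξ
    rw [character_eq (q2_nondeg hQ) (three_le_U2 hQ hA) ρ (lev (tel hQ hA ξ)) _
      (fun w => ((tel hQ hA ξ : OQ (q2 Q)) : U2 F A ≃ₗ[F] U2 F A) w)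
      ((tel hQ hA ξ : OQ (q2 Q)) : U2 F A ≃ₗ[F] U2 F A).bijective
      (lev_xel _ _ _) (fun a b => OQ.map_polar _ a b), Finset.sum_filter, hsplit]
    refine congrArg₂ (· + ·) ?_ (Finset.sum_congr rfl fun w hw => ?_)
    · rw [if_pos (map_zero _), trace_lev_E_zero, Representation.character, hC,
        LinearMap.trace_one]
      rfl
    · simp only [tel_fix_iff hQ hA hξ]
      by_cases hc : w.2.1 = 0 ∧ w.2.2.2.1 = 0
      · rw [if_pos hc, if_pos hc]
        exact hfix ξ w (Finset.mem_filter.1 hw).2 hc.1 hc.2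
      · rw [if_neg hc, if_neg hc]
  have hR : ∑ ξ : F, ρ.character (lev (tel hQ hA ξ)) =
      (m 0 + ∑ w ∈ nz, m w) + ((Fintype.card F : ℂ) - 1) *
        (m 0 + ∑ w ∈ nz, if w.2.1 = 0 ∧ w.2.2.2.1 = 0 then m w else 0) := by
    rw [← Finset.add_sum_erase _ _ (Finset.mem_univ (0 : F)), tel_zero, map_one,
      Representation.char_one, finrank_eq_sum (q2_nondeg hQ) (three_le_U2 hQ hA) ρ, Nat.cast_sum,
      hsplit, Finset.sum_congr rfl fun ξ hξ => hT ξ (Finset.ne_of_mem_erase hξ), Finset.sum_const,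
      Finset.card_erase_of_mem (Finset.mem_univ _), Finset.card_univ, nsmul_eq_mul,
      Nat.cast_sub Fintype.card_pos, Nat.cast_one]
  have key := hL.symm.trans ((Finset.sum_congr rfl fun ξ _ =>
    (character_tel hQ hA ρ ξ).symm).trans hR)
  have : ((Fintype.card F : ℂ) * ∑ w ∈ nz, if w.2.1 = 0 then m w else 0) =
      (∑ w ∈ nz, m w) + ((Fintype.card F : ℂ) - 1) *
        ∑ w ∈ nz, if w.2.1 = 0 ∧ w.2.2.2.1 = 0 then m w else 0 := by
    linear_combination key
  simp only [hm] at this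
  exact_mod_cast this

end CfsgLib.OrthDeg
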