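import Cfsg.Agent.Lib.Geo.OrthMinDeg.Basic
import Cfsg.Agent.Lib.Geo.SLMin.Weights

/-!
# Weights of the radical of a point stabiliser

Owner: helper23. A representation of `Ω(F × F × U)` is split by the characters of the Eichler maps
at the first vector, which are indexed by `U` through the polar form.
-/

set_option autoImplicit false

namespace CfsgLib.OrthDeg

open Module CfsgLib.Classical.Quad CfsgLib.SLMinDeg
open QuadraticMap (polar polarBilin)

variable {F : Type*} [Field F] [Finite F] {U : Type*} [AddCommGroup U] [Module F U]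
  [FiniteDimensional F U] [Fintype U] {Q : QuadraticForm F U}
  (hQ : (polarBilin Q).Nondegenerate) (h3 : 3 ≤ finrank F U)

/-- The character of `U` attached to a vector. -/
noncomputable def psi (Q : QuadraticForm F U) (w a : U) : ℂ := chi0 F (polar Q a w)

include hQ

omit h3 [FiniteDimensional F U] in
theorem sum_psi {w : U} (hw : w ≠ 0) : ∑ a, psi Q w a = 0 := by
  have : Fintype F := Fintype.ofFinite F
  refine sum_chi0_comp ((polarBilin Q).flip w) fun h => hw (hQ.2 w fun y => ?_)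
  exact LinearMap.congr_fun h y

omit hQ h3 [FiniteDimensional F U] [Fintype U] in
theorem psi_add (w a b : U) : psi Q w (a + b) = psi Q w a * psi Q w b := by
  rw [psi, psi, psi, polar_add_left', AddChar.map_add_eq_mul]

omit hQ h3 [FiniteDimensional F U] [Fintype U] in
theorem psi_sub_left (v w a : U) : psi Q (v - w) a = psi Q v a * chi0 F (-(polar Q a w)) := by
  rw [psi, psi, QuadraticMap.polar_sub_right, sub_eq_add_neg, AddChar.map_add_eq_mul]

omit hQ h3 [FiniteDimensional F U] [Fintype U] in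
theorem psi_zero_left (a : U) : psi Q 0 a = 1 := by
  rw [psi, QuadraticMap.polar_zero_right, AddChar.map_zero_eq_one]

variable {V : Type*} [AddCommGroup V] [Module ℂ V] (ρ : Representation ℂ (Om Q) V)

/-- The projection on the weight space of `w`. -/
noncomputable def E (w : U) : Module.End ℂ V :=
  ((Fintype.card U : ℕ) : ℂ)⁻¹ • ∑ a, chi0 F (-(polar Q a w)) • ρ (xel hQ h3 a)

omit hQ in
theorem card_ne : ((Fintype.card U : ℕ) : ℂ) ≠ 0 := Nat.cast_ne_zero.2 Fintype.card_ne_zero

theorem xel_mul_E (b w : U) :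
    ρ (xel hQ h3 b) * E hQ h3 ρ w = psi Q w b • E hQ h3 ρ w := by
  rw [E, mul_smul_comm, smul_comm (psi Q w b)]
  congr 1
  rw [Finset.mul_sum, Finset.smul_sum]
  refine Fintype.sum_equiv (Equiv.addLeft b) _ _ fun a => ?_
  rw [mul_smul_comm, ← map_mul, ← xel_add, Equiv.coe_addLeft, smul_smul, psi,
    ← AddChar.map_add_eq_mul, polar_add_left', neg_add, ← add_assoc, add_neg_cancel, zero_add]

theorem sum_E : ∑ w, E hQ h3 ρ w = 1 := by
  classical
  simp only [E, ← Finset.smul_sum]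
  rw [Finset.sum_comm, Finset.sum_eq_single (0 : U)]
  · simp only [← Finset.sum_smul, QuadraticMap.polar_zero_left, neg_zero,
      AddChar.map_zero_eq_one, Finset.sum_const, Finset.card_univ, nsmul_eq_mul, mul_one]
    rw [xel_zero, map_one, smul_smul, inv_mul_cancel₀ card_ne, one_smul]
  · intro a _ ha
    rw [← Finset.sum_smul]
    have h : ∑ w : U, chi0 F (-(polar Q a w)) = 0 := by
      rw [← sum_psi hQ (neg_ne_zero.2 ha)]
      refine Finset.sum_congr rfl fun w _ => ?_
      rw [psi, QuadraticMap.polar_neg_right, QuadraticMap.polar_comm]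
    rw [h, zero_smul]
  · simp

theorem E_mul_E [DecidableEq U] (u v : U) :
    E hQ h3 ρ u * E hQ h3 ρ v = if u = v then E hQ h3 ρ v else 0 := by
  conv_lhs => rw [E, smul_mul_assoc, Finset.sum_mul]
  simp only [smul_mul_assoc, xel_mul_E, smul_smul, ← Finset.sum_smul]
  have h : ∀ a, chi0 F (-(polar Q a u)) * psi Q v a = psi Q (v - u) a := fun a => by
    rw [psi_sub_left, mul_comm]
  simp only [h]
  by_cases huv : u = v
  · subst huv
    simp only [sub_self, psi_zero_left, Finset.sum_const, Finset.card_univ, nsmul_eq_mul, mul_one,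
      if_true]
    rw [inv_mul_cancel₀ card_ne, one_smul]
  · rw [if_neg huv, sum_psi hQ (sub_ne_zero.2 (Ne.symm huv)), mul_zero, zero_smul]

theorem E_idem (w : U) : E hQ h3 ρ w * E hQ h3 ρ w = E hQ h3 ρ w := by
  classical
  rw [E_mul_E, if_pos rfl]

theorem E_orth {u v : U} (h : u ≠ v) : E hQ h3 ρ u * E hQ h3 ρ v = 0 := by
  classical
  rw [E_mul_E, if_neg h]

/-- Conjugation moves the weights. -/
theorem mul_E (g : Om Q) (φ τ : U → U) (hφ : Function.Bijective φ)
    (hg : ∀ a, g * xel hQ h3 a = xel hQ h3 (φ a) * g)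
    (hτ : ∀ a w, polar Q (φ a) (τ w) = polar Q a w) (w : U) :
    ρ g * E hQ h3 ρ w = E hQ h3 ρ (τ w) * ρ g := by
  rw [E, E, mul_smul_comm, smul_mul_assoc, Finset.mul_sum, Finset.sum_mul]
  congr 1
  refine Fintype.sum_equiv (Equiv.ofBijective φ hφ) _ _ fun a => ?_
  rw [mul_smul_comm, smul_mul_assoc, Equiv.ofBijective_apply, hτ, ← map_mul, ← map_mul, hg]

theorem lev_mul_E (h : commutator (OQ Q)) (w : U) :
    ρ (lev h) * E hQ h3 ρ w = E hQ h3 ρ (((h : OQ Q) : U ≃ₗ[F] U) w) * ρ (lev h) :=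
  mul_E hQ h3 ρ (lev h) _ _ ((h : OQ Q) : U ≃ₗ[F] U).bijective (lev_xel hQ h3 h)
    (fun a b => OQ.map_polar (h : OQ Q) a b) w

/-- A vector lies in a weight space. -/
theorem mem_range_E {w : U} {v : V} :
    v ∈ LinearMap.range (E hQ h3 ρ w) ↔ ∀ a, ρ (xel hQ h3 a) v = psi Q w a • v := by
  constructor
  · rintro ⟨u, rfl⟩ a
    exact LinearMap.congr_fun (xel_mul_E hQ h3 ρ a w) u
  · intro h
    refine ⟨v, ?_⟩
    rw [E, LinearMap.smul_apply, LinearMap.sum_apply]
    have h1 : ∀ a, chi0 F (-(polar Q a w)) * psi Q w a = 1 := fun a => by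
      rw [psi, ← AddChar.map_add_eq_mul, neg_add_cancel, AddChar.map_zero_eq_one]
    simp only [LinearMap.smul_apply, h, smul_smul, h1, one_smul, Finset.sum_const,
      Finset.card_univ, ← Nat.cast_smul_eq_nsmul ℂ]
    rw [inv_mul_cancel₀ card_ne, one_smul]

theorem mem_range_E_zero {v : V} :
    v ∈ LinearMap.range (E hQ h3 ρ 0) ↔ ∀ a, ρ (xel hQ h3 a) v = v := by
  rw [mem_range_E]
  simp only [psi_zero_left, one_smul]

/-- The multiplicity of a weight. -/
noncomputable def mult (w : U) : ℕ := finrank ℂ (LinearMap.range (E hQ h3 ρ w))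

theorem lev_mem_range (h : commutator (OQ Q)) {v : V} (hv : v ∈ LinearMap.range (E hQ h3 ρ 0)) :
    ρ (lev h) v ∈ LinearMap.range (E hQ h3 ρ 0) := by
  obtain ⟨u, rfl⟩ := hv
  refine ⟨ρ (lev h) u, ?_⟩
  have := LinearMap.congr_fun (lev_mul_E hQ h3 ρ h 0) u
  rw [map_zero] at this
  exact this.symm

/-- The representation of `Ω(U)` on the fixed space of the radical. -/
noncomputable def fixRep :
    Representation ℂ (commutator (OQ Q)) (LinearMap.range (E hQ h3 ρ 0)) where
  toFun h := (ρ (lev h)).restrict fun _ hv => lev_mem_range hQ h3 ρ h hv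
  map_one' := LinearMap.ext fun w => Subtype.ext (by simp)
  map_mul' a b := LinearMap.ext fun w => Subtype.ext (by simp)

theorem coe_fixRep (h : commutator (OQ Q)) (v : LinearMap.range (E hQ h3 ρ 0)) :
    (fixRep hQ h3 ρ h v : V) = ρ (lev h) v := rfl

theorem E_eq_zero {w : U} (h : mult hQ h3 ρ w = 0) [FiniteDimensional ℂ V] :
    E hQ h3 ρ w = 0 := by
  rw [mult, Submodule.finrank_eq_zero, LinearMap.range_eq_bot] at h
  exact h

variable [FiniteDimensional ℂ V]

theorem trace_E (w : U) : LinearMap.trace ℂ V (E hQ h3 ρ w) = mult hQ h3 ρ w := by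
  have h : LinearMap.IsProj (LinearMap.range (E hQ h3 ρ w)) (E hQ h3 ρ w) :=
    ⟨fun v => LinearMap.mem_range_self _ v, fun v hv => by
      obtain ⟨u, rfl⟩ := hv
      exact LinearMap.congr_fun (E_idem hQ h3 ρ w) u⟩
  exact h.trace

theorem mult_map (g : Om Q) (φ τ : U → U) (hφ : Function.Bijective φ)
    (hg : ∀ a, g * xel hQ h3 a = xel hQ h3 (φ a) * g)
    (hτ : ∀ a w, polar Q (φ a) (τ w) = polar Q a w) (w : U) :
    mult hQ h3 ρ (τ w) = mult hQ h3 ρ w := by
  have h1 : E hQ h3 ρ (τ w) = ρ g * (E hQ h3 ρ w * ρ g⁻¹) := by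
    rw [← mul_assoc, mul_E hQ h3 ρ g φ τ hφ hg hτ, mul_assoc, ← map_mul, mul_inv_cancel, map_one,
      mul_one]
  have h2 : LinearMap.trace ℂ V (E hQ h3 ρ (τ w)) = LinearMap.trace ℂ V (E hQ h3 ρ w) := by
    rw [h1, LinearMap.trace_mul_comm, mul_assoc, ← map_mul, inv_mul_cancel, map_one, mul_one]
  rw [trace_E, trace_E] at h2
  exact_mod_cast h2

theorem mult_lev (h : commutator (OQ Q)) (w : U) :
    mult hQ h3 ρ (((h : OQ Q) : U ≃ₗ[F] U) w) = mult hQ h3 ρ w :=
  mult_map hQ h3 ρ (lev h) _ _ ((h : OQ Q) : U ≃ₗ[F] U).bijective (lev_xel hQ h3 h)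
    (fun a b => OQ.map_polar (h : OQ Q) a b) w

theorem character_xel (a : U) :
    ρ.character (xel hQ h3 a) = ∑ w, psi Q w a * mult hQ h3 ρ w := by
  have h : ρ (xel hQ h3 a) = ∑ w, psi Q w a • E hQ h3 ρ w := by
    simp only [← xel_mul_E, ← Finset.mul_sum, sum_E, mul_one]
  rw [Representation.character, h, map_sum]
  simp only [map_smul, trace_E, smul_eq_mul]

theorem finrank_eq_sum : finrank ℂ V = ∑ w, mult hQ h3 ρ w := by
  have h := character_xel hQ h3 ρ (0 : U)
  rw [xel_zero, Representation.char_one] at h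
  simp only [psi, QuadraticMap.polar_zero_left, AddChar.map_zero_eq_one, one_mul] at h
  exact_mod_cast h

/-- The trace of an element permuting the weights. -/
theorem character_eq [DecidableEq U] (g : Om Q) (φ τ : U → U) (hφ : Function.Bijective φ)
    (hg : ∀ a, g * xel hQ h3 a = xel hQ h3 (φ a) * g)
    (hτ : ∀ a w, polar Q (φ a) (τ w) = polar Q a w) :
    ρ.character g = ∑ w ∈ Finset.univ.filter (fun w => τ w = w),
      LinearMap.trace ℂ V (ρ g * E hQ h3 ρ w) := by
  conv_lhs => rw [Representation.character, ← mul_one (ρ g), ← sum_E hQ h3 ρ, Finset.mul_sum, map_sum]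
  refine (Finset.sum_filter_of_ne (p := fun w => τ w = w) fun w _ hne => ?_).symm
  by_contra hw
  refine hne ?_
  rw [← E_idem hQ h3 ρ w, ← mul_assoc, LinearMap.trace_mul_comm,
    mul_E hQ h3 ρ g φ τ hφ hg hτ, ← mul_assoc, E_orth hQ h3 ρ (Ne.symm hw), zero_mul, map_zero]

/-- Without non-zero weights the representation is trivial. -/
theorem eq_one_of_mult (h : ∀ w, w ≠ 0 → mult hQ h3 ρ w = 0) (g : Om Q) : ρ g = 1 := by
  classical
  have hx : ∀ a, xel hQ h3 a ∈ MonoidHom.ker ρ := fun a => by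
    have h1 := sum_E hQ h3 ρ
    rw [Finset.sum_eq_single (0 : U) (fun w _ hw => E_eq_zero hQ h3 ρ (h w hw)) (by simp)] at h1
    have h2 := xel_mul_E hQ h3 ρ a 0
    rwa [h1, mul_one, psi_zero_left, one_smul] at h2
  have := eq_top_of_xel_mem hQ h3 (MonoidHom.ker ρ) hx
  exact MonoidHom.mem_ker.1 (this ▸ Subgroup.mem_top g)

/-- The trace on the fixed space. -/
theorem trace_lev_E_zero (h : commutator (OQ Q)) :
    LinearMap.trace ℂ V (ρ (lev h) * E hQ h3 ρ 0) = (fixRep hQ h3 ρ).character h := by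
  set C := LinearMap.range (E hQ h3 ρ 0)
  let π : V →ₗ[ℂ] C := (E hQ h3 ρ 0).rangeRestrict
  have h1 : ρ (lev h) * E hQ h3 ρ 0 = (ρ (lev h) ∘ₗ C.subtype) ∘ₗ π := rfl
  rw [h1, LinearMap.trace_comp_comm', Representation.character]
  congr 1
  refine LinearMap.ext fun v => Subtype.ext ?_
  show E hQ h3 ρ 0 (ρ (lev h) v.1) = ρ (lev h) v.1
  obtain ⟨u, hu⟩ := lev_mem_range hQ h3 ρ h v.2
  rw [← hu]
  exact LinearMap.congr_fun (E_idem hQ h3 ρ 0) u

end CfsgLib.OrthDeg
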